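import Mathlib

/-!
# Signs of outer automorphism groups

`OutSign X`: every outer involutory automorphism of `X` is mapped to `-1` by a homomorphism `Aut X → {±1}` which is
trivial on the inner automorphisms.

`exists_lam`: `D` a perfect normal subgroup of `H` with `D / Z(D) ≅ X`, `OutSign X`, `t ∈ H` an involution which is not
in `D C_H(D)`: there is a homomorphism `H → {±1}` mapping `t` to `-1` and `D C_H(D)` to `1`.
-/

set_option autoImplicit false

open scoped commutatorElement

namespace Cfsg.Agent.OddHalf.Table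

open Subgroup

/-- Every involutory outer automorphism of `X` is detected by a sign of `Out X`. -/
def OutSign (X : Type*) [Group X] : Prop :=
  ∀ α : MulAut X, α * α = 1 → (∀ x : X, α ≠ MulAut.conj x) →
    ∃ lam : MulAut X →* ℤˣ, (∀ x : X, lam (MulAut.conj x) = 1) ∧ lam α = -1

namespace OutSign

variable {X : Type*} [Group X] {Y : Type*} [Group Y]

theorem of_forall_inner (h : ∀ α : MulAut X, ∃ x : X, α = MulAut.conj x) : OutSign X := by
  intro α _ hα
  obtain ⟨x, hx⟩ := h α
  exact absurd hx (hα x)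

/-- `|Out X| ≤ 2` -/
theorem of_mul_inner (h : ∀ α β : MulAut X, (∀ x, α ≠ MulAut.conj x) → (∀ x, β ≠ MulAut.conj x) →
    ∃ x : X, α * β = MulAut.conj x) : OutSign X := by
  classical
  intro α _ hα
  let f : MulAut X → ℤˣ := fun β => if ∃ x : X, β = MulAut.conj x then 1 else -1
  have f1 : ∀ β, (∃ x : X, β = MulAut.conj x) → f β = 1 := fun β hβ => if_pos hβ
  have f2 : ∀ β, (¬ ∃ x : X, β = MulAut.conj x) → f β = -1 := fun β hβ => if_neg hβ
  have hmul : ∀ β γ, f (β * γ) = f β * f γ := by
    intro β γ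
    by_cases hβ : ∃ x : X, β = MulAut.conj x
    · obtain ⟨b, hb⟩ := hβ
      rw [f1 β ⟨b, hb⟩, one_mul]
      by_cases hγ : ∃ x : X, γ = MulAut.conj x
      · obtain ⟨c, hc⟩ := hγ
        rw [f1 γ ⟨c, hc⟩]
        exact f1 _ ⟨b * c, by rw [hb, hc, map_mul]⟩
      · rw [f2 γ hγ]
        apply f2
        rintro ⟨x, hx⟩
        exact hγ ⟨b⁻¹ * x, by rw [map_mul, ← hx, hb, map_inv]; group⟩
    · rw [f2 β hβ]
      by_cases hγ : ∃ x : X, γ = MulAut.conj x
      · obtain ⟨c, hc⟩ := hγ
        rw [f1 γ ⟨c, hc⟩, mul_one]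
        apply f2
        rintro ⟨x, hx⟩
        exact hβ ⟨x * c⁻¹, by rw [map_mul, ← hx, hc, map_inv]; group⟩
      · rw [f2 γ hγ]
        have : (-1 : ℤˣ) * -1 = 1 := by decide
        rw [this]
        exact f1 _ (h β γ (fun x hx => hβ ⟨x, hx⟩) (fun x hx => hγ ⟨x, hx⟩))
  refine ⟨MonoidHom.mk' f hmul, fun x => f1 _ ⟨x, rfl⟩, f2 α ?_⟩
  rintro ⟨x, hx⟩
  exact hα x hx

/-- a homomorphism `Aut X → {±1}` whose kernel is the group of inner automorphisms -/
theorem of_hom (lam : MulAut X →* ℤˣ) (h : ∀ α : MulAut X, lam α = 1 ↔ ∃ x : X, α = MulAut.conj x) : OutSign X := by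
  intro α _ hα
  refine ⟨lam, fun x => (h _).2 ⟨x, rfl⟩, ?_⟩
  rcases Int.units_eq_one_or (lam α) with h1 | h1
  · obtain ⟨x, hx⟩ := (h α).1 h1
    exact absurd hx (hα x)
  · exact h1

theorem of_equiv (e : X ≃* Y) (h : OutSign X) : OutSign Y := by
  intro α hα hout
  let f : MulAut Y ≃* MulAut X := MulAut.congr e.symm
  have hf : ∀ (β : MulAut Y) (x : X), f β x = e.symm (β (e x)) := fun β x => rfl
  have hconj : ∀ y : Y, f (MulAut.conj y) = MulAut.conj (e.symm y) := by
    intro y
    apply MulEquiv.ext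
    intro x
    rw [hf, MulAut.conj_apply, MulAut.conj_apply, map_mul, map_mul, map_inv, e.symm_apply_apply]
  obtain ⟨lam, h1, h2⟩ := h (f α) (by rw [← map_mul, hα, map_one]) (by
    intro x hx
    apply hout (e x)
    apply f.injective
    rw [hx, hconj, e.symm_apply_apply])
  refine ⟨lam.comp f.toMonoidHom, fun y => ?_, h2⟩
  change lam (f (MulAut.conj y)) = 1
  rw [hconj, h1]

theorem congr (e : X ≃* Y) : OutSign X ↔ OutSign Y :=
  ⟨of_equiv e, of_equiv e.symm⟩

end OutSign

section Quasisimple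

variable {L : Type*} [Group L]

/-- The automorphism of the central quotient induced by an automorphism. -/
def quoAut (L : Type*) [Group L] : MulAut L →* MulAut (L ⧸ center L) where
  toFun φ := QuotientGroup.congr (center L) (center L) φ (by
    exact (characteristic_iff_map_eq.1 (inferInstance : (center L).Characteristic) φ))
  map_one' := by
    apply MulEquiv.ext
    intro x
    induction x using QuotientGroup.induction_on with
    | H a => rfl
  map_mul' φ ψ := by
    apply MulEquiv.ext
    intro x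
    induction x using QuotientGroup.induction_on with
    | H a => rfl

theorem quoAut_mk (φ : MulAut L) (x : L) :
    quoAut L φ (QuotientGroup.mk x) = QuotientGroup.mk (φ x) := rfl

/-- An automorphism of a perfect group which is trivial modulo the centre is trivial. -/
theorem eq_one_of_quoAut_eq_one (hL : commutator L = ⊤) {φ : MulAut L} (h : quoAut L φ = 1) : φ = 1 := by
  have h1 : ∀ x : L, x⁻¹ * φ x ∈ center L := by
    intro x
    have h2 : quoAut L φ (QuotientGroup.mk x) = QuotientGroup.mk x := by rw [h]; rfl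
    rw [quoAut_mk] at h2
    exact QuotientGroup.eq.1 h2.symm
  let f : L →* center L :=
    { toFun := fun x => ⟨x⁻¹ * φ x, h1 x⟩
      map_one' := by
        apply Subtype.ext
        simp
      map_mul' := fun x y => by
        apply Subtype.ext
        change (x * y)⁻¹ * φ (x * y) = (x⁻¹ * φ x) * (y⁻¹ * φ y)
        have h3 := mem_center_iff.1 (h1 x) y⁻¹
        rw [map_mul, mul_inv_rev]
        calc y⁻¹ * x⁻¹ * (φ x * φ y) = (y⁻¹ * (x⁻¹ * φ x)) * φ y := by group
          _ = (x⁻¹ * φ x) * y⁻¹ * φ y := by rw [h3]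
          _ = (x⁻¹ * φ x) * (y⁻¹ * φ y) := by group }
  apply MulEquiv.ext
  intro x
  have h4 : f x = 1 := by
    have h41 : commutator L ≤ f.ker := by
      rw [commutator_def, commutator_le]
      intro a _ b _
      rw [MonoidHom.mem_ker, map_commutatorElement, commutatorElement_eq_one_iff_mul_comm]
      apply Subtype.ext
      exact mem_center_iff.1 (f b).2 _
    rw [hL] at h41
    exact h41 (mem_top x)
  have h5 : x⁻¹ * φ x = 1 := congrArg Subtype.val h4
  change φ x = x
  rw [inv_mul_eq_one] at h5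
  exact h5.symm

theorem quoAut_conj (x : L) : quoAut L (MulAut.conj x) = MulAut.conj (QuotientGroup.mk x) := by
  apply MulEquiv.ext
  intro y
  induction y using QuotientGroup.induction_on with
  | H a => rfl

end Quasisimple

section Lam

variable {H : Type*} [Group H] {D : Subgroup H} {X : Type*} [Group X]

/-- **The sign of an outer involution.** -/
theorem exists_lam (hn : D.Normal) (hD : ⁅D, D⁆ = D) (e : (D ⧸ center D) ≃* X) (hX : OutSign X) {t : H}
    (ht : ∀ x ∈ D, t * t * x = x * (t * t))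
    (hout : ∀ m ∈ D, ∀ c : H, (∀ x ∈ D, c * x = x * c) → t ≠ m * c) :
    ∃ lam : H →* ℤˣ, lam t = -1 ∧ (∀ d ∈ D, lam d = 1) ∧ ∀ c : H, (∀ x ∈ D, c * x = x * c) → lam c = 1 := by
  have hperf : commutator D = ⊤ := by
    rw [commutator_def]
    apply map_injective (Subgroup.subtype_injective D)
    rw [map_commutator, ← MonoidHom.range_eq_map, Subgroup.range_subtype]
    exact hD
  let ρ : H →* MulAut D := MulAut.conjNormal
  have hρ : ∀ (g : H) (x : D), ((ρ g x : D) : H) = g * x * g⁻¹ := fun g x => rfl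
  have hXq : OutSign (D ⧸ center D) := OutSign.of_equiv e.symm hX
  have hsq : ρ t * ρ t = 1 := by
    apply MulEquiv.ext
    intro x
    apply Subtype.ext
    rw [MulAut.mul_apply, hρ, hρ, MulAut.one_apply]
    have h1 := ht x x.2
    calc t * (t * (x : H) * t⁻¹) * t⁻¹ = (t * t * x) * (t * t)⁻¹ := by group
      _ = (x : H) := by rw [h1]; group
  obtain ⟨lam, h1, h2⟩ := hXq (quoAut D (ρ t)) (by rw [← map_mul, hsq, map_one]) (by
    intro q hq
    induction q using QuotientGroup.induction_on with
    | H m =>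
      rw [← quoAut_conj] at hq
      have h3 : quoAut D ((MulAut.conj m)⁻¹ * ρ t) = 1 := by
        rw [map_mul, map_inv, ← hq, inv_mul_cancel]
      have h4 := eq_one_of_quoAut_eq_one hperf h3
      have h5 : ρ t = MulAut.conj m := (inv_mul_eq_one.1 h4).symm
      refine hout m m.2 ((m : H)⁻¹ * t) ?_ (by group)
      intro x hx
      have h6 : t * x * t⁻¹ = m * x * (m : H)⁻¹ := by
        have h7 := congrArg (fun φ : MulAut D => ((φ ⟨x, hx⟩ : D) : H)) h5
        exact h7
      calc (m : H)⁻¹ * t * x = (m : H)⁻¹ * (t * x * t⁻¹) * t := by group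
        _ = (m : H)⁻¹ * (m * x * (m : H)⁻¹) * t := by rw [h6]
        _ = x * ((m : H)⁻¹ * t) := by group)
  refine ⟨lam.comp ((quoAut D).comp ρ), h2, ?_, ?_⟩
  · intro d hd
    have h3 : ρ d = MulAut.conj (⟨d, hd⟩ : D) := by
      apply MulEquiv.ext
      intro x
      apply Subtype.ext
      rfl
    change lam (quoAut D (ρ d)) = 1
    rw [h3, quoAut_conj, h1]
  · intro c hc
    have h3 : ρ c = 1 := by
      apply MulEquiv.ext
      intro x
      apply Subtype.ext
      rw [hρ, hc x x.2, MulAut.one_apply]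
      group
    change lam (quoAut D (ρ c)) = 1
    rw [h3, map_one, map_one]

end Lam

/-- `exists_lam` for subgroups of `G`: `M` a perfect subgroup of `G` normalized by `H ≥ M`. -/
theorem exists_lam_sub {G : Type*} [Group G] {H M : Subgroup G} (hMH : M ≤ H)
    (hn : ∀ h ∈ H, ∀ x ∈ M, h * x * h⁻¹ ∈ M) (hM : ⁅M, M⁆ = M) {X : Type*} [Group X]
    (e : (M ⧸ center M) ≃* X) (hX : OutSign X) {t : G} (htH : t ∈ H)
    (ht : ∀ x ∈ M, t * t * x = x * (t * t))
    (hout : ∀ m ∈ M, ∀ c ∈ H, (∀ x ∈ M, c * x = x * c) → t ≠ m * c) :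
    ∃ lam : H →* ℤˣ, lam ⟨t, htH⟩ = -1 ∧ (∀ d : H, (d : G) ∈ M → lam d = 1) ∧
      ∀ c : H, (∀ x ∈ M, (c : G) * x = x * c) → lam c = 1 := by
  have hn' : (M.subgroupOf H).Normal := by
    constructor
    intro x hx g
    exact mem_subgroupOf.2 (hn g g.2 x (mem_subgroupOf.1 hx))
  have hM' : ⁅M.subgroupOf H, M.subgroupOf H⁆ = M.subgroupOf H := by
    apply map_injective (Subgroup.subtype_injective H)
    rw [map_commutator, map_subgroupOf_eq_of_le hMH, hM]
  let f : (M.subgroupOf H) ≃* M := subgroupOfEquivOfLe hMH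
  have hcen : (center (M.subgroupOf H)).map f.toMonoidHom = center M := by
    ext y
    constructor
    · rintro ⟨x, hx, rfl⟩
      rw [mem_center_iff]
      intro z
      have h1 := mem_center_iff.1 hx (f.symm z)
      have h2 := congrArg f h1
      rw [map_mul, map_mul, f.apply_symm_apply] at h2
      exact h2
    · intro hy
      refine ⟨f.symm y, ?_, f.apply_symm_apply y⟩
      rw [SetLike.mem_coe, mem_center_iff]
      intro z
      apply f.injective
      rw [map_mul, map_mul, f.apply_symm_apply]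
      exact mem_center_iff.1 hy _
  let e' : ((M.subgroupOf H) ⧸ center (M.subgroupOf H)) ≃* X :=
    (QuotientGroup.congr (center (M.subgroupOf H)) (center M) f hcen).trans e
  obtain ⟨lam, h1, h2, h3⟩ := exists_lam hn' hM' e' hX (t := (⟨t, htH⟩ : H))
    (fun x hx => Subtype.ext (ht x (mem_subgroupOf.1 hx)))
    (fun m hm c hc heq => hout m (mem_subgroupOf.1 hm) c c.2
      (fun x hx => congrArg Subtype.val (hc ⟨x, hMH hx⟩ (mem_subgroupOf.2 hx))) (congrArg Subtype.val heq))
  exact ⟨lam, h1, fun d hd => h2 d (mem_subgroupOf.2 hd), fun c hc =>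
    h3 c fun x hx => Subtype.ext (hc x (mem_subgroupOf.1 hx))⟩

end Cfsg.Agent.OddHalf.Table
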