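import Cfsg.Agent.Schreier.ClassPSp
import Cfsg.Agent.OddHalf.Table.Iface17

/-!
# TABLE-17, the row `Sp6(2)`: every automorphism of `Sp_2m(2)`, `m ≥ 3`, is inner
-/

set_option autoImplicit false

namespace Cfsg.Agent.OddHalf.Table.OutSpSix

open Cfsg Cfsg.Agent.Schreier.ClassPSp
open Cfsg.Agent.ClassicalGeometry.SympAutSemi

variable {m : ℕ} {F : Type*} [Field F]

theorem eq_one_of_card (hF : Nat.card F = 2) (x : F) (hx : x ≠ 0) : x = 1 := by
  have hfin : Finite F := Nat.finite_of_card_ne_zero (by rw [hF]; decide)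
  by_contra h
  classical
  have := Fintype.ofFinite F
  have h1 : ({0, 1, x} : Finset F).card ≤ 2 := by
    rw [← hF, Nat.card_eq_fintype_card]
    exact Finset.card_le_univ _
  rw [Finset.card_insert_of_notMem, Finset.card_insert_of_notMem, Finset.card_singleton] at h1
  · omega
  · simpa using fun h2 => h h2.symm
  · simp only [Finset.mem_insert, Finset.mem_singleton, not_or]
    exact ⟨zero_ne_one, fun h2 => hx h2.symm⟩

theorem ringEquiv_eq_refl (hF : Nat.card F = 2) (φ : F ≃+* F) : φ = RingEquiv.refl F := by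
  ext x
  by_cases hx : x = 0
  · rw [hx, map_zero, map_zero]
  · have h1 : φ x ≠ 0 := by simpa using hx
    rw [eq_one_of_card hF _ h1]
    exact (eq_one_of_card hF _ hx).symm

theorem inner (hm : 3 ≤ m) (hF : Nat.card F = 2) (α : MulAut (PSp m F)) :
    ∃ x : PSp m F, α = MulAut.conj x := by
  have hfin : Finite F := Nat.finite_of_card_ne_zero (by rw [hF]; decide)
  obtain ⟨g, hg⟩ := Cfsg.Agent.ClassicalGeometry.SympAutExists.exists_semi (by omega : 2 ≤ m) α
    (Cfsg.Agent.ClassicalGeometry.SympAutOddA.recog (by omega) (Or.inl hm) α)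
  have h1 : g ∈ isom m F := by
    obtain ⟨φ, l, hl, h2⟩ := g.2
    rw [ringEquiv_eq_refl hF φ, eq_one_of_card hF l hl] at h2
    exact h2
  obtain ⟨x, hx⟩ := Psi_isom h1
  exact ⟨x, by rw [hx, hg]⟩

/-- The row `Sp_2m(2)`, `m ≥ 3`. -/
theorem outSign_Sp (hm : 3 ≤ m) (hF : Nat.card F = 2) {X' : Type*} [Group X'] (e : X' ≃* PSp m F) :
    OutSign X' :=
  (OutSign.of_forall_inner (inner hm hF)).of_equiv e.symm

/-- The row `Sp6(2)`. -/
theorem outSign_Sp6 (hF : Nat.card F = 2) {X' : Type*} [Group X'] (e : X' ≃* PSp 3 F) : OutSign X' :=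
  outSign_Sp le_rfl hF e

end Cfsg.Agent.OddHalf.Table.OutSpSix
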