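import Cfsg.Agent.OddHalf.Table.RuInvConj

/-!
# Two classes of involutions in the Rudvalis group

Every involution of the group of the Rudvalis graph is conjugate to `g 13` (2A) or to `g 0` (2B): the classes of
involutions of the Sylow 2-subgroup `T` are lifted through the central series `N g 14 k`.
-/

set_option autoImplicit false
set_option maxRecDepth 100000
set_option exponentiation.threshold 5000

namespace Cfsg.Agent.OddHalf.Table.RuInv

open Cfsg.Agent.SporadicB Cfsg.Agent.Schreier Cfsg.Agent.Schreier.RuSyl Cfsg.Agent.Schreier.PcSeries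
open scoped commutatorElement

/-- comparison of two words in the generators of `T` -/
noncomputable def teq (u v : List ℕ) : Bool := RuInvConj.eqw (RuInvConj.s5 u) (RuInvConj.s5 v)

theorem teq_sound {u v : List ℕ} (h : teq u v = true) : RuSyl.W u = RuSyl.W v := by
  rw [← RuInvConj.W_s5, ← RuInvConj.W_s5]
  exact RuInvConj.eqw_sound h

/-! ### the central series -/

theorem lvls : ∀ k < 14, lvl k (k + 1) = true := by decide +kernel

theorem comm_mem_N {k : ℕ} (hk : k < 14) {h x : RuOrder.H} (hh : h ∈ N g 14 k) (hx : x ∈ RuSyl.T) :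
    ⁅h, x⁆ ∈ N g 14 (k + 1) := comm_le (lvls k hk) (Subgroup.commutator_mem_commutator hh hx)

theorem N_le_T (k : ℕ) : N g 14 k ≤ RuSyl.T := N_mono (Nat.zero_le k)

theorem conj_mem_N {k : ℕ} {x m : RuOrder.H} (hx : x ∈ RuSyl.T) (hm : m ∈ N g 14 k) : x * m * x⁻¹ ∈ N g 14 k :=
  (Subgroup.mem_normalizer_iff.1 (cert.le_normalizer 0 k hx) m).1 hm

theorem g_mem_T {k : ℕ} (hk : k < 14) : g k ∈ RuSyl.T := mem_N (Nat.zero_le k) hk

/-- an element of `N k` lies in `N (k + 1)` or in `g k N (k + 1)` -/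
theorem mem_or {k : ℕ} (hk : k < 14) {h : RuOrder.H} (hh : h ∈ N g 14 k) :
    h ∈ N g 14 (k + 1) ∨ (g k)⁻¹ * h ∈ N g 14 (k + 1) := by
  set M := N g 14 (k + 1) with hM
  have hsq : g k * g k ∈ M := cert.sq k hk
  have hc : ∀ m ∈ M, (g k)⁻¹ * m * g k ∈ M := by
    intro m hm
    have h1 := conj_mem_N (inv_mem (g_mem_T hk)) hm
    rwa [inv_inv] at h1
  rw [N] at hh
  induction hh using Subgroup.closure_induction with
  | one => exact Or.inl (one_mem _)
  | mem x hx =>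
    obtain ⟨i, h1, h2, rfl⟩ := hx
    rcases Nat.eq_or_lt_of_le h1 with h3 | h3
    · right; rw [h3, inv_mul_cancel]; exact one_mem _
    · left; exact mem_N h3 h2
  | mul a b _ _ ha hb =>
    rcases ha with ha | ha <;> rcases hb with hb | hb
    · exact Or.inl (mul_mem ha hb)
    · right
      have e : (g k)⁻¹ * (a * b) = ((g k)⁻¹ * a * g k) * ((g k)⁻¹ * b) := by group
      rw [e]; exact mul_mem (hc a ha) hb
    · right
      rw [← mul_assoc]; exact mul_mem ha hb
    · left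
      have e : a * b = (g k * g k) * (((g k)⁻¹ * ((g k)⁻¹ * a) * g k) * ((g k)⁻¹ * b)) := by group
      rw [e]; exact mul_mem hsq (mul_mem (hc _ ha) hb)
  | inv a _ ha =>
    rcases ha with ha | ha
    · exact Or.inl (inv_mem ha)
    · right
      have e : (g k)⁻¹ * a⁻¹ = ((g k)⁻¹ * ((g k)⁻¹ * a)⁻¹ * g k) * (g k * g k)⁻¹ := by group
      rw [e]; exact mul_mem (hc _ (inv_mem ha)) (inv_mem hsq)

theorem card_N_le : ∀ k ≤ 14, Nat.card RuSyl.T ≤ 2 ^ k * Nat.card (N g 14 k)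
  | 0, _ => by rw [pow_zero, one_mul]; exact le_rfl
  | k + 1, hk => by
    have h1 := card_N_le k (by omega)
    have h2 : Nat.card (N g 14 k) ≤ 2 * Nat.card (N g 14 (k + 1)) := by
      have h3 : Nat.card (Fin 2 × N g 14 (k + 1)) = 2 * Nat.card (N g 14 (k + 1)) := by
        rw [Nat.card_prod]; simp
      rw [← h3]
      refine Nat.card_le_card_of_surjective
        (fun p : Fin 2 × N g 14 (k + 1) => (⟨g k ^ (p.1 : ℕ) * p.2, mul_mem (pow_mem (mem_N le_rfl (by omega)) _)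
          (N_mono (Nat.le_succ k) p.2.2)⟩ : N g 14 k)) ?_
      rintro ⟨h, hh⟩
      rcases mem_or (by omega) hh with h4 | h4
      · exact ⟨(0, ⟨h, h4⟩), Subtype.ext (by simp)⟩
      · exact ⟨(1, ⟨_, h4⟩), Subtype.ext (by simp)⟩
    calc Nat.card RuSyl.T ≤ 2 ^ k * Nat.card (N g 14 k) := h1
      _ ≤ 2 ^ k * (2 * Nat.card (N g 14 (k + 1))) := Nat.mul_le_mul_left _ h2
      _ = 2 ^ (k + 1) * Nat.card (N g 14 (k + 1)) := by ring

theorem g_notMem {k : ℕ} (hk : k < 14) : g k ∉ N g 14 (k + 1) := by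
  intro h
  have e : N g 14 k = N g 14 (k + 1) := by
    rw [N_succ hk, sup_eq_left, Subgroup.zpowers_le]
    exact h
  have h1 := card_N_le k hk.le
  rw [e] at h1
  have h2 : Nat.card (N g 14 (k + 1)) ≤ 2 ^ (13 - k) :=
    Nat.le_of_dvd (by positivity) (cert.card_dvd (13 - k) (k + 1) (by omega))
  have h3 : 2 ^ k * 2 ^ (13 - k) = 2 ^ 13 := by rw [← pow_add]; congr 1; omega
  have h4 : Nat.card RuSyl.T ≤ 2 ^ 13 := by
    rw [← h3]
    exact h1.trans (Nat.mul_le_mul_left _ h2)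
  rw [card_T] at h4
  norm_num at h4

/-! ### the tree -/

/-- certificates -/
inductive Tr
  | one
  | leaf (i : ℕ)
  | die (e : List ℕ)
  | br (s t : Tr)
  | fuse (c e : List ℕ) (t : Tr)

/-- the representatives -/
def lf : List (List ℕ) := [[13], [12], [11], [10], [9], [8, 9], [5, 6, 10], [4, 7, 10], [4, 5, 10], [3, 7, 11], [2], [1], [0], [0, 7, 9, 10], [0, 7, 8, 9]]

/-- the check -/
noncomputable def chk : Tr → List ℕ → ℕ → Bool
  | Tr.one, xs, k => Nat.beq k 14 && xs.isEmpty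
  | Tr.leaf i, xs, k => Nat.beq k 14 && (Nat.blt i 15 && teq (ex xs) (ex (lf.getD i [])))
  | Tr.die e, xs, k => Nat.blt k 14 && (ge (k + 1) e && teq (ex xs ++ ex xs) (gwd k ++ ex e))
  | Tr.br s t, xs, k => Nat.blt k 14 && (chk s xs (k + 1) && chk t (xs ++ [k]) (k + 1))
  | Tr.fuse c e t, xs, k => Nat.blt k 14 && (ge (k + 1) e &&
      (teq (ex xs ++ ex c) (ex c ++ (ex xs ++ (gwd k ++ ex e))) && chk t xs (k + 1)))

/-- conjugate to one of the two representatives -/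
def P (y : RuOrder.H) : Prop := IsConj (g 13) y ∨ IsConj (g 0) y

theorem P.of_isConj {x y : RuOrder.H} (h : P x) (hc : IsConj x y) : P y :=
  h.imp (fun h => h.trans hc) (fun h => h.trans hc)

theorem P_lf : ∀ i < 15, P (RuSyl.W (ex (lf.getD i []))) := by
  intro i hi
  interval_cases i
  · exact Or.inl RuInvConj.isConj_13
  · exact Or.inl RuInvConj.isConj_12
  · exact Or.inl RuInvConj.isConj_11
  · exact Or.inl RuInvConj.isConj_10
  · exact Or.inl RuInvConj.isConj_9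
  · exact Or.inl RuInvConj.isConj_8_9
  · exact Or.inl RuInvConj.isConj_5_6_10
  · exact Or.inl RuInvConj.isConj_4_7_10
  · exact Or.inr RuInvConj.isConj_4_5_10
  · exact Or.inl RuInvConj.isConj_3_7_11
  · exact Or.inl RuInvConj.isConj_2
  · exact Or.inl RuInvConj.isConj_1
  · exact Or.inr RuInvConj.isConj_0
  · exact Or.inr RuInvConj.isConj_0_7_9_10
  · exact Or.inl RuInvConj.isConj_0_7_8_9

theorem W_ex_append_single (xs : List ℕ) (k : ℕ) : RuSyl.W (ex (xs ++ [k])) = RuSyl.W (ex xs) * g k := by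
  rw [W_ex, W_ex, List.map_append, List.prod_append]
  simp

theorem W_ex_mem_T (e : List ℕ) : RuSyl.W (ex e) ∈ RuSyl.T := W_mem_T _

theorem sound : ∀ (t : Tr) (xs : List ℕ) (k : ℕ), chk t xs k = true → ∀ y ∈ RuSyl.T,
    (RuSyl.W (ex xs))⁻¹ * y ∈ N g 14 k → y * y = 1 → y ≠ 1 → P y
  | Tr.one, xs, k, h, y, _, hy, _, hy1 => by
    rw [chk, Bool.and_eq_true] at h
    have hk : k = 14 := Nat.eq_of_beq_eq_true h.1
    have hxs : xs = [] := List.isEmpty_iff.1 h.2
    rw [hk, hxs, N_eq_bot le_rfl, Subgroup.mem_bot] at hy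
    have : RuSyl.W (ex []) = 1 := rfl
    rw [this, inv_one, one_mul] at hy
    exact absurd hy hy1
  | Tr.leaf i, xs, k, h, y, _, hy, _, _ => by
    rw [chk, Bool.and_eq_true, Bool.and_eq_true] at h
    have hk : k = 14 := Nat.eq_of_beq_eq_true h.1
    rw [hk, N_eq_bot le_rfl, Subgroup.mem_bot] at hy
    have h1 : y = RuSyl.W (ex xs) := (inv_mul_eq_one.1 hy).symm
    rw [h1, teq_sound h.2.2]
    exact P_lf i (Nat.blt_eq.mp h.2.1)
  | Tr.die e, xs, k, h, y, hyT, hy, hy2, _ => by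
    rw [chk, Bool.and_eq_true, Bool.and_eq_true] at h
    have hk : k < 14 := Nat.blt_eq.mp h.1
    have hw := W_ex_mem h.2.1
    have h1 := teq_sound h.2.2
    rw [W_append, W_append] at h1
    exfalso
    set x := RuSyl.W (ex xs) with hx
    set r := x⁻¹ * y with hr
    have hxT : x ∈ RuSyl.T := W_ex_mem_T xs
    -- `y * y = x * x * [x⁻¹, r] * (r * r)`
    have h2 : ⁅x⁻¹, r⁆ ∈ N g 14 (k + 1) := by
      rw [← commutatorElement_inv]
      exact inv_mem (comm_mem_N hk hy (inv_mem hxT))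
    have h3 : r * r ∈ N g 14 (k + 1) := by
      rcases mem_or hk hy with h4 | h4
      · exact mul_mem h4 h4
      · have h5 : (g k)⁻¹ * ((g k)⁻¹ * r) * g k ∈ N g 14 (k + 1) := by
          have h6 := conj_mem_N (inv_mem (g_mem_T hk)) h4
          rwa [inv_inv] at h6
        have e2 : r * r = (g k * g k) * (((g k)⁻¹ * ((g k)⁻¹ * r) * g k) * ((g k)⁻¹ * r)) := by group
        rw [e2]
        exact mul_mem (cert.sq k hk) (mul_mem h5 h4)
    have h4 : y * y = x * x * (⁅x⁻¹, r⁆ * (r * r)) := by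
      rw [commutatorElement_def, hr]; group
    have h5 : (g k)⁻¹ = RuSyl.W (ex e) * (⁅x⁻¹, r⁆ * (r * r)) := by
      have h6 : g k * (RuSyl.W (ex e) * (⁅x⁻¹, r⁆ * (r * r))) = 1 := by
        rw [← mul_assoc]
        calc g k * RuSyl.W (ex e) * (⁅x⁻¹, r⁆ * (r * r)) = x * x * (⁅x⁻¹, r⁆ * (r * r)) := by rw [h1]; rfl
          _ = 1 := by rw [← h4, hy2]
      exact (inv_eq_of_mul_eq_one_right h6)
    have h7 : (g k)⁻¹ ∈ N g 14 (k + 1) := by
      rw [h5]; exact mul_mem hw (mul_mem h2 h3)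
    exact g_notMem hk (inv_mem_iff.1 h7)
  | Tr.br s t, xs, k, h, y, hyT, hy, hy2, hy1 => by
    rw [chk, Bool.and_eq_true, Bool.and_eq_true] at h
    have hk : k < 14 := Nat.blt_eq.mp h.1
    rcases mem_or hk hy with h4 | h4
    · exact sound s xs (k + 1) h.2.1 y hyT h4 hy2 hy1
    · refine sound t (xs ++ [k]) (k + 1) h.2.2 y hyT ?_ hy2 hy1
      rw [W_ex_append_single, mul_inv_rev, mul_assoc]
      exact h4
  | Tr.fuse c e t, xs, k, h, y, hyT, hy, hy2, hy1 => by
    rw [chk, Bool.and_eq_true, Bool.and_eq_true, Bool.and_eq_true] at h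
    have hk : k < 14 := Nat.blt_eq.mp h.1
    have hw := W_ex_mem h.2.1
    have h1 := teq_sound h.2.2.1
    rw [W_append, W_append, W_append, W_append] at h1
    rcases mem_or hk hy with h4 | h4
    · exact sound t xs (k + 1) h.2.2.2 y hyT h4 hy2 hy1
    · set x := RuSyl.W (ex xs) with hx
      set C := RuSyl.W (ex c) with hC
      have hCT : C ∈ RuSyl.T := W_ex_mem_T c
      have h5 : P (C * y * C⁻¹) := by
        refine sound t xs (k + 1) h.2.2.2 _ (mul_mem (mul_mem hCT hyT) (inv_mem hCT)) ?_ ?_ ?_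
        · -- `x⁻¹ (C y C⁻¹) = C n⁻¹ h' C⁻¹`
          have h6 : g k = x⁻¹ * C⁻¹ * (x * C) * (RuSyl.W (ex e))⁻¹ := by
            rw [h1]
            change g k = x⁻¹ * C⁻¹ * (C * (x * (g k * RuSyl.W (ex e)))) * (RuSyl.W (ex e))⁻¹
            group
          have h7 : x⁻¹ * (C * y * C⁻¹) = C * ((RuSyl.W (ex e))⁻¹ * ((g k)⁻¹ * (x⁻¹ * y))) * C⁻¹ := by
            have h8 : y = x * (g k * ((g k)⁻¹ * (x⁻¹ * y))) := by group
            conv_lhs => rw [h8]
            generalize (g k)⁻¹ * (x⁻¹ * y) = z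
            rw [h6]
            group
          rw [← hx, h7]
          exact conj_mem_N hCT (mul_mem (inv_mem hw) h4)
        · calc C * y * C⁻¹ * (C * y * C⁻¹) = C * (y * y) * C⁻¹ := by group
            _ = 1 := by rw [hy2]; group
        · intro h6
          apply hy1
          calc y = C⁻¹ * (C * y * C⁻¹) * C := by group
            _ = 1 := by rw [h6]; group
      refine h5.of_isConj (isConj_iff.2 ⟨C⁻¹, ?_⟩)
      group

/-- the certificate -/
def tree : Tr :=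
  (.br (.br (.br (.br (.br (.br (.br (.br (.br (.br (.br (.br (.br (.br .one (.leaf 0)) (.fuse [2] [] (.leaf 1)))
  (.fuse [1] [] (.fuse [3] [] (.leaf 2)))) (.fuse [0] [13] (.fuse [5] [] (.fuse [7] [] (.leaf 3))))) (.fuse [2] [11,
  13] (.fuse [0] [] (.fuse [1] [] (.fuse [8] [] (.leaf 4)))))) (.br (.fuse [1] [13] (.fuse [0] [12, 13] (.fuse [3]
  [13] (.die [])))) (.fuse [1] [12, 13] (.fuse [5] [12, 13] (.fuse [0] [13] (.fuse [2] [] (.leaf 5))))))) (.br
  (.fuse [1] [11, 12, 13] (.fuse [3] [11] (.die []))) (.fuse [1] [10, 11, 12, 13] (.fuse [2] [] (.die [12])))))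
  (.br (.fuse [2] [9, 11, 12] (.br (.fuse [3] [] (.fuse [0] [12, 13] (.fuse [1] [13] (.die [])))) (.fuse [3] [12]
  (.fuse [4] [12] (.die [13]))))) (.fuse [2] [9, 12, 13] (.fuse [1] [11] (.br (.fuse [3] [13] (.die [])) (.fuse
  [0] [] (.die [13]))))))) (.br (.fuse [2] [13] (.br (.fuse [3] [10, 12, 13] (.br (.fuse [4] [12, 13] (.fuse [6]
  [] (.die []))) (.fuse [0] [] (.die [13])))) (.fuse [3] [10, 13] (.fuse [1] [] (.die [13]))))) (.fuse [2] [8, 9]
  (.br (.fuse [3] [13] (.br (.fuse [0] [12] (.die [])) (.fuse [4] [] (.fuse [0] [13] (.fuse [0, 1] [] (.leaf 6)))))) (.fuse [3] [12, 13] (.fuse [1] [12, 13] (.die []))))))) (.br (.fuse [1] [11] (.br (.fuse [3] [9, 10, 11]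
  (.br (.br (.die []) (.die [])) (.fuse [2] [13] (.fuse [4] [13] (.fuse [7] [13] (.die [])))))) (.fuse [3] [9]
  (.br (.br (.fuse [6] [] (.fuse [0] [] (.die []))) (.fuse [0] [12, 13] (.fuse [0, 6] [13] (.fuse [4] [] (.leaf 7))))) (.fuse [2] [11, 13] (.die [12])))))) (.fuse [1] [11, 12, 13] (.fuse [2] [11, 13] (.fuse [3] [12] (.br
  (.br (.fuse [0] [13] (.die [])) (.fuse [4] [12, 13] (.fuse [10] [] (.fuse [6] [] (.leaf 8))))) (.br (.die [13])
  (.die [12, 13])))))))) (.br (.br (.fuse [0] [7, 8, 10, 12, 13] (.br (.fuse [4] [9, 10, 11] (.fuse [5] [10, 12,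
  13] (.die []))) (.fuse [4] [9, 10, 11, 13] (.fuse [1] [10, 11, 12] (.fuse [2] [11, 13] (.br (.fuse [1, 5] []
  (.die [])) (.fuse [2, 6] [13] (.fuse [10] [] (.leaf 9))))))))) (.fuse [0] [7, 8, 10, 12, 13] (.fuse [2] [10, 12]
  (.fuse [4] [9, 10, 11, 12] (.die [12]))))) (.br (.fuse [0] [7, 8, 10, 13] (.fuse [0, 1] [8, 9, 10, 13] (.die
  [9, 13]))) (.fuse [0] [7, 8, 10, 13] (.fuse [2] [10, 11, 12] (.die [10, 13])))))) (.fuse [1] [10] (.fuse [0]
  [11] (.br (.br (.fuse [5] [11, 13] (.fuse [6] [9, 11, 12] (.br (.fuse [3] [] (.fuse [4] [] (.br (.fuse [12] []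
  (.leaf 10)) (.die [])))) (.die [11, 13])))) (.fuse [5] [] (.die [9, 11, 12, 13]))) (.br (.die [11]) (.die [8, 9,
  11, 12])))))) (.br (.fuse [2] [] (.br (.fuse [0] [13] (.fuse [4] [11, 13] (.br (.br (.fuse [7] [11, 12, 13]
  (.fuse [3] [] (.br (.fuse [6] [13] (.fuse [5] [] (.leaf 11))) (.die [])))) (.fuse [7] [11, 13] (.die []))) (.br
  (.die [13]) (.die [10, 12, 13]))))) (.fuse [0] [12] (.die [12, 13])))) (.die []))) (.br (.br (.br (.fuse [2] []
  (.fuse [1] [] (.fuse [3] [7, 8, 10] (.br (.br (.br (.br (.fuse [4] [] (.fuse [4, 6] [13] (.fuse [5] [] (.leaf 12)))) (.die [13])) (.br (.die []) (.fuse [6] [13] (.fuse [6, 8] [13] (.die []))))) (.br (.br (.die [12]) (.fuse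
  [5] [12] (.die [13]))) (.br (.fuse [4] [13] (.die [13])) (.die [12])))) (.br (.br (.br (.fuse [0] [12] (.die
  [])) (.die [12])) (.br (.die []) (.fuse [0] [12, 13] (.fuse [6] [] (.fuse [0, 9] [] (.leaf 13)))))) (.br (.br
  (.die [12, 13]) (.fuse [0] [] (.die [13]))) (.br (.fuse [0] [13] (.fuse [5] [] (.fuse [0, 4] [] (.leaf 14))))
  (.die [])))))))) (.fuse [2] [8, 9, 11] (.fuse [1] [9, 12, 13] (.die [7, 8, 11])))) (.fuse [1] [5, 7, 9, 10, 11,
  13] (.die []))) (.br (.fuse [2] [4, 6, 8, 9, 13] (.br (.die []) (.die [6, 11, 13]))) (.die [4, 5, 6, 8, 10, 12,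
  13]))))

theorem chk_tree : chk tree [] 0 = true := by decide +kernel

theorem P_of_mem_T {y : RuOrder.H} (hy : y ∈ RuSyl.T) (h2 : y * y = 1) (h1 : y ≠ 1) : P y := by
  refine sound tree [] 0 chk_tree y hy ?_ h2 h1
  have : RuSyl.W (ex []) = 1 := rfl
  rw [this, inv_one, one_mul]
  exact hy

/-- **The two classes of involutions.** -/
theorem isConj_or {x : RuOrder.H} (h2 : x * x = 1) (h1 : x ≠ 1) : IsConj (g 13) x ∨ IsConj (g 0) x := by
  have : Fact (Nat.Prime 2) := ⟨Nat.prime_two⟩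
  obtain ⟨P₀, hP⟩ := RuTr.exists_sylow
  have hp : IsPGroup 2 (Subgroup.zpowers x) := by
    refine IsPGroup.of_card (n := 1) ?_
    rw [Nat.card_zpowers, pow_one]
    exact orderOf_eq_prime (by rw [pow_two, h2]) h1
  obtain ⟨Q, hQ⟩ := hp.exists_le_sylow
  obtain ⟨c, hc⟩ := MulAction.exists_smul_eq RuOrder.H Q P₀
  have hx : c * x * c⁻¹ ∈ RuSyl.T := by
    rw [← hP, ← hc, Sylow.coe_subgroup_smul]
    have h3 := Subgroup.smul_mem_pointwise_smul x (MulAut.conj c) (Q : Subgroup RuOrder.H)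
      (hQ (Subgroup.mem_zpowers x))
    simpa using h3
  have h4 : P (c * x * c⁻¹) := by
    refine P_of_mem_T hx ?_ ?_
    · calc c * x * c⁻¹ * (c * x * c⁻¹) = c * (x * x) * c⁻¹ := by group
        _ = 1 := by rw [h2]; group
    · intro h6
      apply h1
      calc x = c⁻¹ * (c * x * c⁻¹) * c := by group
        _ = 1 := by rw [h6]; group
  exact h4.of_isConj (isConj_iff.2 ⟨c⁻¹, by group⟩)

end Cfsg.Agent.OddHalf.Table.RuInv
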