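import Mathlib
import Cfsg.Agent.OddHalf.Table.Iface17

/-!
# Automorphisms and the normaliser of a Sylow subgroup of prime order

`x` generates a self-centralising Sylow `p`-subgroup of `X`, `f x f⁻¹ = x ^ m` with `m ≠ 1` modulo `p`. Every
automorphism of `X` is, up to an inner one, an automorphism `β` with `β f = f`, `β x = x ^ k`, where `k` runs over
representatives of the powers of `m` in the units modulo `p`. If `y` commutes with `f` then `β y ∈ C(f)`.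
-/

set_option autoImplicit false

namespace Cfsg.Agent.OddHalf.Table.CycNorm

variable {X : Type*} [Group X]

/-- A Sylow `p`-subgroup of order `p`: every element of order `p` is conjugate to a power of `x`. -/
theorem exists_conj_pow [Finite X] {p : ℕ} (hp : p.Prime) {x u : X} (hx : orderOf x = p) (hu : orderOf u = p)
    (h2 : ¬ p ^ 2 ∣ Nat.card X) : ∃ (g : X) (k : ℕ), g * u * g⁻¹ = x ^ k := by
  have : Fact p.Prime := ⟨hp⟩
  have hdvd : p ∣ Nat.card X := hx ▸ orderOf_dvd_natCard x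
  have hfac : (Nat.card X).factorization p = 1 := by
    have h0 : Nat.card X ≠ 0 := Nat.card_pos.ne'
    have h1 : 1 ≤ (Nat.card X).factorization p := (hp.dvd_iff_one_le_factorization h0).1 hdvd
    have h3 : ¬ 2 ≤ (Nat.card X).factorization p := fun h => h2 ((hp.pow_dvd_iff_le_factorization h0).2 h)
    omega
  have hcx : Nat.card (Subgroup.zpowers x) = p ^ (Nat.card X).factorization p := by
    rw [Nat.card_zpowers, hx, hfac, pow_one]
  have hcu : Nat.card (Subgroup.zpowers u) = p ^ (Nat.card X).factorization p := by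
    rw [Nat.card_zpowers, hu, hfac, pow_one]
  let P : Sylow p X := Sylow.ofCard (Subgroup.zpowers x) hcx
  let Q : Sylow p X := Sylow.ofCard (Subgroup.zpowers u) hcu
  obtain ⟨g, hg⟩ := MulAction.exists_smul_eq X Q P
  have h1 : g * u * g⁻¹ ∈ Subgroup.zpowers x := by
    have h3 : g * u * g⁻¹ ∈ ((g • Q : Sylow p X) : Subgroup X) := by
      rw [Sylow.coe_subgroup_smul]
      have : (u : X) ∈ (Q : Subgroup X) := Subgroup.mem_zpowers u
      have h4 := Subgroup.smul_mem_pointwise_smul u (MulAut.conj g) (Q : Subgroup X) this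
      simpa using h4
    rw [hg] at h3
    exact h3
  obtain ⟨k, hk⟩ := (mem_powers_iff_mem_zpowers (x := x)).2 h1
  exact ⟨g, k, hk.symm⟩

theorem conj_pow' (g a : X) (i : ℕ) : g * a ^ i * g⁻¹ = (g * a * g⁻¹) ^ i := (conj_pow).symm

/-- Normal form of an automorphism with respect to `⟨x⟩ ⋊ ⟨f⟩`. -/
theorem exists_fix [Finite X] {p m : ℕ} (hp : p.Prime) {x f : X} (hx : orderOf x = p)
    (h2 : ¬ p ^ 2 ∣ Nat.card X) (hC : ∀ c : X, c * x = x * c → ∃ i : ℕ, c = x ^ i) (hf : f * x * f⁻¹ = x ^ m)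
    (hm : ¬ (m ≡ 1 [MOD p])) (α : X ≃* X) :
    ∃ (g : X) (k : ℕ), ¬ p ∣ k ∧ g * α f * g⁻¹ = f ∧ g * α x * g⁻¹ = x ^ k := by
  have : Fact p.Prime := ⟨hp⟩
  have hxp : x ^ p = 1 := hx ▸ pow_orderOf_eq_one x
  have hα : orderOf (α x) = p := by rw [MulEquiv.orderOf_eq, hx]
  obtain ⟨g, k, hk⟩ := exists_conj_pow hp hx hα h2
  have hpk : ¬ p ∣ k := by
    intro h
    have h1 : x ^ k = 1 := orderOf_dvd_iff_pow_eq_one.1 (hx ▸ h)
    rw [h1] at hk
    have h3 : α x = 1 := by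
      have := congrArg (fun t => g⁻¹ * t * g) hk
      simpa [mul_assoc] using this
    rw [h3, orderOf_one] at hα
    exact hp.one_lt.ne hα
  set f' := g * α f * g⁻¹ with hf'
  have h3 : f' * x ^ k * f'⁻¹ = (x ^ k) ^ m := by
    rw [hf', ← hk]
    have h4 : α f * α x * (α f)⁻¹ = (α x) ^ m := by rw [← map_mul, ← map_inv, ← map_mul, hf, map_pow]
    calc g * α f * g⁻¹ * (g * α x * g⁻¹) * (g * α f * g⁻¹)⁻¹ = g * (α f * α x * (α f)⁻¹) * g⁻¹ := by group
      _ = (g * α x * g⁻¹) ^ m := by rw [h4, conj_pow']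
  -- `x` is a power of `x ^ k`
  have hco : Nat.Coprime k p := ((hp.coprime_iff_not_dvd).2 hpk).symm
  obtain ⟨l, hl⟩ : ∃ l : ℕ, (x ^ k) ^ l = x := by
    obtain ⟨l, hl⟩ := Nat.exists_mul_mod_eq_one_of_coprime hco hp.one_lt
    refine ⟨l, ?_⟩
    rw [← pow_mul, ← pow_mod_orderOf, hx, hl.2, pow_one]
  have h5 : f' * x * f'⁻¹ = x ^ m := by
    have h6 : f' * x * f'⁻¹ = (f' * x ^ k * f'⁻¹) ^ l := by
      rw [← conj_pow', hl]
    rw [h6, h3, ← pow_mul, mul_comm m l, pow_mul, hl]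
  have h7 : (f' * f⁻¹) * (x ^ m) = (x ^ m) * (f' * f⁻¹) := by
    have h8 : f' * f⁻¹ * x ^ m * (f' * f⁻¹)⁻¹ = x ^ m := by
      rw [← hf]
      calc f' * f⁻¹ * (f * x * f⁻¹) * (f' * f⁻¹)⁻¹ = f' * x * f'⁻¹ := by group
        _ = f * x * f⁻¹ := by rw [h5, hf]
    exact mul_inv_eq_iff_eq_mul.1 h8
  have hpm : ¬ p ∣ m := by
    intro h
    have h1 : x ^ m = 1 := orderOf_dvd_iff_pow_eq_one.1 (hx ▸ h)
    rw [h1] at hf
    have : x = 1 := by
      have := congrArg (fun t => f⁻¹ * t * f) hf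
      simpa [mul_assoc] using this
    rw [this, orderOf_one] at hx
    exact hp.one_lt.ne hx
  obtain ⟨l', hl'⟩ : ∃ l : ℕ, (x ^ m) ^ l = x := by
    obtain ⟨l, hl⟩ := Nat.exists_mul_mod_eq_one_of_coprime ((hp.coprime_iff_not_dvd).2 hpm).symm hp.one_lt
    refine ⟨l, ?_⟩
    rw [← pow_mul, ← pow_mod_orderOf, hx, hl.2, pow_one]
  have h9 : (f' * f⁻¹) * x = x * (f' * f⁻¹) := by
    have h10 : Commute (f' * f⁻¹) (x ^ m) := h7
    have h11 := h10.pow_right l'
    rw [hl'] at h11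
    exact h11
  obtain ⟨j, hj⟩ := hC _ h9
  -- now `f' = x ^ j * f`; conjugate by a power of `x`
  have hf2 : f' = x ^ j * f := by rw [← hj]; group
  obtain ⟨i, hi⟩ : ∃ i : ℕ, x ^ i * (x ^ j * (x ^ (m * (p - 1))) ^ i) = 1 := by
    -- `i + j + m (p-1) i ≡ 0`
    have hc : ((1 : ZMod p) - m) ≠ 0 := by
      intro h
      apply hm
      rw [← ZMod.natCast_eq_natCast_iff]
      push_cast
      exact (sub_eq_zero.1 h).symm
    obtain ⟨w, hw⟩ : ∃ w : ZMod p, (1 - (m : ZMod p)) * w = 1 := ⟨_, mul_inv_cancel₀ hc⟩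
    refine ⟨ZMod.val (-(j : ZMod p) * w), ?_⟩
    set i := ZMod.val (-(j : ZMod p) * w) with hidef
    have hi1 : ((i : ℕ) : ZMod p) = -(j : ZMod p) * w := by rw [hidef, ZMod.natCast_zmod_val]
    rw [← pow_mul, ← pow_add, ← pow_add]
    apply orderOf_dvd_iff_pow_eq_one.1
    rw [hx, ← ZMod.natCast_eq_zero_iff]
    have hp1 : ((p - 1 : ℕ) : ZMod p) = -1 := by
      rw [Nat.cast_sub hp.one_le, ZMod.natCast_self, Nat.cast_one, zero_sub]
    push_cast
    rw [hp1, hi1]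
    linear_combination (-(j : ZMod p)) * hw
  refine ⟨x ^ i * g, k, hpk, ?_, ?_⟩
  · have h12 : x ^ i * g * α f * (x ^ i * g)⁻¹ = x ^ i * f' * (x ^ i)⁻¹ := by rw [hf']; group
    rw [h12, hf2]
    -- `f (x^i)⁻¹ = (x ^ (m (p-1))) ^ i f`
    have h13 : f * (x ^ i)⁻¹ = (x ^ (m * (p - 1))) ^ i * f := by
      have h14 : f * x⁻¹ * f⁻¹ = x ^ (m * (p - 1)) := by
        have h15 : x⁻¹ = x ^ (p - 1) := by
          rw [inv_eq_iff_mul_eq_one, ← pow_succ', Nat.sub_add_cancel hp.one_le, hxp]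
        rw [h15, conj_pow', hf, ← pow_mul]
      rw [← h14, ← conj_pow', inv_pow]
      group
    calc x ^ i * (x ^ j * f) * (x ^ i)⁻¹ = x ^ i * (x ^ j * (f * (x ^ i)⁻¹)) := by group
      _ = x ^ i * (x ^ j * (x ^ (m * (p - 1))) ^ i) * f := by rw [h13]; group
      _ = f := by rw [hi, one_mul]
  · have h12 : x ^ i * g * α x * (x ^ i * g)⁻¹ = x ^ i * (g * α x * g⁻¹) * (x ^ i)⁻¹ := by group
    rw [h12, hk, (Commute.pow_pow_self x i k).eq, mul_inv_cancel_right]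

/-- The exponent can be changed by powers of `m`. -/
theorem exists_normal [Finite X] {p m : ℕ} (hp : p.Prime) {x f : X} (hx : orderOf x = p)
    (h2 : ¬ p ^ 2 ∣ Nat.card X) (hC : ∀ c : X, c * x = x * c → ∃ i : ℕ, c = x ^ i) (hf : f * x * f⁻¹ = x ^ m)
    (hm : ¬ (m ≡ 1 [MOD p])) (T : List ℕ)
    (hT : ∀ k < p, k ≠ 0 → ∃ j < p, ∃ k' ∈ T, k * m ^ j ≡ k' [MOD p]) (α : X ≃* X) :
    ∃ (g : X) (k : ℕ), k ∈ T ∧ g * α f * g⁻¹ = f ∧ g * α x * g⁻¹ = x ^ k := by
  obtain ⟨g, k, hk, h3, h4⟩ := exists_fix hp hx h2 hC hf hm α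
  obtain ⟨j, -, k', hk', h5⟩ := hT (k % p) (Nat.mod_lt _ hp.pos) (fun h => hk (Nat.dvd_of_mod_eq_zero h))
  refine ⟨f ^ j * g, k', hk', ?_, ?_⟩
  · have h6 : f ^ j * g * α f * (f ^ j * g)⁻¹ = f ^ j * (g * α f * g⁻¹) * (f ^ j)⁻¹ := by group
    rw [h6, h3, (Commute.self_pow f j).symm.eq, mul_inv_cancel_right]
  · have h6 : f ^ j * g * α x * (f ^ j * g)⁻¹ = f ^ j * (g * α x * g⁻¹) * (f ^ j)⁻¹ := by group
    rw [h6, h4]
    have h7 : ∀ j : ℕ, ∀ k : ℕ, f ^ j * x ^ k * (f ^ j)⁻¹ = x ^ (k * m ^ j) := by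
      intro j
      induction j with
      | zero => intro k; simp
      | succ j ih =>
        intro k
        rw [pow_succ]
        calc f ^ j * f * x ^ k * (f ^ j * f)⁻¹ = f ^ j * (f * x ^ k * f⁻¹) * (f ^ j)⁻¹ := by group
          _ = x ^ (k * m ^ (j + 1)) := by rw [conj_pow', hf, ← pow_mul, ih, pow_succ]; ring_nf
    rw [h7]
    apply pow_eq_pow_iff_modEq.2
    rw [hx]
    exact ((Nat.mod_modEq k p).symm.mul_right _).trans h5

/-- The conjugation by `g` after `α`. -/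
theorem conj_mul_apply (g : X) (α : MulAut X) (u : X) : (MulAut.conj g * α) u = g * α u * g⁻¹ := rfl

theorem eq_of_eq_on {S : Set X} (hS : Subgroup.closure S = ⊤) {α β : MulAut X} (h : ∀ s ∈ S, α s = β s) : α = β := by
  ext u
  have h1 := MonoidHom.eqOn_closureM (f := α.toMonoidHom) (g := β.toMonoidHom) (s := S ∪ S⁻¹) (by
    rintro s (hs | hs)
    · exact h s hs
    · have := h _ hs
      rw [map_inv, map_inv] at this
      exact inv_injective this)
  have hu : u ∈ Submonoid.closure (S ∪ S⁻¹) := by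
    rw [← Subgroup.closure_toSubmonoid, Subgroup.mem_toSubmonoid, hS]
    exact Subgroup.mem_top u
  exact h1 hu

/-- If up to inner automorphisms there are at most two possibilities for the images of generators then the quotient of
two outer automorphisms is inner. -/
theorem mul_inv_inner {x f y y' : X} (hgen : Subgroup.closure ({x, f, y} : Set X) = ⊤)
    (h : ∀ α : MulAut X, ∃ g : X, g * α f * g⁻¹ = f ∧ g * α x * g⁻¹ = x ∧ (g * α y * g⁻¹ = y ∨ g * α y * g⁻¹ = y'))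
    {a b : MulAut X} (ha : ∀ u, a ≠ MulAut.conj u) (hb : ∀ u, b ≠ MulAut.conj u) :
    ∃ u, b * a⁻¹ = MulAut.conj u := by
  have h1 : ∀ α : MulAut X, (∀ u, α ≠ MulAut.conj u) → ∃ g : X, (MulAut.conj g * α) f = f ∧
      (MulAut.conj g * α) x = x ∧ (MulAut.conj g * α) y = y' := by
    intro α hα
    obtain ⟨g, hf, hx, hy | hy⟩ := h α
    · exfalso
      have h2 : MulAut.conj g * α = 1 := by
        apply eq_of_eq_on hgen
        rintro s (rfl | rfl | rfl)
        exacts [hx, hf, hy]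
      apply hα g⁻¹
      rw [map_inv]
      exact eq_inv_of_mul_eq_one_right h2
    · exact ⟨g, hf, hx, hy⟩
  obtain ⟨g, hgf, hgx, hgy⟩ := h1 a ha
  obtain ⟨k, hkf, hkx, hky⟩ := h1 b hb
  have h3 : MulAut.conj k * b = MulAut.conj g * a := by
    apply eq_of_eq_on hgen
    rintro s (rfl | rfl | rfl)
    · rw [hgx, hkx]
    · rw [hgf, hkf]
    · rw [hgy, hky]
  refine ⟨k⁻¹ * g, ?_⟩
  rw [map_mul, map_inv, eq_inv_mul_iff_mul_eq, ← mul_assoc, h3, mul_inv_cancel_right]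

/-- The same for a set of generators. -/
theorem mul_inv_inner_set {S : Set X} {w w' : X} (hgen : Subgroup.closure (insert w S) = ⊤)
    (h : ∀ α : MulAut X, ∃ g : X, (∀ s ∈ S, g * α s * g⁻¹ = s) ∧ (g * α w * g⁻¹ = w ∨ g * α w * g⁻¹ = w'))
    {a b : MulAut X} (ha : ∀ u, a ≠ MulAut.conj u) (hb : ∀ u, b ≠ MulAut.conj u) :
    ∃ u, b * a⁻¹ = MulAut.conj u := by
  have h1 : ∀ α : MulAut X, (∀ u, α ≠ MulAut.conj u) → ∃ g : X, (∀ s ∈ S, (MulAut.conj g * α) s = s) ∧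
      (MulAut.conj g * α) w = w' := by
    intro α hα
    obtain ⟨g, hS, hy | hy⟩ := h α
    · exfalso
      have h2 : MulAut.conj g * α = 1 := by
        apply eq_of_eq_on hgen
        rintro s (rfl | hs)
        · exact hy
        · exact hS s hs
      apply hα g⁻¹
      rw [map_inv]
      exact eq_inv_of_mul_eq_one_right h2
    · exact ⟨g, hS, hy⟩
  obtain ⟨g, hgS, hgy⟩ := h1 a ha
  obtain ⟨k, hkS, hky⟩ := h1 b hb
  have h3 : MulAut.conj k * b = MulAut.conj g * a := by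
    apply eq_of_eq_on hgen
    rintro s (rfl | hs)
    · rw [hgy, hky]
    · rw [hgS s hs, hkS s hs]
  refine ⟨k⁻¹ * g, ?_⟩
  rw [map_mul, map_inv, eq_inv_mul_iff_mul_eq, ← mul_assoc, h3, mul_inv_cancel_right]

theorem outSign_of_set {S : Set X} {w w' : X} (hgen : Subgroup.closure (insert w S) = ⊤)
    (h : ∀ α : MulAut X, ∃ g : X, (∀ s ∈ S, g * α s * g⁻¹ = s) ∧ (g * α w * g⁻¹ = w ∨ g * α w * g⁻¹ = w')) :
    OutSign X := by
  apply OutSign.of_mul_inner
  intro α β hα hβ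
  obtain ⟨u, hu⟩ := mul_inv_inner_set hgen h (a := β⁻¹) (b := α) (by
    intro u hu
    apply hβ u⁻¹
    rw [map_inv, ← hu, inv_inv]) hα
  exact ⟨u, by rw [← hu, inv_inv]⟩

/-- If the centraliser of `f` is `⟨f⟩ × ⟨y⟩` then an automorphism fixing `f` maps `y` to `y` or `f ^ N y`. -/
theorem two_cases {f y : X} {N : ℕ} (hfo : orderOf f = 2 * N) (hy : y * y = 1) (hyf : y * f = f * y)
    (hyn : ∀ i : ℕ, y ≠ f ^ i) (hCf : ∀ c : X, c * f = f * c → ∃ i : ℕ, c = f ^ i ∨ c = f ^ i * y) (β : MulAut X)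
    (hβ : β f = f) : β y = y ∨ β y = f ^ N * y := by
  have h1 : β y * f = f * β y := by
    have := congrArg β hyf
    rwa [map_mul, map_mul, hβ] at this
  obtain ⟨i, h | h⟩ := hCf _ h1
  · exfalso
    apply hyn i
    apply β.injective
    rw [h, map_pow, hβ]
  · have h2 : f ^ (2 * i) = 1 := by
      have h3 : β y * β y = 1 := by rw [← map_mul, hy, map_one]
      rw [h] at h3
      have h4 : Commute y (f ^ i) := (show Commute y f from hyf).pow_right i
      calc f ^ (2 * i) = f ^ i * f ^ i * (y * y) := by rw [hy, mul_one, ← pow_add, two_mul]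
        _ = f ^ i * (f ^ i * y) * y := by group
        _ = f ^ i * (y * f ^ i) * y := by rw [← h4.eq]
        _ = f ^ i * y * (f ^ i * y) := by group
        _ = 1 := h3
    have h3 : 2 * N ∣ 2 * i := by rw [← hfo]; exact orderOf_dvd_of_pow_eq_one h2
    obtain ⟨k, rfl⟩ : N ∣ i := Nat.dvd_of_mul_dvd_mul_left (by norm_num) h3
    have hN : (f ^ N) ^ 2 = 1 := by
      rw [← pow_mul, mul_comm, ← hfo, pow_orderOf_eq_one]
    rcases Nat.even_or_odd' k with ⟨l, rfl | rfl⟩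
    · left
      rw [h, pow_mul, pow_mul, hN, one_pow, one_mul]
    · right
      rw [h, pow_mul, pow_succ, pow_mul, hN, one_pow, one_mul]

/-- **Outer automorphism group of order at most two.** -/
theorem mul_inv_inner_of [Finite X] {p m N : ℕ} (hp : p.Prime) {x f y : X} (hx : orderOf x = p)
    (h2 : ¬ p ^ 2 ∣ Nat.card X) (hC : ∀ c : X, c * x = x * c → ∃ i : ℕ, c = x ^ i) (hf : f * x * f⁻¹ = x ^ m)
    (hm : ¬ (m ≡ 1 [MOD p])) (hT : ∀ k < p, k ≠ 0 → ∃ j < p, k * m ^ j ≡ 1 [MOD p])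
    (hfo : orderOf f = 2 * N) (hy : y * y = 1) (hyf : y * f = f * y)
    (hyn : ∀ i : ℕ, y ≠ f ^ i) (hCf : ∀ c : X, c * f = f * c → ∃ i : ℕ, c = f ^ i ∨ c = f ^ i * y)
    (hgen : Subgroup.closure ({x, f, y} : Set X) = ⊤) {a b : MulAut X} (ha : ∀ u, a ≠ MulAut.conj u)
    (hb : ∀ u, b ≠ MulAut.conj u) : ∃ u, b * a⁻¹ = MulAut.conj u := by
  refine mul_inv_inner (y' := f ^ N * y) hgen ?_ ha hb
  intro α
  obtain ⟨g, k, hk, h3, h4⟩ := exists_normal hp hx h2 hC hf hm [1] (by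
    intro k hk hk0
    obtain ⟨j, hj, h3⟩ := hT k hk hk0
    exact ⟨j, hj, 1, List.mem_singleton_self 1, h3⟩) α
  rw [List.mem_singleton] at hk
  subst hk
  rw [pow_one] at h4
  exact ⟨g, h3, h4, two_cases hfo hy hyf hyn hCf (MulAut.conj g * α) h3⟩

theorem outSign_of [Finite X] {p m N : ℕ} (hp : p.Prime) {x f y : X} (hx : orderOf x = p)
    (h2 : ¬ p ^ 2 ∣ Nat.card X) (hC : ∀ c : X, c * x = x * c → ∃ i : ℕ, c = x ^ i) (hf : f * x * f⁻¹ = x ^ m)
    (hm : ¬ (m ≡ 1 [MOD p])) (hT : ∀ k < p, k ≠ 0 → ∃ j < p, k * m ^ j ≡ 1 [MOD p])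
    (hfo : orderOf f = 2 * N) (hy : y * y = 1) (hyf : y * f = f * y)
    (hyn : ∀ i : ℕ, y ≠ f ^ i) (hCf : ∀ c : X, c * f = f * c → ∃ i : ℕ, c = f ^ i ∨ c = f ^ i * y)
    (hgen : Subgroup.closure ({x, f, y} : Set X) = ⊤) : OutSign X := by
  apply OutSign.of_mul_inner
  intro α β hα hβ
  obtain ⟨u, hu⟩ := mul_inv_inner_of hp hx h2 hC hf hm hT hfo hy hyf hyn hCf hgen (a := β⁻¹) (b := α) (by
    intro u hu
    apply hβ u⁻¹
    rw [map_inv, ← hu, inv_inv]) hα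
  exact ⟨u, by rw [← hu, inv_inv]⟩

end Cfsg.Agent.OddHalf.Table.CycNorm
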