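import Cfsg.Agent.OddHalf.Table.RuCent
import Cfsg.Agent.OddHalf.Table.CycNorm
import Cfsg.Agent.OddHalf.Table.Iface17
import Cfsg.Agent.RuLat.Main

/-!
# The automorphisms of the Rudvalis group are inner

`x` of order 29 generates its own centraliser, `f` of order 14 with `f x f⁻¹ = x ^ 4`, the centraliser of `f` is
`⟨f⟩ × ⟨y⟩`. Up to inner automorphisms an automorphism fixes `f`, maps `x` to `x` or `x ^ 2` and `y` to `y` or
`y f ^ 7`; the order of `y x f` is 20, and 16, 16, 29 for the three other images. `x`, `f`, `y` generate.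
-/

set_option autoImplicit false
set_option maxRecDepth 100000
set_option exponentiation.threshold 5000

namespace Cfsg.Agent.OddHalf.Table.OutRu

open Cfsg.Agent.SporadicB Cfsg.Agent.SporadicB.RuData Cfsg.Agent.Lib.BitNet Cfsg.Agent.Lib.BitNetSimple
open Cfsg.Agent.OddHalf.Table.RuNetFY Cfsg.Agent.OddHalf.Table.RuCent

/-! ### words -/

/-- the networks of the letters `x, x⁻¹, f, f⁻¹, y` and of the six generators -/
def net : ℕ → List (ℕ × ℕ)
  | 0 => net5
  | 1 => net5.reverse
  | 2 => nf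
  | 3 => nf.reverse
  | 4 => ny
  | 5 => net0
  | 6 => net1
  | 7 => net2
  | 8 => net3
  | _ => net4

theorem mem_net : ∀ l, Mem RuOrder.H (net l)
  | 0 => RuOrder.mem5
  | 1 => Mem.reverse RuOrder.mem5
  | 2 => ⟨okf, memf⟩
  | 3 => Mem.reverse ⟨okf, memf⟩
  | 4 => ⟨oky, memy⟩
  | 5 => RuOrder.mem0
  | 6 => RuOrder.mem1
  | 7 => RuOrder.mem2
  | 8 => RuOrder.mem3
  | _ + 9 => RuOrder.mem4

theorem ok_net (l : ℕ) : OkNet 4060 (net l) := (mem_net l).fst

/-- the letters -/
noncomputable def L (l : ℕ) : RuOrder.H := ⟨perm (ok_net l), (mem_net l).snd⟩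

/-- value of a word at a point -/
noncomputable def ev : List ℕ → ℕ → ℕ
  | [], p => p
  | l :: w, p => force (ev w p) (appF (net l))

noncomputable def W (w : List ℕ) : RuOrder.H := (w.map L).prod

theorem W_append (u v : List ℕ) : W (u ++ v) = W u * W v := by
  unfold W; rw [List.map_append, List.prod_append]

theorem W_cons (l : ℕ) (v : List ℕ) : W (l :: v) = L l * W v := by
  unfold W; rw [List.map_cons, List.prod_cons]

theorem W_nil : W [] = 1 := rfl

theorem W_apply (p : Fin 4060) : ∀ w : List ℕ, (((W w : RuOrder.H) : Equiv.Perm (Fin 4060)) p : ℕ) = ev w p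
  | [] => rfl
  | l :: w => by
    rw [W_cons]
    change app (net l) (((W w : RuOrder.H) : Equiv.Perm (Fin 4060)) p : ℕ) = _
    rw [W_apply p w, ev, force_eq, appF_eq]

/-- comparison of two words on the base points -/
noncomputable def eqw (u v : List ℕ) : Bool :=
  cond (Nat.beq (ev u 0) (ev v 0)) (cond (Nat.beq (ev u 29) (ev v 29)) (cond (Nat.beq (ev u 580) (ev v 580))
    (Nat.beq (ev u 577) (ev v 577)) false) false) false

theorem and_of_cond {a b : Bool} (h : cond a b false = true) : a = true ∧ b = true := by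
  cases a
  · exact absurd h Bool.false_ne_true
  · exact ⟨rfl, h⟩

theorem eqw_sound {u v : List ℕ} (h : eqw u v = true) : W u = W v := by
  unfold eqw at h
  obtain ⟨h1, h⟩ := and_of_cond h
  obtain ⟨h2, h⟩ := and_of_cond h
  obtain ⟨h3, h4⟩ := and_of_cond h
  have key : ∀ b : Fin 4060, Nat.beq (ev u b) (ev v b) = true →
      (((W v : RuOrder.H) : Equiv.Perm (Fin 4060))⁻¹ * ((W u : RuOrder.H) : Equiv.Perm (Fin 4060))) b = b := by
    intro b hb
    have h5 : ((W u : RuOrder.H) : Equiv.Perm (Fin 4060)) b = ((W v : RuOrder.H) : Equiv.Perm (Fin 4060)) b := by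
      apply Fin.ext
      rw [W_apply, W_apply]
      exact Nat.eq_of_beq_eq_true hb
    rw [Equiv.Perm.mul_apply, h5, inv_self]
  apply Subtype.ext
  exact (inv_mul_eq_one.1 (eq_one_of_base (RuOrder.H.mul_mem (RuOrder.H.inv_mem (W v).2) (W u).2)
    (key _ h1) (key _ h2) (key _ h3) (key _ h4))).symm

theorem ne_of_ev {u v : List ℕ} (h : Nat.beq (ev u 0) (ev v 0) = false) : W u ≠ W v := by
  intro e
  have h1 := W_apply RuOrder.b1 u
  rw [e, W_apply] at h1
  have h2 : ev v 0 = ev u 0 := h1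
  rw [h2] at h
  have h3 : Nat.beq (ev u 0) (ev u 0) = true := by simp
  rw [h3] at h
  exact Bool.false_ne_true h.symm

/-! ### relations -/

/-- order 29 -/
noncomputable def x : RuOrder.H := L 0
/-- order 14 -/
noncomputable def f : RuOrder.H := L 2
/-- order 2 -/
noncomputable def y : RuOrder.H := L 4

/-- repeat a word -/
def rep (n : ℕ) (w : List ℕ) : List ℕ := (List.replicate n w).flatten

theorem W_rep (w : List ℕ) : ∀ n, W (rep n w) = W w ^ n
  | 0 => rfl
  | n + 1 => by
    have e : rep (n + 1) w = w ++ rep n w := by rw [rep, List.replicate_succ, List.flatten_cons]; rfl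
    rw [e, W_append, W_rep w n, pow_succ']

theorem W_x : W [0] = x := by rw [W_cons, W_nil, mul_one]; rfl
theorem W_f : W [2] = f := by rw [W_cons, W_nil, mul_one]; rfl
theorem W_y : W [4] = y := by rw [W_cons, W_nil, mul_one]; rfl

theorem c_x : eqw (rep 29 [0]) [] = true := by decide +kernel
theorem c_f : eqw (rep 14 [2]) [] = true := by decide +kernel
theorem c_f7 : Nat.beq (ev (rep 7 [2]) 0) (ev [] 0) = false := by decide +kernel
theorem c_y : eqw [4, 4] [] = true := by decide +kernel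
theorem c_fx : eqw ([2] ++ [0]) (rep 4 [0] ++ [2]) = true := by decide +kernel
theorem c_yf : eqw ([4] ++ [2]) ([2] ++ [4]) = true := by decide +kernel
theorem c_y1 : Nat.beq (ev [4] 0) (ev [] 0) = false := by decide +kernel
theorem c_yf7 : Nat.beq (ev [4] 0) (ev (rep 7 [2]) 0) = false := by decide +kernel
theorem c_x1 : Nat.beq (ev [0] 0) (ev [] 0) = false := by decide +kernel

theorem x_pow : x ^ 29 = 1 := by rw [← W_x, ← W_rep, eqw_sound c_x, W_nil]

theorem x_ne : x ≠ 1 := by
  rw [← W_x, ← W_nil]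
  exact ne_of_ev c_x1

theorem orderOf_x : orderOf x = 29 := by
  have : Fact (Nat.Prime 29) := ⟨by norm_num⟩
  exact orderOf_eq_prime x_pow x_ne

theorem f_pow : f ^ 14 = 1 := by rw [← W_f, ← W_rep, eqw_sound c_f, W_nil]

theorem f_pow7 : f ^ 7 ≠ 1 := by
  rw [← W_f, ← W_rep, ← W_nil]
  exact ne_of_ev c_f7

theorem y_sq : y * y = 1 := by
  have h := eqw_sound c_y
  rw [W_cons, W_nil, W_cons, W_nil, mul_one] at h
  exact h

theorem conj_fx : f * x * f⁻¹ = x ^ 4 := by
  have h := eqw_sound c_fx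
  rw [W_append, W_append, W_rep, W_x, W_f] at h
  rw [h, mul_inv_cancel_right]

theorem comm_yf : y * f = f * y := by
  have h := eqw_sound c_yf
  rw [W_append, W_append, W_y, W_f] at h
  exact h

theorem y_ne : y ≠ 1 := by
  rw [← W_y, ← W_nil]
  exact ne_of_ev c_y1

theorem y_ne_f7 : y ≠ f ^ 7 := by
  rw [← W_y, ← W_f, ← W_rep]
  exact ne_of_ev c_yf7

/-! ### centralisers -/

theorem comm_apply {a b : RuOrder.H} (h : a * b = b * a) (p : Fin 4060) :
    (a : Equiv.Perm (Fin 4060)) ((b : Equiv.Perm (Fin 4060)) p) =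
      (b : Equiv.Perm (Fin 4060)) ((a : Equiv.Perm (Fin 4060)) p) :=
  congrArg (fun c : RuOrder.H => (c : Equiv.Perm (Fin 4060)) p) h

theorem cent_x' (c : RuOrder.H) (h : c * x = x * c) : ∃ i : ℕ, c = x ^ i := by
  obtain ⟨e, he⟩ := cent_x c.2 (fun p => comm_apply h p)
  refine ⟨e, Subtype.ext ?_⟩
  rw [he]
  rfl

theorem cent_f' (c : RuOrder.H) (h : c * f = f * c) : ∃ i : ℕ, c = f ^ i ∨ c = f ^ i * y := by
  obtain ⟨e, he⟩ := cent_f c.2 (fun p => comm_apply h p) (fun p => comm_apply comm_yf p)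
  refine ⟨e, ?_⟩
  rcases he with he | he
  · left
    apply Subtype.ext
    rw [he]
    rfl
  · right
    apply Subtype.ext
    rw [he]
    rfl

theorem c_f2 : Nat.beq (ev (rep 2 [2]) 0) (ev [] 0) = false := by decide +kernel

theorem f_pow2 : f ^ 2 ≠ 1 := by
  rw [← W_f, ← W_rep, ← W_nil]
  exact ne_of_ev c_f2

theorem orderOf_f : orderOf f = 14 := by
  refine orderOf_eq_of_pow_and_pow_div_prime (by norm_num) f_pow ?_
  intro p hp hd
  have h1 : p ∣ 2 * 7 := hd
  rcases (Nat.Prime.dvd_mul hp).1 h1 with h | h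
  · rw [(Nat.prime_dvd_prime_iff_eq hp Nat.prime_two).1 h]
    exact f_pow7
  · rw [(Nat.prime_dvd_prime_iff_eq hp (by norm_num)).1 h]
    exact f_pow2

/-- the powers of `f` whose square is one -/
theorem f_pow_sq {i : ℕ} (h : f ^ i * f ^ i = 1) : f ^ i = 1 ∨ f ^ i = f ^ 7 := by
  have h1 : f ^ (2 * i) = 1 := by rw [two_mul, pow_add, h]
  have h2 : 14 ∣ 2 * i := orderOf_f ▸ orderOf_dvd_of_pow_eq_one h1
  rcases Nat.even_or_odd' (i / 7) with ⟨k, hk | hk⟩
  · left
    have h3 : i = 14 * k := by omega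
    rw [h3, pow_mul, f_pow, one_pow]
  · right
    have h3 : i = 14 * k + 7 := by omega
    rw [h3, pow_add, pow_mul, f_pow, one_pow, one_mul]

/-! ### generation -/

theorem c_0 : eqw [5] [0, 2, 1, 1, 4, 0, 2, 4, 1, 4, 1, 4, 0, 4, 2, 1, 4, 2, 0, 0, 0, 4, 1, 1, 3] = true := by
  decide +kernel
theorem c_1 : eqw [6] [2, 1, 2, 1, 4, 1, 2, 1, 4, 0, 0, 4, 1, 4, 3, 1, 4, 3, 1, 4, 0, 3, 1] = true := by
  decide +kernel
theorem c_2 : eqw [7] [2, 2, 0, 4, 0, 4, 1, 3, 0, 4, 1, 2, 2, 0, 4, 1, 1, 4, 1, 1, 2, 1, 1, 4, 1, 2, 0] = true := by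
  decide +kernel
theorem c_3 : eqw [8] [0, 2, 2, 1, 4, 0, 2, 1, 4, 1, 3, 4, 1, 2, 1, 4, 0, 0, 4, 2, 1, 1, 4, 0] = true := by
  decide +kernel
theorem c_4 : eqw [9] [1, 2, 2, 0, 3, 4, 0, 4, 0, 2, 2, 1, 4, 2, 1, 4, 3, 0, 4, 1, 4, 3, 0, 0, 3] = true := by
  decide +kernel

/-- the group generated by `x`, `f`, `y` -/
def K : Subgroup RuOrder.H := Subgroup.closure {x, f, y}

theorem L_one : L 1 = x⁻¹ := Subtype.ext (perm_reverse (ok_net 0) (ok_net 1))

theorem L_three : L 3 = f⁻¹ := Subtype.ext (perm_reverse (ok_net 2) (ok_net 3))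

theorem L_mem_K : ∀ l < 5, L l ∈ K := by
  have hx : x ∈ K := Subgroup.subset_closure (by simp)
  have hf : f ∈ K := Subgroup.subset_closure (by simp)
  have hy : y ∈ K := Subgroup.subset_closure (by simp)
  intro l hl
  interval_cases l
  · exact hx
  · rw [L_one]; exact inv_mem hx
  · exact hf
  · rw [L_three]; exact inv_mem hf
  · exact hy

theorem W_mem_K : ∀ w : List ℕ, (w.all fun l => Nat.blt l 5) = true → W w ∈ K
  | [], _ => one_mem _
  | l :: w, h => by
    rw [List.all_cons, Bool.and_eq_true] at h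
    rw [W_cons]
    refine mul_mem (L_mem_K l ?_) (W_mem_K w h.2)
    have h1 := h.1
    rw [Nat.blt_eq] at h1
    exact h1

theorem mem_of_eqw {l : ℕ} {w : List ℕ} (h : eqw [l] w = true) (hw : (w.all fun l => Nat.blt l 5) = true) :
    Mem (K.map RuOrder.H.subtype) (net l) := by
  refine ⟨ok_net l, ?_⟩
  have h1 := eqw_sound h
  rw [W_cons, W_nil, mul_one] at h1
  exact ⟨L l, h1 ▸ W_mem_K w hw, rfl⟩

theorem K_eq_top : K = ⊤ := by
  have h5 : Mem (K.map RuOrder.H.subtype) net5 :=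
    ⟨ok_net 0, L 0, L_mem_K 0 (by norm_num), rfl⟩
  have h := RuSimple.le_of_mem (K := K.map RuOrder.H.subtype) (by
      rintro _ ⟨g, -, rfl⟩
      exact g.2)
    (mem_of_eqw c_0 rfl) (mem_of_eqw c_1 rfl) (mem_of_eqw c_2 rfl) (mem_of_eqw c_3 rfl) (mem_of_eqw c_4 rfl) h5
  rw [eq_top_iff]
  intro g _
  obtain ⟨g', h1, h2⟩ := h g.2
  have h3 : g' = g := Subtype.ext h2
  rw [← h3]
  exact h1

/-! ### the order of `y x f` -/

theorem c_A : eqw (rep 20 [4, 0, 2]) [] = true := by decide +kernel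
theorem c_B : Nat.beq (ev (rep 20 (([4] ++ rep 7 [2]) ++ [0, 2])) 0) (ev [] 0) = false := by decide +kernel
theorem c_C : Nat.beq (ev (rep 20 ([4] ++ [0, 0, 2])) 0) (ev [] 0) = false := by decide +kernel
theorem c_D : Nat.beq (ev (rep 20 (([4] ++ rep 7 [2]) ++ [0, 0, 2])) 0) (ev [] 0) = false := by decide +kernel

theorem W_xf : W [0, 2] = x * f := by rw [W_cons, W_f]; rfl

theorem W_xxf : W [0, 0, 2] = x ^ 2 * f := by rw [W_cons, W_xf, pow_two, mul_assoc]; rfl

theorem r_A : (y * (x * f)) ^ 20 = 1 := by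
  have h := eqw_sound c_A
  rw [W_rep, W_cons, W_xf, W_nil] at h
  exact h

theorem r_B : ((y * f ^ 7) * (x * f)) ^ 20 ≠ 1 := by
  have h := ne_of_ev c_B
  rw [W_rep, W_append, W_append, W_rep, W_xf, W_y, W_f, W_nil] at h
  exact h

theorem r_C : (y * (x ^ 2 * f)) ^ 20 ≠ 1 := by
  have h := ne_of_ev c_C
  rw [W_rep, W_append, W_xxf, W_y, W_nil] at h
  exact h

theorem r_D : ((y * f ^ 7) * (x ^ 2 * f)) ^ 20 ≠ 1 := by
  have h := ne_of_ev c_D
  rw [W_rep, W_append, W_append, W_rep, W_xxf, W_y, W_f, W_nil] at h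
  exact h

/-! ### automorphisms -/

theorem inner (α : MulAut RuOrder.H) : ∃ g : RuOrder.H, α = MulAut.conj g := by
  obtain ⟨g, k, hk, hf, hx⟩ := CycNorm.exists_normal (X := RuOrder.H) (p := 29) (m := 4) (by norm_num) orderOf_x
    (by rw [RuOrder.card_H]; norm_num) cent_x' conj_fx (by decide) [1, 2] (by decide) α
  set β : MulAut RuOrder.H := MulAut.conj g * α with hβ
  have hβf : β f = f := hf
  have hβx : β x = x ^ k := hx
  -- the image of `y`
  have h1 : β y * f = f * β y := by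
    have h2 := congrArg β comm_yf
    rw [map_mul, map_mul, hβf] at h2
    exact h2
  have h2 : β y * β y = 1 := by rw [← map_mul, y_sq, map_one]
  have h3 : β y ≠ 1 := fun h => y_ne (β.injective (h.trans (map_one β).symm))
  have h4 : β y ≠ f ^ 7 := fun h => y_ne_f7 (β.injective (by rw [h, map_pow, hβf]))
  have hy : β y = y ∨ β y = y * f ^ 7 := by
    obtain ⟨i, hi | hi⟩ := cent_f' _ h1
    · exfalso
      rw [hi] at h2 h3 h4
      rcases f_pow_sq h2 with h5 | h5
      · exact h3 h5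
      · exact h4 h5
    · have hc : Commute y (f ^ i) := Commute.pow_right comm_yf i
      have h5 : f ^ i * f ^ i = 1 := by
        rw [hi] at h2
        calc f ^ i * f ^ i = f ^ i * f ^ i * (y * y) := by rw [y_sq, mul_one]
          _ = f ^ i * y * (f ^ i * y) := by
            have h6 : y * f ^ i = f ^ i * y := hc.eq
            calc f ^ i * f ^ i * (y * y) = f ^ i * (f ^ i * y) * y := by group
              _ = f ^ i * (y * f ^ i) * y := by rw [h6]
              _ = f ^ i * y * (f ^ i * y) := by group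
          _ = 1 := h2
      rcases f_pow_sq h5 with h6 | h6
      · left; rw [hi, h6, one_mul]
      · right; rw [hi, ← hc.eq, h6]
  have hr : (β y * (x ^ k * f)) ^ 20 = 1 := by
    have h5 := congrArg β r_A
    rw [map_pow, map_mul, map_mul, hβf, hβx, map_one] at h5
    exact h5
  have hkey : k = 1 ∧ β y = y := by
    simp only [List.mem_cons, List.not_mem_nil, or_false] at hk
    rcases hk with rfl | rfl <;> rcases hy with hy | hy <;> rw [hy] at hr
    · exact ⟨rfl, hy⟩
    · rw [pow_one] at hr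
      exact absurd hr r_B
    · exact absurd hr r_C
    · exact absurd hr r_D
  have hone : β = 1 := by
    apply CycNorm.eq_of_eq_on (S := {x, f, y}) K_eq_top
    rintro s (rfl | rfl | rfl)
    · rw [hβx, hkey.1, pow_one]; rfl
    · exact hβf
    · exact hkey.2
  refine ⟨g⁻¹, ?_⟩
  rw [map_inv]
  exact eq_inv_of_mul_eq_one_right hone

theorem outSign_H : OutSign RuOrder.H := OutSign.of_forall_inner inner

/-- **The Rudvalis group.** -/
theorem outSign_Ru {X : Type*} [Group X] (e : X ≃* Cfsg.Spor.Ru) : OutSign X :=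
  OutSign.of_equiv (e.trans RuLat.Main.equiv).symm outSign_H

end Cfsg.Agent.OddHalf.Table.OutRu
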