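import Cfsg.Agent.OddHalf.Table.RuInvConj

/-!
# Centralisers of involutions in the Rudvalis group

`cent_sq_a`: an element commuting with the squares of all elements of `C(g 13)` is `1` or `g 13`.
`cent_sq_b`: there is `v` commuting with `b = g 0`, `v` and `b v` conjugate to `b`, such that every element commuting
with the squares of all elements of `C(b)` is in `{1, b, v, b v}`.

Method: the element preserves the fixed points of a square; if it fixes a point it fixes its orbit under the squares,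
and the adjacencies to this orbit determine the base points.
-/

set_option autoImplicit false
set_option maxRecDepth 100000
set_option exponentiation.threshold 5000

namespace Cfsg.Agent.OddHalf.Table.RuInvCent

open Cfsg.Agent.SporadicB Cfsg.Agent.SporadicB.RuData Cfsg.Agent.Lib.BitNet Cfsg.Agent.Lib.BitNetSimple
open Cfsg.Agent.OddHalf.Table.RuCent Cfsg.Agent.OddHalf.Table.RuInvConj
open Cfsg.Agent.Schreier

/-! ### fixed points of a word -/

/-- the image of a set of points under a word -/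
noncomputable def img : List ℕ → ℕ → ℕ
  | [], M => M
  | l :: w, M => force (img w M) (appMF (net l))

theorem testBit_img (p : Fin 4060) (M : ℕ) : ∀ w : List ℕ,
    (img w M).testBit (((W w : RuOrder.H) : Equiv.Perm (Fin 4060)) p) = M.testBit p
  | [] => rfl
  | l :: w => by
    rw [img, force_eq, appMF_eq, W_cons]
    change (appM (net l) (img w M)).testBit (app (net l) (((W w : RuOrder.H) : Equiv.Perm (Fin 4060)) p : ℕ)) = _
    rw [testBit_appM (ok_net l).valid, testBit_img p M w]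

/-- the fixed points of a word -/
noncomputable def fixM (w : List ℕ) (k : ℕ) : ℕ :=
  Nat.rec U (fun j ih => force ih fun S => force (idxMask 12 j) fun P =>
    Nat.xor S (Nat.land S (Nat.xor P (img w P)))) k

theorem testBit_fixM {w : List ℕ} {p : Fin 4060}
    (h : ((W w : RuOrder.H) : Equiv.Perm (Fin 4060)) p = p) : ∀ k, (fixM w k).testBit p = true
  | 0 => testBit_U p
  | k + 1 => by
    have e : fixM w (k + 1) = force (fixM w k) (fun S => force (idxMask 12 k) fun P =>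
      Nat.xor S (Nat.land S (Nat.xor P (img w P)))) := rfl
    rw [e, force_eq, force_eq]
    change (fixM w k ^^^ (fixM w k &&& (idxMask 12 k ^^^ img w (idxMask 12 k)))).testBit p = true
    have h1 : (img w (idxMask 12 k)).testBit p = (idxMask 12 k).testBit p := by
      conv_lhs => rw [← h]
      exact testBit_img p _ w
    rw [Nat.testBit_xor, Nat.testBit_and, Nat.testBit_xor, h1, testBit_fixM h k, Bool.xor_self]
    rfl

/-- points of a union of two sets -/
theorem eq_of_testBit_pow {a : ℕ} {p : Fin 4060} (h : (2 ^ a).testBit p = true) : (p : ℕ) = a := by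
  rw [Nat.testBit_two_pow] at h
  have : a = (p : ℕ) := by simpa using h
  exact this.symm

/-! ### adjacencies to the images of a point -/

/-- the points of `S` with the same adjacencies as `w` to the points `c a`, `c` in the list -/
noncomputable def cutW (a w : ℕ) (cs : List (List ℕ)) : ℕ → ℕ :=
  List.rec (fun S => S) (fun c _ ih S => force (ev c a) fun q =>
    force (bif tb (row q) w then Nat.land S (row q) else Nat.xor S (Nat.land S (row q))) ih) cs

theorem cutW_cons (a w : ℕ) (c : List ℕ) (cs : List (List ℕ)) (S : ℕ) : cutW a w (c :: cs) S =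
    cutW a w cs (bif tb (row (ev c a)) w then Nat.land S (row (ev c a))
      else Nat.xor S (Nat.land S (row (ev c a)))) := by
  have e : cutW a w (c :: cs) S = force (ev c a) (fun q =>
    force (bif tb (row q) w then Nat.land S (row q) else Nat.xor S (Nat.land S (row q))) (cutW a w cs)) := rfl
  rw [e, force_eq, force_eq]

theorem cutW_sound {l : RuOrder.H} {a : Fin 4060} (ha : (l : Equiv.Perm (Fin 4060)) a = a) (w : Fin 4060) :
    ∀ (cs : List (List ℕ)) (_ : ∀ c ∈ cs, l * W c = W c * l) (S : ℕ),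
      S.testBit ((l : Equiv.Perm (Fin 4060)) w) = true →
      (cutW a w cs S).testBit ((l : Equiv.Perm (Fin 4060)) w) = true
  | [], _, _, hS => hS
  | c :: cs, hc, S, hS => by
    rw [cutW_cons]
    refine cutW_sound ha w cs (fun c' hc' => hc c' (List.mem_cons_of_mem _ hc')) _ ?_
    have h1 : (l : Equiv.Perm (Fin 4060)) (((W c : RuOrder.H) : Equiv.Perm (Fin 4060)) a) =
        ((W c : RuOrder.H) : Equiv.Perm (Fin 4060)) a := by
      have h2 := congrArg (fun t : RuOrder.H => (t : Equiv.Perm (Fin 4060)) a) (hc c List.mem_cons_self)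
      have h3 : (l : Equiv.Perm (Fin 4060)) (((W c : RuOrder.H) : Equiv.Perm (Fin 4060)) a) =
        ((W c : RuOrder.H) : Equiv.Perm (Fin 4060)) ((l : Equiv.Perm (Fin 4060)) a) := h2
      rw [h3, ha]
    have h2 : (row (ev c a)).testBit ((l : Equiv.Perm (Fin 4060)) w) = (row (ev c a)).testBit w := by
      have h3 := l.2 (((W c : RuOrder.H) : Equiv.Perm (Fin 4060)) a) w
      rw [h1, W_apply] at h3
      exact h3
    rw [tb_eq]
    cases h3 : (row (ev c a)).testBit w
    · rw [cond_false]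
      change (S ^^^ (S &&& row (ev c a))).testBit ((l : Equiv.Perm (Fin 4060)) w) = true
      rw [Nat.testBit_xor, Nat.testBit_and, hS, h2, h3]; rfl
    · rw [cond_true]
      change (S &&& row (ev c a)).testBit ((l : Equiv.Perm (Fin 4060)) w) = true
      rw [Nat.testBit_and, hS, h2, h3]; rfl

/-- words in two words -/
def exu (u0 u1 : List ℕ) : List ℕ → List ℕ
  | [] => []
  | 0 :: c => u0 ++ exu u0 u1 c
  | _ :: c => u1 ++ exu u0 u1 c

theorem comm_exu {u0 u1 : List ℕ} {l : RuOrder.H} (h0 : l * W u0 = W u0 * l) (h1 : l * W u1 = W u1 * l) :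
    ∀ c : List ℕ, l * W (exu u0 u1 c) = W (exu u0 u1 c) * l
  | [] => by rw [exu, W_nil, mul_one, one_mul]
  | 0 :: c => by
    have e : exu u0 u1 (0 :: c) = u0 ++ exu u0 u1 c := rfl
    rw [e, W_append, ← mul_assoc, h0, mul_assoc, comm_exu h0 h1 c, mul_assoc]
  | (n + 1) :: c => by
    have e : exu u0 u1 ((n + 1) :: c) = u1 ++ exu u0 u1 c := rfl
    rw [e, W_append, ← mul_assoc, h1, mul_assoc, comm_exu h0 h1 c, mul_assoc]

theorem comm_map {u0 u1 : List ℕ} {l : RuOrder.H} (h0 : l * W u0 = W u0 * l) (h1 : l * W u1 = W u1 * l)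
    (cs : List (List ℕ)) : ∀ c ∈ cs.map (exu u0 u1), l * W c = W c * l := by
  intro c hc
  obtain ⟨c', _, rfl⟩ := List.mem_map.1 hc
  exact comm_exu h0 h1 c'

/-- an element commuting with the two words and fixing `a` fixes `w` -/
theorem fix_of_cutW {u0 u1 : List ℕ} {l : RuOrder.H} (h0 : l * W u0 = W u0 * l) (h1 : l * W u1 = W u1 * l)
    {a w : Fin 4060} (ha : (l : Equiv.Perm (Fin 4060)) a = a) {cs : List (List ℕ)}
    (h : Nat.beq (cutW a w (cs.map (exu u0 u1)) U) (Nat.pow 2 w) = true) :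
    (l : Equiv.Perm (Fin 4060)) w = w := by
  have h2 := cutW_sound ha w (cs.map (exu u0 u1)) (comm_map h0 h1 cs) U (testBit_U _)
  rw [Nat.eq_of_beq_eq_true h] at h2
  exact Fin.ext (eq_of_testBit_pow h2)

theorem eq_one_of_fix {l : RuOrder.H} (h1 : (l : Equiv.Perm (Fin 4060)) RuOrder.b1 = RuOrder.b1)
    (h2 : (l : Equiv.Perm (Fin 4060)) RuOrder.b2 = RuOrder.b2) (h3 : (l : Equiv.Perm (Fin 4060)) RuOrder.b3 = RuOrder.b3)
    (h4 : (l : Equiv.Perm (Fin 4060)) RuOrder.b4 = RuOrder.b4) : l = 1 :=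
  Subtype.ext (eq_one_of_base l.2 h1 h2 h3 h4)

/-- if `l` commutes with `W w` and `W w` fixes `a` then `l a` is in `fixM w` -/
theorem mem_fixM {w : List ℕ} {l : RuOrder.H} (h : l * W w = W w * l) {a : Fin 4060}
    (ha : Nat.beq (ev w a) a = true) {M : ℕ} (hM : Nat.beq (fixM w 12) M = true) :
    M.testBit ((l : Equiv.Perm (Fin 4060)) a) = true := by
  rw [← Nat.eq_of_beq_eq_true hM]
  apply testBit_fixM
  have h1 : ((W w : RuOrder.H) : Equiv.Perm (Fin 4060)) a = a := by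
    apply Fin.ext
    rw [W_apply]
    exact Nat.eq_of_beq_eq_true ha
  have h2 : (l : Equiv.Perm (Fin 4060)) (((W w : RuOrder.H) : Equiv.Perm (Fin 4060)) a) =
      ((W w : RuOrder.H) : Equiv.Perm (Fin 4060)) ((l : Equiv.Perm (Fin 4060)) a) :=
    congrArg (fun t : RuOrder.H => (t : Equiv.Perm (Fin 4060)) a) h
  rw [← h2, h1]

theorem apply_of_beq {w : List ℕ} {a b : Fin 4060} (h : Nat.beq (ev w a) b = true) :
    ((W w : RuOrder.H) : Equiv.Perm (Fin 4060)) a = b := by
  apply Fin.ext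
  rw [W_apply]
  exact Nat.eq_of_beq_eq_true h

/-- `l` does not map `p` to `q` if some `c` commuting with `l` fixes `q` and not `p` -/
theorem swap_false {c : List ℕ} {l : RuOrder.H} (h : l * W c = W c * l) {p q : Fin 4060}
    (hpq : (l : Equiv.Perm (Fin 4060)) p = q) (hq : Nat.beq (ev c q) q = true)
    (hp : Nat.beq (ev c p) p = false) : False := by
  have h4 : (l : Equiv.Perm (Fin 4060)) (((W c : RuOrder.H) : Equiv.Perm (Fin 4060)) p) =
      ((W c : RuOrder.H) : Equiv.Perm (Fin 4060)) ((l : Equiv.Perm (Fin 4060)) p) :=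
    congrArg (fun t : RuOrder.H => (t : Equiv.Perm (Fin 4060)) p) h
  rw [hpq, apply_of_beq hq, ← hpq] at h4
  have h6 := (l : Equiv.Perm (Fin 4060)).injective h4
  have h7 := W_apply p c
  rw [h6] at h7
  rw [← h7] at hp
  simp at hp

/-- squares of elements commuting with `s` -/
theorem comm_sq {l s : RuOrder.H} (h : ∀ x : RuOrder.H, x * s = s * x → l * (x * x) = (x * x) * l) {x s' : List ℕ}
    (hs : W s' = s) (hx : eqw (x ++ s') (s' ++ x) = true) : l * W (x ++ x) = W (x ++ x) * l := by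
  have h1 := eqw_sound hx
  rw [W_append, W_append, hs] at h1
  rw [W_append]
  exact h _ h1

/-- points -/
def p149 : Fin 4060 := ⟨149, by norm_num⟩
def p4045 : Fin 4060 := ⟨4045, by norm_num⟩
def p2152 : Fin 4060 := ⟨2152, by norm_num⟩
def p416 : Fin 4060 := ⟨416, by norm_num⟩
def p2434 : Fin 4060 := ⟨2434, by norm_num⟩
def p2334 : Fin 4060 := ⟨2334, by norm_num⟩
def p3886 : Fin 4060 := ⟨3886, by norm_num⟩

/-! ### 2A -/

def xa : List ℕ := [4, 7, 3, 7, 1, 2, 7, 5, 2, 2]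
def xb : List ℕ := [5, 6, 7]
def za : List ℕ := s5 (RuSyl.gwd 13)

theorem W_za : W za = RuSyl.g 13 := W_s5 _

theorem a1 : eqw (xa ++ za) (za ++ xa) = true := by decide +kernel
theorem a2 : eqw (xb ++ za) (za ++ xb) = true := by decide +kernel
theorem a3 : Nat.beq (fixM (xa ++ xa) 12) (Nat.lor (Nat.pow 2 149) (Nat.pow 2 4045)) = true := by decide +kernel
theorem a4 : Nat.beq (ev (xa ++ xa) p149) p149 = true := by decide +kernel
theorem a5 : Nat.beq (ev (exu (xa ++ xa) (xb ++ xb) [1, 0, 1, 1, 0, 0, 1]) p149) p149 = false := by decide +kernel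
theorem a6 : Nat.beq (ev (exu (xa ++ xa) (xb ++ xb) [1, 0, 1, 1, 0, 0, 1]) p4045) p4045 = true := by decide +kernel
/-- words -/
def csa : List (List ℕ) := [[], [1, 1], [0, 0, 1, 1], [1, 1, 1], [0, 1, 1, 0, 0, 1], [1, 1, 0, 1],
    [0, 1, 1, 0, 0, 1, 1], [1]]
theorem a7 : Nat.beq (cutW p149 RuOrder.b1 (csa.map (exu (xa ++ xa) (xb ++ xb))) U)
    (Nat.lor (Nat.pow 2 0) (Nat.pow 2 2152)) = true := by decide +kernel
theorem a8 : Nat.beq (cutW RuOrder.b1 RuOrder.b2 ([[1], [1, 1, 0], [1, 1, 0, 1, 0], [0, 1, 0, 1, 0, 1, 1, 1], [1, 0, 1, 0, 0],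
    [0, 0, 1, 0, 1, 0], [0, 1, 0, 1, 1, 1]].map (exu (xa ++ xa) (xb ++ xb))) U) (Nat.pow 2 RuOrder.b2) = true := by
  decide +kernel
theorem a9 : Nat.beq (cutW RuOrder.b1 RuOrder.b3 ([[], [1, 0, 0], [0, 0, 1], [0, 0, 1, 1, 0], [1, 1, 0, 0, 1, 0, 1, 1, 0],
    [0, 1, 1, 0, 0, 0], [0, 1, 1, 1]].map (exu (xa ++ xa) (xb ++ xb))) U) (Nat.pow 2 RuOrder.b3) = true := by
  decide +kernel
theorem a10 : Nat.beq (cutW RuOrder.b1 RuOrder.b4 ([[1], [1, 1, 0], [0, 0, 1, 0, 0], [0, 1, 0, 1, 0, 0, 0], [0, 1, 1, 1, 0, 1, 1, 0],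
    [1, 0, 0, 1, 1, 0, 0, 1, 1], [0, 0, 1]].map (exu (xa ++ xa) (xb ++ xb))) U) (Nat.pow 2 RuOrder.b4) = true := by
  decide +kernel
theorem a11 : Nat.beq (ev za p2152) RuOrder.b1 = true := by decide +kernel
theorem a12 : eqw (za ++ za) [] = true := by decide +kernel

theorem za_sq : RuSyl.g 13 * RuSyl.g 13 = 1 := by
  have h := eqw_sound a12
  rw [W_append, W_za, W_nil] at h
  exact h

theorem eq_one_a {l : RuOrder.H} (h0 : l * W (xa ++ xa) = W (xa ++ xa) * l)
    (h1 : l * W (xb ++ xb) = W (xb ++ xb) * l) (h : (l : Equiv.Perm (Fin 4060)) RuOrder.b1 = RuOrder.b1) : l = 1 :=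
  eq_one_of_fix h
    (fix_of_cutW h0 h1 (a := RuOrder.b1) (w := RuOrder.b2) h a8)
    (fix_of_cutW h0 h1 (a := RuOrder.b1) (w := RuOrder.b3) h a9)
    (fix_of_cutW h0 h1 (a := RuOrder.b1) (w := RuOrder.b4) h a10)

/-- **2A**: the centraliser of the squares of the elements of `C(g 13)` -/
theorem cent_sq_a (l : RuOrder.H)
    (h : ∀ x : RuOrder.H, x * RuSyl.g 13 = RuSyl.g 13 * x → l * (x * x) = (x * x) * l) :
    l = 1 ∨ l = RuSyl.g 13 := by
  have h0 := comm_sq h W_za a1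
  have h1 := comm_sq h W_za a2
  have hz0 : RuSyl.g 13 * W (xa ++ xa) = W (xa ++ xa) * RuSyl.g 13 := by
    have h2 := eqw_sound a1
    rw [W_append, W_append, W_za] at h2
    rw [W_append, ← mul_assoc, ← h2, mul_assoc, ← h2, mul_assoc]
  have hz1 : RuSyl.g 13 * W (xb ++ xb) = W (xb ++ xb) * RuSyl.g 13 := by
    have h2 := eqw_sound a2
    rw [W_append, W_append, W_za] at h2
    rw [W_append, ← mul_assoc, ← h2, mul_assoc, ← h2, mul_assoc]
  have hp : (l : Equiv.Perm (Fin 4060)) p149 = p149 := by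
    have h2 := mem_fixM h0 (a := p149) a4 a3
    change (2 ^ 149 ||| 2 ^ 4045).testBit ((l : Equiv.Perm (Fin 4060)) p149) = true at h2
    rw [Nat.testBit_or, Bool.or_eq_true] at h2
    rcases h2 with h2 | h2
    · exact Fin.ext (eq_of_testBit_pow h2)
    · exfalso
      have hpq : (l : Equiv.Perm (Fin 4060)) p149 = p4045 := Fin.ext (eq_of_testBit_pow h2)
      exact swap_false (comm_exu h0 h1 [1, 0, 1, 1, 0, 0, 1]) hpq a6 a5
  have h2 := cutW_sound hp RuOrder.b1 _ (comm_map h0 h1 csa) U (testBit_U _)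
  rw [Nat.eq_of_beq_eq_true a7] at h2
  have h3 : (2 ^ 0 ||| 2 ^ 2152).testBit ((l : Equiv.Perm (Fin 4060)) RuOrder.b1) = true := h2
  rw [Nat.testBit_or, Bool.or_eq_true] at h3
  rcases h3 with h3 | h3
  · left
    exact eq_one_a h0 h1 (Fin.ext (eq_of_testBit_pow h3))
  · right
    have h4 : ((RuSyl.g 13 * l : RuOrder.H) : Equiv.Perm (Fin 4060)) RuOrder.b1 = RuOrder.b1 := by
      have h6 : (l : Equiv.Perm (Fin 4060)) RuOrder.b1 = p2152 := Fin.ext (eq_of_testBit_pow h3)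
      have h5 : ((RuSyl.g 13 : RuOrder.H) : Equiv.Perm (Fin 4060)) p2152 = RuOrder.b1 := by
        rw [← W_za]
        exact apply_of_beq a11
      change ((RuSyl.g 13 : RuOrder.H) : Equiv.Perm (Fin 4060)) ((l : Equiv.Perm (Fin 4060)) RuOrder.b1) = RuOrder.b1
      rw [h6]
      exact h5
    have h5 : RuSyl.g 13 * l = 1 := by
      refine eq_one_a ?_ ?_ h4
      · rw [mul_assoc, h0, ← mul_assoc, hz0, mul_assoc]
      · rw [mul_assoc, h1, ← mul_assoc, hz1, mul_assoc]
    calc l = RuSyl.g 13 * (RuSyl.g 13 * l) := by rw [← mul_assoc, za_sq, one_mul]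
      _ = RuSyl.g 13 := by rw [h5, mul_one]

/-! ### 2B -/

def xc : List ℕ := [0, 2, 1, 7, 4, 1, 5, 3, 3]
def xd : List ℕ := [0, 3, 5, 3, 3, 0, 5, 0]
/-- the word of `g 0` -/
def zb : List ℕ := [5]
/-- conjugates `g 0` to `v` -/
def w1 : List ℕ := [1, 3, 6, 5, 0, 6, 1]
def w1' : List ℕ := [0, 6, 1, 5, 6, 2, 0]
/-- conjugates `g 0` to `g 0 v` -/
def w2 : List ℕ := [0, 6, 1, 5, 6, 2, 0]
def w2' : List ℕ := [1, 3, 6, 5, 0, 6, 1]
/-- the word of `v` -/
def zv : List ℕ := w1 ++ (zb ++ w1')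

theorem W_zb : W zb = RuSyl.g 0 := by
  have h : zb = s5 (RuSyl.gwd 0) := rfl
  rw [h]; exact W_s5 _

theorem b1' : eqw (xc ++ zb) (zb ++ xc) = true := by decide +kernel
theorem b2' : eqw (xd ++ zb) (zb ++ xd) = true := by decide +kernel
theorem b3' : eqw (w1 ++ w1') [] = true := by decide +kernel
theorem b4' : eqw (w2 ++ (zb ++ w2')) (zb ++ zv) = true := by decide +kernel
theorem b5' : eqw (zv ++ zb) (zb ++ zv) = true := by decide +kernel
theorem b6' : eqw (zv ++ (xc ++ xc)) ((xc ++ xc) ++ zv) = true := by decide +kernel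
theorem b7' : eqw (zv ++ (xd ++ xd)) ((xd ++ xd) ++ zv) = true := by decide +kernel
theorem b8' : Nat.beq (fixM (xc ++ xc) 12)
    (Nat.lor (Nat.lor (Nat.pow 2 416) (Nat.pow 2 2434)) (Nat.lor (Nat.pow 2 2334) (Nat.pow 2 3886))) = true := by
  decide +kernel
theorem b9' : Nat.beq (ev (xc ++ xc) p416) p416 = true := by decide +kernel
theorem b10' : Nat.beq (ev zb p416) p2434 = true := by decide +kernel
theorem b11' : Nat.beq (ev zv p416) p2334 = true := by decide +kernel
theorem b12' : Nat.beq (ev (zb ++ zv) p416) p3886 = true := by decide +kernel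
theorem b13' : Nat.beq (cutW p416 RuOrder.b1 ([[], [1, 1], [1, 0, 0, 0, 0, 1], [1, 0, 0, 1, 1, 0, 1, 1],
    [0, 0, 1, 1, 0, 1, 1, 0, 0, 1], [0, 0, 0, 0, 1, 1], [1, 0, 0, 1]].map (exu (xc ++ xc) (xd ++ xd))) U)
    (Nat.pow 2 RuOrder.b1) = true := by decide +kernel
theorem b14' : Nat.beq (cutW p416 RuOrder.b2 ([[0, 1], [0, 0, 0, 1], [0, 1, 1, 1], [0, 1, 0, 0, 0, 1, 1, 1, 1],
    [1, 1, 0, 0, 1, 1], [1, 1, 0, 1, 0, 1, 0, 1], [0, 0, 1, 0, 0, 1, 1]].map (exu (xc ++ xc) (xd ++ xd))) U)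
    (Nat.pow 2 RuOrder.b2) = true := by decide +kernel
theorem b15' : Nat.beq (cutW p416 RuOrder.b3 ([[1], [0, 0, 0, 0, 1], [0, 0, 1, 1, 0, 1], [1, 1, 0, 1, 1, 1],
    [0, 0, 1, 1, 1, 1, 0, 1], [1, 1, 1, 0, 0, 0, 0, 1, 0, 1], [0, 0, 1, 1]].map (exu (xc ++ xc) (xd ++ xd))) U)
    (Nat.pow 2 RuOrder.b3) = true := by decide +kernel
theorem b16' : Nat.beq (cutW p416 RuOrder.b4 ([[0, 1], [0, 0, 0, 1], [1, 0, 0, 1, 1], [0, 1, 1, 0, 1, 1, 0, 0, 1],
    [0, 0, 0, 0, 0, 0, 1], [1, 1, 0, 0, 0, 1, 1, 1, 0, 1], [0, 0, 1, 0, 1, 0, 1]].map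
    (exu (xc ++ xc) (xd ++ xd))) U) (Nat.pow 2 RuOrder.b4) = true := by decide +kernel
theorem b17' : eqw (w2 ++ w2') [] = true := by decide +kernel

theorem eq_one_b {l : RuOrder.H} (h0 : l * W (xc ++ xc) = W (xc ++ xc) * l)
    (h1 : l * W (xd ++ xd) = W (xd ++ xd) * l)
    (h : (l : Equiv.Perm (Fin 4060)) p416 = p416) : l = 1 :=
  eq_one_of_fix
    (fix_of_cutW h0 h1 (a := p416) (w := RuOrder.b1) h b13')
    (fix_of_cutW h0 h1 (a := p416) (w := RuOrder.b2) h b14')
    (fix_of_cutW h0 h1 (a := p416) (w := RuOrder.b3) h b15')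
    (fix_of_cutW h0 h1 (a := p416) (w := RuOrder.b4) h b16')

/-- the second involution of the four-group -/
noncomputable def v : RuOrder.H := W zv

theorem v_comm : v * RuSyl.g 0 = RuSyl.g 0 * v := by
  have h := eqw_sound b5'
  rw [W_append zv zb, W_append zb zv, W_zb] at h
  exact h

theorem isConj_v : IsConj (RuSyl.g 0) v := by
  have h := eqw_sound b3'
  rw [W_append, W_nil] at h
  have h1 : W w1' = (W w1)⁻¹ := (inv_eq_of_mul_eq_one_right h).symm
  refine isConj_iff.2 ⟨W w1, ?_⟩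
  rw [v, zv, W_append w1, W_append zb, W_zb, h1, mul_assoc]

theorem isConj_bv : IsConj (RuSyl.g 0) (RuSyl.g 0 * v) := by
  have h := eqw_sound b17'
  rw [W_append, W_nil] at h
  have h1 : W w2' = (W w2)⁻¹ := (inv_eq_of_mul_eq_one_right h).symm
  refine isConj_iff.2 ⟨W w2, ?_⟩
  have h2 := eqw_sound b4'
  rw [W_append w2, W_append zb w2', W_append zb zv, W_zb, h1] at h2
  rw [mul_assoc]
  exact h2

theorem eq_of_apply {l t : RuOrder.H} (h0 : l * W (xc ++ xc) = W (xc ++ xc) * l)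
    (h1 : l * W (xd ++ xd) = W (xd ++ xd) * l) (t0 : t * W (xc ++ xc) = W (xc ++ xc) * t)
    (t1 : t * W (xd ++ xd) = W (xd ++ xd) * t)
    (h : (l : Equiv.Perm (Fin 4060)) p416 = (t : Equiv.Perm (Fin 4060)) p416) :
    l = t := by
  have h2 : t⁻¹ * l = 1 := by
    refine eq_one_b ?_ ?_ ?_
    · have h3 : t⁻¹ * W (xc ++ xc) = W (xc ++ xc) * t⁻¹ := (Commute.inv_left (show Commute t _ from t0)).eq
      rw [mul_assoc, h0, ← mul_assoc, h3, mul_assoc]
    · have h3 : t⁻¹ * W (xd ++ xd) = W (xd ++ xd) * t⁻¹ := (Commute.inv_left (show Commute t _ from t1)).eq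
      rw [mul_assoc, h1, ← mul_assoc, h3, mul_assoc]
    · change (t : Equiv.Perm (Fin 4060))⁻¹ ((l : Equiv.Perm (Fin 4060)) p416) = _
      rw [h]
      exact inv_self _ _
  exact (inv_mul_eq_one.1 h2).symm

/-- **2B**: the centraliser of the squares of the elements of `C(g 0)` -/
theorem cent_sq_b (l : RuOrder.H)
    (h : ∀ x : RuOrder.H, x * RuSyl.g 0 = RuSyl.g 0 * x → l * (x * x) = (x * x) * l) :
    l = 1 ∨ l = RuSyl.g 0 ∨ l = v ∨ l = RuSyl.g 0 * v := by
  have h0 := comm_sq h W_zb b1'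
  have h1 := comm_sq h W_zb b2'
  have z0 : RuSyl.g 0 * W (xc ++ xc) = W (xc ++ xc) * RuSyl.g 0 := by
    have h2 := eqw_sound b1'
    rw [W_append, W_append, W_zb] at h2
    rw [W_append, ← mul_assoc, ← h2, mul_assoc, ← h2, mul_assoc]
  have z1 : RuSyl.g 0 * W (xd ++ xd) = W (xd ++ xd) * RuSyl.g 0 := by
    have h2 := eqw_sound b2'
    rw [W_append, W_append, W_zb] at h2
    rw [W_append, ← mul_assoc, ← h2, mul_assoc, ← h2, mul_assoc]
  have v0 : v * W (xc ++ xc) = W (xc ++ xc) * v := by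
    have h2 := eqw_sound b6'
    rw [W_append zv (xc ++ xc), W_append (xc ++ xc) zv] at h2
    exact h2
  have v1 : v * W (xd ++ xd) = W (xd ++ xd) * v := by
    have h2 := eqw_sound b7'
    rw [W_append zv (xd ++ xd), W_append (xd ++ xd) zv] at h2
    exact h2
  have h2 := mem_fixM h0 (a := p416) b9' b8'
  change ((2 ^ 416 ||| 2 ^ 2434) ||| (2 ^ 2334 ||| 2 ^ 3886)).testBit
    ((l : Equiv.Perm (Fin 4060)) p416) = true at h2
  rw [Nat.testBit_or, Nat.testBit_or, Nat.testBit_or, Bool.or_eq_true, Bool.or_eq_true, Bool.or_eq_true] at h2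
  rcases h2 with (h2 | h2) | (h2 | h2)
  · left
    exact eq_one_b h0 h1 (Fin.ext (eq_of_testBit_pow h2))
  · right; left
    have h3 : (l : Equiv.Perm (Fin 4060)) p416 = p2434 := Fin.ext (eq_of_testBit_pow h2)
    refine eq_of_apply h0 h1 z0 z1 ?_
    rw [h3, ← W_zb]
    exact (apply_of_beq b10').symm
  · right; right; left
    have h3 : (l : Equiv.Perm (Fin 4060)) p416 = p2334 := Fin.ext (eq_of_testBit_pow h2)
    refine eq_of_apply h0 h1 v0 v1 ?_
    rw [h3, v]
    exact (apply_of_beq b11').symm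
  · right; right; right
    have h3 : (l : Equiv.Perm (Fin 4060)) p416 = p3886 := Fin.ext (eq_of_testBit_pow h2)
    refine eq_of_apply h0 h1 ?_ ?_ ?_
    · rw [mul_assoc, v0, ← mul_assoc, z0, mul_assoc]
    · rw [mul_assoc, v1, ← mul_assoc, z1, mul_assoc]
    · have h4 : RuSyl.g 0 * v = W (zb ++ zv) := by rw [W_append zb zv, W_zb, v]
      rw [h3, h4]
      exact (apply_of_beq b12').symm

/-- the statement of the 2B facts -/
theorem exists_four : ∃ v : RuOrder.H, v * RuSyl.g 0 = RuSyl.g 0 * v ∧ IsConj (RuSyl.g 0) v ∧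
    IsConj (RuSyl.g 0) (RuSyl.g 0 * v) ∧ ∀ l : RuOrder.H,
      (∀ x : RuOrder.H, x * RuSyl.g 0 = RuSyl.g 0 * x → l * (x * x) = (x * x) * l) →
      l = 1 ∨ l = RuSyl.g 0 ∨ l = v ∨ l = RuSyl.g 0 * v :=
  ⟨v, v_comm, isConj_v, isConj_bv, cent_sq_b⟩

end Cfsg.Agent.OddHalf.Table.RuInvCent
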