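import Cfsg.Agent.R08.XBridge
import Cfsg.Agent.OddHalf.Table.Iface17

/-!
# The outer automorphisms of the Fischer group `Fi22` are detected by a character

Every automorphism of `Fi22` lifts to the double cover `K`; by Lemma V the inner ones are exactly those whose lift
fixes the two classes of lifts of the transpositions.
-/

set_option autoImplicit false
set_option linter.constructorNameAsVariable false

namespace Cfsg.Agent.OddHalf.Table.OutFi22

open Cfsg Cfsg.Spor Cfsg.Agent.R08 Cfsg.Agent.R08.LiftCls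
open Cfsg.Agent.R08.AutT (T)
open Cfsg.Agent.Fischer.Fi23Class (K)
open Cfsg.Agent.Fischer.Fi23Cover (kgen)
open Cfsg.Agent.Fischer.Fi22PtsRep (gen)
open Cfsg.Agent.R08.FiTwentyThree (pi zK S)

/-- A subgroup such that the product of two elements outside is inside gives a character. -/
theorem exists_sign {A : Type*} [Group A] (I : Subgroup A)
    (h : ∀ a b : A, a ∉ I → b ∉ I → a * b ∈ I) {α : A} (hα : α ∉ I) :
    ∃ l : A →* ℤˣ, (∀ x ∈ I, l x = 1) ∧ l α = -1 := by
  classical
  refine ⟨{ toFun := fun a => if a ∈ I then 1 else -1, map_one' := by rw [if_pos I.one_mem],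
            map_mul' := ?_ }, ?_, ?_⟩
  · intro a b
    by_cases ha : a ∈ I <;> by_cases hb : b ∈ I
    · rw [if_pos ha, if_pos hb, if_pos (I.mul_mem ha hb), mul_one]
    · rw [if_pos ha, if_neg hb, if_neg (fun hab => hb ((Subgroup.mul_mem_cancel_left I ha).1 hab)), one_mul]
    · rw [if_neg ha, if_pos hb, if_neg (fun hab => ha ((Subgroup.mul_mem_cancel_right I hb).1 hab)), mul_one]
    · rw [if_neg ha, if_neg hb, if_pos (h a b ha hb)]
      decide
  · intro x hx
    exact if_pos hx
  · exact if_neg hα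

/-- The same for the inner automorphisms of a group isomorphic to `Q`. -/
theorem exists_char_of {X Q : Type*} [Group X] [Group Q] (e : X ≃* Q)
    (h : ∀ a b : MulAut Q, (∀ x : Q, a ≠ MulAut.conj x) → (∀ x : Q, b ≠ MulAut.conj x) →
      ∃ x : Q, a * b = MulAut.conj x) (α : MulAut X) (hα : ∀ x : X, α ≠ MulAut.conj x) :
    ∃ l : MulAut X →* ℤˣ, (∀ x : X, l (MulAut.conj x) = 1) ∧ l α = -1 := by
  have hg : ∀ x : X, MulAut.congr e (MulAut.conj x) = MulAut.conj (e x) := by
    intro x
    ext y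
    simp [MulAut.congr]
  set I : Subgroup (MulAut Q) := (MulAut.conj : Q →* MulAut Q).range with hI
  have hnot : MulAut.congr e α ∉ I := by
    rintro ⟨x, hx⟩
    apply hα (e.symm x)
    apply (MulAut.congr e).injective
    rw [← hx, hg, e.apply_symm_apply]
  obtain ⟨l, hl1, hl2⟩ := exists_sign I (by
    intro a b ha hb
    obtain ⟨x, hx⟩ := h a b (fun x hx => ha ⟨x, hx.symm⟩) (fun x hx => hb ⟨x, hx.symm⟩)
    exact ⟨x, hx.symm⟩) hnot
  refine ⟨l.comp (MulAut.congr e).toMonoidHom, fun x => ?_, hl2⟩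
  show l (MulAut.congr e (MulAut.conj x)) = 1
  rw [hg]
  exact hl1 _ ⟨_, rfl⟩

/-- The relations of small order lift. -/
theorem lift_rel {a b : K} (ha : a ∈ S) (hb : b ∈ S) {m : ℕ} (hm : m = 1 ∨ m = 2 ∨ m = 3)
    (h : (pi a * pi b) ^ m = 1) : (a * b) ^ m = 1 := by
  have hc := LemmaVInst.clsK
  have hsq : ∀ x ∈ S, x * x = 1 := hc.lifted.sq
  have hpsq : ∀ x ∈ S, pi x * pi x = 1 := fun x hx => by rw [← map_mul, hsq x hx, map_one]
  have heq : pi a * pi b = 1 → a = b := by
    intro h1
    apply hc.bij.2.1 ha hb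
    calc pi a = pi a * (pi b * pi b) := by rw [hpsq b hb, mul_one]
      _ = (pi a * pi b) * pi b := by group
      _ = pi b := by rw [h1, one_mul]
  rcases hm with rfl | rfl | rfl
  · rw [pow_one] at h ⊢
    rw [heq h, hsq b hb]
  · have h1 : Commute (pi a) (pi b) := by
      rw [pow_two] at h
      have h2 := eq_inv_of_mul_eq_one_left h
      rw [mul_inv_rev, inv_eq_of_mul_eq_one_left (hpsq a ha), inv_eq_of_mul_eq_one_left (hpsq b hb)] at h2
      exact h2
    have h2 := hc.comm a b (hc.bij.1 ha) (hc.bij.1 hb) h1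
    rw [pow_two]
    calc a * b * (a * b) = a * (b * a) * b := by group
      _ = a * (a * b) * b := by rw [h2.eq]
      _ = (a * a) * (b * b) := by group
      _ = 1 := by rw [hsq a ha, hsq b hb, mul_one]
  · rcases hc.lifted.three a ha b hb with h1 | h1
    · have h2 : (pi a * pi b) ^ 2 = 1 := by
        rw [← map_mul, ← map_pow, pow_two]
        have : a * b * (a * b) = 1 := by
          calc a * b * (a * b) = a * (b * a) * b := by group
            _ = a * (a * b) * b := by rw [h1]
            _ = (a * a) * (b * b) := by group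
            _ = 1 := by rw [hsq a ha, hsq b hb, mul_one]
        rw [this, map_one]
      have h3 : pi a * pi b = 1 := by
        rw [pow_succ, h2, one_mul] at h
        exact h
      rw [heq h3, hsq b hb, one_pow]
    · exact h1

/-- **Every automorphism of `Fi22` lifts to the double cover.** -/
theorem exists_lift (β : Spor.Fi22 ≃* Spor.Fi22) : ∃ φ : K ≃* K, ∀ k, pi (φ k) = β (pi k) := by
  have hc := LemmaVInst.clsK
  have hex : ∀ s : Fi22.Gen, ∃ x ∈ S, pi x = β (gen s) := fun s =>
    hc.bij.2.2 (AutT.aut_mem β (Cfsg.Agent.R01.Fi22Facts.gen_mem s))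
  choose x hx hxp using hex
  have hpk : ∀ s : Fi22.Gen, pi (kgen s) = gen s := by
    intro s
    have h : kgen s = Cfsg.Agent.R01.AlphaFi23.t s := by
      apply Subtype.ext
      cases s <;> rfl
    rw [h]
    exact FiTwentyThree.pi_t s
  -- relations of the lifts
  have hlab : ∀ p q : Fi22.Gen, coxLabel Fi22.edges p q = 1 ∨ coxLabel Fi22.edges p q = 2 ∨
      coxLabel Fi22.edges p q = 3 := by
    intro p q
    cases p <;> cases q <;> decide
  have hcox : ∀ p q : Fi22.Gen, (x p * x q) ^ coxLabel Fi22.edges p q = 1 := by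
    intro p q
    apply lift_rel (hx p) (hx q) (hlab p q)
    rw [hxp, hxp, ← map_mul, ← map_pow, ← hpk, ← hpk, ← map_mul, ← map_pow,
      Cfsg.Agent.Fischer.Fi23Cover.kgen_rel, map_one, map_one]
  have hker : ∀ k : K, pi k = 1 → k = 1 ∨ k = zK := fun k => (hc.ext.ker k).1
  have hspider : (x .d * x .c * x .b * x .d * x .e * x .f * x .d * x .h * x .i) ^ 10 = 1 := by
    set w := x .d * x .c * x .b * x .d * x .e * x .f * x .d * x .h * x .i with hw
    have h1 : pi (w ^ 10) = 1 := by
      rw [hw]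
      simp only [map_pow, map_mul, hxp]
      simp only [← map_mul, ← map_pow, ← hpk]
      rw [Cfsg.Agent.Fischer.Fi23Cover.kspider, map_one, map_one]
    rcases hker _ h1 with h2 | h2
    · exact h2
    · exfalso
      apply hc.hns (w ^ 5)
      rw [← pow_add]
      exact h2
  have he7 : (x .a * x .b * x .c * x .d * x .e * x .f * x .h) ^ 9 = 1 ∨
      (x .a * x .b * x .c * x .d * x .e * x .f * x .h) ^ 9 = zK := by
    apply hker
    simp only [map_pow, map_mul, hxp]
    simp only [← map_mul, ← map_pow, ← hpk]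
    rw [Cfsg.Agent.Fischer.Fi23Cover.ke7, map_one, map_one]
  -- the corrected lifts
  obtain ⟨c, hcc, hcz, hpc, hrel⟩ : ∃ c : K, c * c = 1 ∧ (∀ g, c * g = g * c) ∧ pi c = 1 ∧
      c * (x .a * x .b * x .c * x .d * x .e * x .f * x .h) ^ 9 = 1 := by
    rcases he7 with h1 | h1
    · exact ⟨1, one_mul 1, fun g => by rw [one_mul, mul_one], map_one _, by rw [h1, one_mul]⟩
    · exact ⟨zK, hc.ext.zz, fun g => (hc.ext.comm g).symm, hc.ext.mapz, by rw [h1, hc.ext.zz]⟩
  have hc1 : ∀ g, c * (c * g) = g := fun g => by rw [← mul_assoc, hcc, one_mul]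
  have hc2 : ∀ (s : Fi22.Gen) (g : K), x s * (c * g) = c * (x s * g) := fun s g => by
    rw [← mul_assoc, ← hcz, mul_assoc]
  have hc3 : ∀ (g : K) (n : ℕ), (c * g) ^ n = c ^ n * g ^ n := fun g n =>
    Commute.mul_pow (hcz g) n
  have hR : X4Pres.Rel22 (fun s => c * x s) := by
    refine ⟨?_, ?_, ?_⟩
    · intro p q
      have : c * x p * (c * x q) = x p * x q := by
        rw [mul_assoc, hc2, hc1]
      rw [this]
      exact hcox p q
    · have : c * x .d * (c * x .c) * (c * x .b) * (c * x .d) * (c * x .e) * (c * x .f) * (c * x .d) *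
          (c * x .h) * (c * x .i) =
          c * (x .d * x .c * x .b * x .d * x .e * x .f * x .d * x .h * x .i) := by
        simp only [mul_assoc, hc2, hc1]
      rw [this, hc3, hspider, mul_one]
      calc c ^ 10 = (c * c) ^ 5 := by rw [← pow_two, ← pow_mul]
        _ = 1 := by rw [hcc, one_pow]
    · have : c * x .a * (c * x .b) * (c * x .c) * (c * x .d) * (c * x .e) * (c * x .f) * (c * x .h) =
          c * (x .a * x .b * x .c * x .d * x .e * x .f * x .h) := by
        simp only [mul_assoc, hc2, hc1]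
      rw [this, hc3]
      have h9 : c ^ 9 = c := by
        calc c ^ 9 = (c * c) ^ 4 * c := by rw [← pow_two, ← pow_mul, ← pow_succ]
          _ = c := by rw [hcc, one_pow, one_mul]
      rw [h9]
      exact hrel
  obtain ⟨φ, hφ⟩ := X4Pres.exists_hom hR
  have hcomp : pi.comp φ = β.toMonoidHom.comp pi := by
    apply X4Pres.hom_ext
    intro s
    show pi (φ (kgen s)) = β (pi (kgen s))
    rw [hφ, map_mul, hpc, one_mul, hxp, hpk]
  have hφp : ∀ k, pi (φ k) = β (pi k) := fun k => DFunLike.congr_fun hcomp k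
  have hsurj : Function.Surjective φ := by
    rw [← MonoidHom.range_eq_top]
    apply eq_top_of_map hc.ext hc.perf
    intro y
    obtain ⟨k, hk⟩ := hc.ext.surj (β.symm y)
    exact ⟨φ k, ⟨k, rfl⟩, by rw [hφp, hk, β.apply_symm_apply]⟩
  have hinj : Function.Injective φ := Finite.injective_iff_surjective.2 hsurj
  exact ⟨MulEquiv.ofBijective φ ⟨hinj, hsurj⟩, hφp⟩

/-- An automorphism whose lift fixes the class of `a` is inner. -/
theorem inner_of_lift {β : Spor.Fi22 ≃* Spor.Fi22} {φ : K ≃* K} (h : ∀ k, pi (φ k) = β (pi k))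
    (ha : IsConj (kgen .a) (φ (kgen .a))) : ∃ x : Spor.Fi22, β = MulAut.conj x := by
  obtain ⟨g, hg⟩ := XBridge.lemV φ ha
  refine ⟨pi g, ?_⟩
  ext y
  obtain ⟨k, rfl⟩ := LemmaVInst.clsK.ext.surj y
  rw [← h, hg, map_mul, map_mul, map_inv, MulAut.conj_apply]

/-- The product of two outer automorphisms is inner. -/
theorem mul_outer (α β : MulAut Spor.Fi22) (hα : ∀ x : Spor.Fi22, α ≠ MulAut.conj x)
    (hβ : ∀ x : Spor.Fi22, β ≠ MulAut.conj x) : ∃ x : Spor.Fi22, α * β = MulAut.conj x := by
  obtain ⟨φ, hφ⟩ := exists_lift α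
  obtain ⟨ψ, hψ⟩ := exists_lift β
  have h1 : IsConj (kgen .a) (zK * φ (kgen .a)) := by
    rcases XBridge.char φ with h | h
    · obtain ⟨x, hx⟩ := inner_of_lift hφ h
      exact (hα x hx).elim
    · exact h
  have h2 : IsConj (kgen .a) (zK * ψ (kgen .a)) := by
    rcases XBridge.char ψ with h | h
    · obtain ⟨x, hx⟩ := inner_of_lift hψ h
      exact (hβ x hx).elim
    · exact h
  obtain ⟨g, hg⟩ := isConj_iff.1 h1
  obtain ⟨k, hk⟩ := isConj_iff.1 h2
  have hz : φ zK = zK := aut_z LemmaVInst.clsK.ext φ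
  have hcen : ∀ c, c * zK = zK * c := LemmaVInst.clsK.ext.comm
  refine inner_of_lift (β := α * β) (φ := ψ.trans φ) ?_ ?_
  · intro y
    show pi (φ (ψ y)) = α (β (pi y))
    rw [hφ, hψ]
  · rw [isConj_iff]
    refine ⟨φ k * g, ?_⟩
    show φ k * g * kgen .a * (φ k * g)⁻¹ = φ (ψ (kgen .a))
    have h3 := congrArg φ hk
    rw [map_mul, map_mul, map_mul, map_inv, hz] at h3
    calc φ k * g * kgen .a * (φ k * g)⁻¹ = φ k * (g * kgen .a * g⁻¹) * (φ k)⁻¹ := by group
      _ = φ k * (zK * φ (kgen .a)) * (φ k)⁻¹ := by rw [hg]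
      _ = (φ k * zK) * φ (kgen .a) * (φ k)⁻¹ := by group
      _ = zK * (φ k * φ (kgen .a) * (φ k)⁻¹) := by rw [hcen]; group
      _ = (zK * zK) * φ (ψ (kgen .a)) := by rw [h3, mul_assoc]
      _ = φ (ψ (kgen .a)) := by rw [LemmaVInst.clsK.ext.zz, one_mul]

/-- An automorphism of a group isomorphic to `Fi22` which is not inner is detected by a character. -/
theorem exists_char {X : Type*} [Group X] (e : X ≃* Cfsg.Spor.Fi22) (α : MulAut X)
    (hα : ∀ x : X, α ≠ MulAut.conj x) :
    ∃ l : MulAut X →* ℤˣ, (∀ x : X, l (MulAut.conj x) = 1) ∧ l α = -1 :=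
  exists_char_of e mul_outer α hα

/-- Row `Fi22` of the table of signs of outer automorphisms. -/
theorem outSign_Fi22 {X : Type*} [Group X] (e : X ≃* Cfsg.Spor.Fi22) : OutSign X :=
  fun α _ hα => exists_char e α hα

end Cfsg.Agent.OddHalf.Table.OutFi22
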