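import Cfsg.Agent.OddHalf.Table.AutRGD
import Cfsg.Agent.Nodes.RGDChev
import Cfsg.Agent.S1054

/-!
# `OutSign` for the Chevalley groups over the field with two elements

helper328 (TABLE-17 of S1765): row `F4(2)`.
-/

set_option autoImplicit false

namespace Cfsg.Agent.OddHalf.Table.OutChevTwo

open CoxeterSystem Cfsg.Agent.ChevalleyStructure.CoxeterGeom Cfsg.Agent.Tits.Roots Cfsg.Agent.Tits.Core
  Cfsg.Agent.Tits.RootComb Cfsg.Agent.Nodes.Comb Cfsg.Agent.Nodes.Reps Cfsg.Agent.Nodes.BNOf Cfsg.Agent.Nodes.BNOf.RGD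
  Cfsg.Agent.Nodes.RGDChev Cfsg.Agent.OddHalf.Table.AutRGD
open Cfsg.Lie Cfsg.Agent.ChevalleyStructure Cfsg.Agent.ChevalleyStructure.Elts
  Cfsg.Agent.ChevalleyStructure.RootVec Cfsg.Agent.ChevalleyStructure.RootVecTab
  Cfsg.Agent.ChevalleyStructure.NPerm Cfsg.Agent.ChevalleyStructure.CoxeterGeomTypes

universe u

/-- A field with two elements. -/
theorem eq_zero_or_one {F : Type*} [Field F] (hF : Nat.card F = 2) (t : F) : t = 0 ∨ t = 1 := by
  have hfin : Finite F := Nat.finite_of_card_ne_zero (by rw [hF]; norm_num)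
  have := Fintype.ofFinite F
  classical
  by_contra hcon
  push Not at hcon
  have h1 : ({0, 1, t} : Finset F).card = 3 := by
    rw [Finset.card_insert_of_notMem, Finset.card_insert_of_notMem, Finset.card_singleton]
    · simp only [Finset.mem_singleton]; exact fun h => hcon.2 h.symm
    · simp only [Finset.mem_insert, Finset.mem_singleton, not_or]
      exact ⟨zero_ne_one, fun h => hcon.1 h.symm⟩
  have h2 := Finset.card_le_univ ({0, 1, t} : Finset F)
  rw [h1, ← Nat.card_eq_fintype_card, hF] at h2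
  exact absurd h2 (by norm_num)

theorem charP_two {F : Type*} [Field F] (hF : Nat.card F = 2) : CharP F 2 := by
  have h1 : (2 : F) = 0 := by
    rcases eq_zero_or_one hF (2 : F) with h | h
    · exact h
    · exfalso
      have h2 : (1 : F) + 1 = 1 := by rw [one_add_one_eq_two]; exact h
      exact one_ne_zero (left_eq_add.1 h2.symm)
  exact CharTwo.of_one_ne_zero_of_two_eq_zero one_ne_zero h1

/-- `OutSign` for `D.group F`, `|F| = 2`, when the diagram has at most one nontrivial automorphism. -/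
theorem outSign_group {D : ChevalleyDatum} {l : ℕ} [Nonempty (Fin l)] {M : CoxeterMatrix (Fin l)} (hp : IsType D l M)
    (F : Type u) [Field F] (hF : Nat.card F = 2) [IsSimpleGroup ↥(D.group F)]
    (hM : ∀ σ τ : Fin l → Fin l, Function.Injective σ → Function.Injective τ →
      (∀ i j, M (σ i) (σ j) = M i j) →
      (∀ i j, M (τ i) (τ j) = M i j) → (∃ i, σ i ≠ i) → (∃ i, τ i ≠ i) → ∀ i, σ (τ i) = i) :
    OutSign ↥(D.group F) := by
  have hfin : Finite F := Nat.finite_of_card_ne_zero (by rw [hF]; norm_num)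
  have hc := charP_two hF
  have hprime : Fact (Nat.Prime 2) := ⟨Nat.prime_two⟩
  have hW := finite_W hp M.toCoxeterSystem
  have R := rgd (K := F) hp M.toCoxeterSystem 2
  have hgen := gen (K := F) hp M.toCoxeterSystem 2
  obtain ⟨i₀⟩ := (inferInstance : Nonempty (Fin l))
  have hcore := Cfsg.Agent.Tits.OfBN.normalCore_eq_bot (R.bnPair hgen) ⟨_, i₀, rfl⟩
  refine outSign_of_types R hgen hcore ?_ hM
  intro i
  refine ⟨⟨xG hp.inList (D.simple i) (1 : F), xG_mem_group hp.inList _ _⟩, ?_⟩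
  rintro ⟨x, hx⟩ hxX
  rw [Subgroup.mem_subgroupOf, XV_sr hp i, mem_rootSubgroup_iff hp.inList] at hxX
  obtain ⟨t, ht⟩ := hxX
  have ht' : x = xG hp.inList (D.simple i) t := ht
  rcases eq_zero_or_one hF t with rfl | rfl
  · left
    apply Subtype.ext
    rw [xG_zero] at ht'
    exact ht'
  · right
    exact Subtype.ext ht'

/-- The Coxeter matrix of type `F₄` as a function. -/
def mF4 (a b : Fin 4) : ℕ := CoxeterMatrix.F₄ a b

/-- The automorphisms of the diagram `F₄`. -/
theorem diag_F4 : ∀ σ : Fin 4 → Fin 4, (∀ i j, CoxeterMatrix.F₄ (σ i) (σ j) = CoxeterMatrix.F₄ i j) →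
    (∃ i, σ i ≠ i) → ∀ i, σ i = 3 - i := by
  have key : ∀ a b c d : Fin 4, mF4 a b = 3 → mF4 b c = 4 → mF4 c d = 3 →
      (a = 0 ∧ b = 1 ∧ c = 2 ∧ d = 3) ∨ (a = 3 ∧ b = 2 ∧ c = 1 ∧ d = 0) := by decide +kernel
  intro σ hσ hne i
  have h01 : mF4 (σ 0) (σ 1) = 3 := (hσ 0 1).trans (show mF4 0 1 = 3 by decide +kernel)
  have h12 : mF4 (σ 1) (σ 2) = 4 := (hσ 1 2).trans (show mF4 1 2 = 4 by decide +kernel)
  have h23 : mF4 (σ 2) (σ 3) = 3 := (hσ 2 3).trans (show mF4 2 3 = 3 by decide +kernel)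
  rcases key _ _ _ _ h01 h12 h23 with ⟨h0, h1, h2, h3⟩ | ⟨h0, h1, h2, h3⟩
  · exfalso
    obtain ⟨j, hj⟩ := hne
    apply hj
    fin_cases j
    · exact h0
    · exact h1
    · exact h2
    · exact h3
  · fin_cases i
    · exact h0
    · exact h1
    · exact h2
    · exact h3

/-- **`F4(2)`.** -/
theorem outSign_F42 (F : Type u) [Field F] (hF : Nat.card F = 2) : OutSign ↥(chevF4.group F) := by
  have hs : IsSimpleGroup ↥(chevF4.group F) := (Cfsg.Agent.S1054.result chevF4 (by simp)).1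
  refine outSign_group (l := 4) (M := CoxeterMatrix.F₄) (by simp [IsType, typeList]) F hF ?_
  intro σ τ _ _ hσ hτ hσ1 hτ1 i
  rw [diag_F4 σ hσ hσ1, diag_F4 τ hτ hτ1]
  revert i
  decide

end Cfsg.Agent.OddHalf.Table.OutChevTwo
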