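import Cfsg.Agent.OddHalf.Table.OutBasic
import Cfsg.Agent.J4Type.Aut22

/-!
# TABLE-17, the row `M22`
-/

set_option autoImplicit false

namespace Cfsg.Agent.OddHalf.Table.OutMTwentyTwo

open Cfsg Cfsg.Agent.J4Type.Aut22
open Cfsg.Agent.OddHalf.Table.OutBasic

/-- `|Aut M22| ≤ 2 |M22|`. -/
theorem card_le : Nat.card (MulAut Spor.M22) ≤ 887040 := by
  have h0 : Nat.card D22 = 887040 := card_D22
  have hfin : Finite D22 := Nat.finite_of_card_ne_zero (by rw [h0]; decide)
  rw [← h0]
  choose g hg using fun α : MulAut Spor.M22 => exists_conj α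
  refine Nat.card_le_card_of_injective (fun α => (⟨g α, (hg α).1⟩ : D22)) ?_
  intro α β h
  have h1 : g α = g β := congrArg Subtype.val h
  ext x
  have h2 := (hg α).2 x
  have h3 := (hg β).2 x
  rw [h1] at h2
  rw [h2, h3]

theorem outSign : OutSign Spor.M22 := by
  have hc := Cfsg.Agent.SporadicA.MathieuRecog.card_M22
  have hs : IsSimpleGroup Spor.M22 := Cfsg.Agent.SporadicA.MathieuRecog.simple_M22
  have hf : Finite Spor.M22 := Nat.finite_of_card_ne_zero (by rw [hc]; decide)
  refine os_of_card_le (center_eq_bot ?_) ?_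
  · rw [hc]
    norm_num
  · rw [hc]
    exact card_le

theorem outSign_M22 {X' : Type*} [Group X'] (e : X' ≃* Spor.M22) : OutSign X' :=
  outSign.of_equiv e.symm

end Cfsg.Agent.OddHalf.Table.OutMTwentyTwo
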