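import Cfsg.Agent.Schreier.PSU
import Cfsg.Agent.OddHalf.Table.OutBasic

/-!
# TABLE-17, the row `U6(2)`: outer involutory automorphisms of `U_n(2)` are detected by a sign
-/

set_option autoImplicit false

namespace Cfsg.Agent.OddHalf.Table.OutUSix

open Cfsg Matrix Cfsg.Agent.Schreier.PSU Cfsg.Agent.LieClassical.HermSiegel
  Cfsg.Agent.ClassicalGeometry.PSUAutCount
open Cfsg.Agent.ClassicalGeometry.UnitAutBasic (pr pr_surjective)
open Cfsg.Agent.OddHalf.Table.OutBasic

variable {F : Type*} [Field F] {n : ℕ}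

/-- the product of two nontrivial automorphisms of the field with four elements -/
theorem ringAut_mul [Fintype F] (hF : Fintype.card F = 2 ^ 2) (ρ σ : F ≃+* F) (hρ : ρ ≠ 1) (hσ : σ ≠ 1) :
    ρ * σ = 1 := by
  classical
  obtain ⟨x, hx0, hx1⟩ : ∃ x : F, x ≠ 0 ∧ x ≠ 1 := by
    by_contra hcon
    push Not at hcon
    have h1 : (Finset.univ : Finset F) ⊆ {0, 1} := by
      intro t _
      by_cases h0 : t = 0
      · simp [h0]
      · simp [hcon t h0]
    have h2 := (Finset.card_le_card h1).trans Finset.card_le_two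
    rw [Finset.card_univ, hF] at h2
    omega
  have hchar : CharP F 2 := by
    obtain ⟨p, hp⟩ := CharP.exists F
    have h4 : p.Prime := CharP.char_is_prime F p
    have := Fact.mk h4
    obtain ⟨m, hm⟩ := FiniteField.card F p
    have h5 : p ∣ 2 ^ 2 := by
      rw [← hF, hm.2]
      exact dvd_pow_self p m.2.ne'
    have h6 := h4.dvd_of_dvd_pow h5
    rwa [(Nat.prime_dvd_prime_iff_eq h4 Nat.prime_two).1 h6] at hp
  have h2 : ∀ y : F, y + y = 0 := fun y => CharTwo.add_self_eq_zero y
  have hx2 : x + 1 ≠ 0 := fun h => hx1 (by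
    have := h2 (1 : F)
    exact (add_right_cancel (h.trans this.symm)))
  have hx3 : x + 1 ≠ 1 := fun h => hx0 (by simpa using h)
  have hx4 : x + 1 ≠ x := fun h => (one_ne_zero : (1 : F) ≠ 0) (by simpa using h)
  have hall : ∀ y : F, y = 0 ∨ y = 1 ∨ y = x ∨ y = x + 1 := by
    have h3 : ({0, 1, x, x + 1} : Finset F) = Finset.univ := by
      apply Finset.eq_univ_of_card
      rw [hF, Finset.card_insert_of_notMem, Finset.card_insert_of_notMem, Finset.card_insert_of_notMem,
        Finset.card_singleton]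
      · norm_num
      · simpa using hx4.symm
      · simp only [Finset.mem_insert, Finset.mem_singleton, not_or]
        exact ⟨hx1.symm, hx3.symm⟩
      · simp only [Finset.mem_insert, Finset.mem_singleton, not_or]
        exact ⟨zero_ne_one, hx0.symm, hx2.symm⟩
    intro y
    have h4 := Finset.mem_univ y
    rw [← h3] at h4
    simpa using h4
  have hone : ∀ τ : F ≃+* F, τ x = x → τ = 1 := by
    intro τ h
    ext y
    rcases hall y with h1 | h1 | h1 | h1
    · rw [h1, map_zero, map_zero]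
    · rw [h1, map_one, map_one]
    · rw [h1, h]; rfl
    · rw [h1, map_add, h, map_one]; rfl
  have hswap : ∀ τ : F ≃+* F, τ ≠ 1 → τ x = x + 1 := by
    intro τ h
    rcases hall (τ x) with h1 | h1 | h1 | h1
    · exact absurd ((map_eq_zero τ).1 h1) hx0
    · exact absurd ((map_eq_one_iff τ τ.injective).1 h1) hx1
    · exact absurd (hone τ h1) h
    · exact h1
  apply hone
  rw [RingAut.mul_apply, hswap σ hσ, map_add, map_one, hswap ρ hρ, add_assoc, h2, add_zero]

/-- the element of `GU` given by an element of `SU` -/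
theorem exists_gm (g : SU n F 2) : ∃ A : GU n F 2, gm A = mat g :=
  ⟨⟨Matrix.SpecialLinearGroup.toGL (g : SpecialLinearGroup (Fin n) F), fun u v => g.2 u v⟩, rfl⟩

theorem outSign [Fintype F] (hF : Fintype.card F = 2 ^ 2) (hn : 4 ≤ n) : OutSign (PSU n F 2) := by
  refine os_of_normal (f₁ : GU n F 2 →* MulAut (PSU n F 2)).range ?_ ?_ ?_
  · intro x
    obtain ⟨g, rfl⟩ := pr_surjective x
    obtain ⟨A, hA⟩ := exists_gm g
    exact ⟨A, f₁_eq_conj A g hA⟩
  · have hex : ∀ α : MulAut (PSU n F 2), α ∉ (f₁ : GU n F 2 →* MulAut (PSU n F 2)).range →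
        ∃ (A : GU n F 2) (ρ : F ≃+* F), ρ ≠ 1 ∧ α = f₁ A * f₂ ρ := by
      intro α hα
      obtain ⟨A, ρ, h⟩ := ClassicalGeometry.PSUAutMain.exists_toAut hF (by omega) (by omega) α
      rw [toAut_eq] at h
      refine ⟨A, ρ, ?_, h⟩
      rintro rfl
      rw [map_one, mul_one] at h
      exact hα ⟨A, h.symm⟩
    intro a b ha hb
    obtain ⟨A, ρ, hρ, rfl⟩ := hex a ha
    obtain ⟨B, σ, hσ, rfl⟩ := hex b hb
    have h1 := ringAut_mul hF ρ σ hρ hσ
    refine ⟨A * mapGU ρ B, ?_⟩
    rw [map_mul, ← conj_field]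
    have h2 : (f₂ σ : MulAut (PSU n F 2)) = (f₂ ρ)⁻¹ := by
      rw [eq_inv_iff_mul_eq_one, ← map_mul, ringAut_mul hF σ ρ hσ hρ, map_one]
    rw [h2]
    group
  · rintro _ ⟨A, rfl⟩ h1
    have h2 : f₁ (A ^ 3) = (f₁ A : MulAut (PSU n F 2)) := by
      rw [map_pow, pow_succ, pow_two, h1, one_mul]
    have hdet : (gm (A ^ 3)).det = 1 := by
      have h3 : gm (A ^ 3) = gm A * gm A * gm A := by
        rw [pow_succ, pow_two]; rfl
      have h4 : (gm A).det ≠ 0 := by
        intro h
        have := congrArg Matrix.det (gm_mul_inv A)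
        rw [det_mul, h, zero_mul, det_one] at this
        exact zero_ne_one this
      have h5 := FiniteField.pow_card_sub_one_eq_one (gm A).det h4
      rw [hF] at h5
      rw [h3, det_mul, det_mul, ← h5]
      ring
    let g : SU n F 2 := mkSU (gm (A ^ 3)) hdet (fun u v => herm_gm _ u v)
    exact ⟨pr n F 2 g, by rw [← h2]; exact f₁_eq_conj (A ^ 3) g rfl⟩

/-- The row `U6(2)`. -/
theorem outSign_USix [Fintype F] (hF : Fintype.card F = 2 ^ 2) {X' : Type*} [Group X'] (e : X' ≃* PSU 6 F 2) :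
    OutSign X' :=
  (outSign hF (by norm_num)).of_equiv e.symm

end Cfsg.Agent.OddHalf.Table.OutUSix
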