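import Mathlib
import Cfsg.Prelude.Def_Local
import Cfsg.Agent.SignalizersComponents.Components
import Cfsg.Agent.S1270
import Cfsg.Agent.S1306

/-!
# TABLE-17: an involution acting on an intrinsic component as an inner automorphism

`a` an involution, `D` a component of `C(a)` containing `a`, `t` an involution commuting with `a` which induces a
nontrivial inner automorphism on `D`, `D₀` a set of elements commuting with `t` whose centralizer in `C(a) ∩ C(t)` is
contained in `⟨t, a⟩`, `D₀ ⊆ D`.  Then `t ∈ D` and `C_G(D) = ⟨a⟩`; in particular `D` is a standard subgroup of `G`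
with `|C_G(D)| = 2`.
-/

set_option autoImplicit false

namespace Cfsg.Agent.OddHalf.Table

open Subgroup Cfsg

universe u

variable {G : Type u} [Group G]

theorem mem_cent_one {a g : G} : g ∈ centralizer ({a} : Set G) ↔ g * a = a * g :=
  mem_centralizer_singleton_iff

theorem mem_cent_sub {D : Subgroup G} {g : G} : g ∈ centralizer (D : Set G) ↔ ∀ x ∈ D, g * x = x * g := by
  rw [mem_centralizer_iff]
  exact ⟨fun h x hx => (h x hx).symm, fun h x hx => (h x hx).symm⟩

/-- **LEMMA S**, group part. -/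
theorem cent_eq {a t : G} {D : Subgroup G} {D₀ : Set G} (haD : a ∈ D)
    (hDa : ∀ x ∈ D, x * a = a * x) (hD₀ : ∀ d ∈ D₀, d ∈ D)
    (hc : ∀ y, y * a = a * y → y * t = t * y → (∀ d ∈ D₀, y * d = d * y) → y = 1 ∨ y = t ∨ y = a ∨ y = t * a)
    (hinn : ∃ m ∈ D, ∀ x ∈ D, t * x * t⁻¹ = m * x * m⁻¹) (hnc : ∃ x ∈ D, t * x ≠ x * t) :
    t ∈ D ∧ ∀ y, (∀ x ∈ D, y * x = x * y) → y = 1 ∨ y = a := by
  obtain ⟨m, hm, hmx⟩ := hinn
  obtain ⟨x₀, hx₀, hne⟩ := hnc
  -- `y₀ = m⁻¹ t` centralizes `D`
  have hy₀ : ∀ x ∈ D, (m⁻¹ * t) * x = x * (m⁻¹ * t) := by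
    intro x hx
    have h := hmx x hx
    have h1 : t * x = m * x * m⁻¹ * t := by rw [← h]; group
    calc (m⁻¹ * t) * x = m⁻¹ * (t * x) := by group
      _ = m⁻¹ * (m * x * m⁻¹ * t) := by rw [h1]
      _ = x * (m⁻¹ * t) := by group
  -- elements centralizing `D` do not conjugate nontrivially; `t`, `t a` do not centralize `D`
  have hnt : ¬ ∀ x ∈ D, t * x = x * t := fun h => hne (h x₀ hx₀)
  have hnta : ¬ ∀ x ∈ D, (t * a) * x = x * (t * a) := by
    intro h
    apply hnt
    intro x hx
    have h1 := h x hx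
    have h2 := hDa x hx
    have e : t * x * a = x * t * a := by
      calc t * x * a = t * (x * a) := by group
        _ = t * (a * x) := by rw [h2]
        _ = (t * a) * x := by group
        _ = x * (t * a) := h1
        _ = x * t * a := by group
    exact mul_right_cancel e
  have htm : m⁻¹ * t * t = t * (m⁻¹ * t) := by
    -- `m⁻¹ t` commutes with `m`, hence with `t = m (m⁻¹ t)`
    have h1 := hy₀ m hm
    have h2 : t = m * (m⁻¹ * t) := by group
    calc m⁻¹ * t * t = (m⁻¹ * t) * (m * (m⁻¹ * t)) := by rw [← h2]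
      _ = ((m⁻¹ * t) * m) * (m⁻¹ * t) := by group
      _ = (m * (m⁻¹ * t)) * (m⁻¹ * t) := by rw [h1]
      _ = t * (m⁻¹ * t) := by rw [← h2]
  have hya : (m⁻¹ * t) * a = a * (m⁻¹ * t) := hy₀ a haD
  have htD : t ∈ D := by
    rcases hc (m⁻¹ * t) hya htm (fun d hd => hy₀ d (hD₀ d hd)) with h | h | h | h
    · rw [inv_mul_eq_one] at h
      rw [← h]; exact hm
    · exfalso
      exact hnt (by rw [← h]; exact hy₀)
    · have h1 : t = m * a := by rw [← h]; group
      rw [h1]
      exact mul_mem hm haD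
    · exfalso
      exact hnta (by rw [← h]; exact hy₀)
  refine ⟨htD, fun y hy => ?_⟩
  rcases hc y (hy a haD) (hy t htD) (fun d hd => hy d (hD₀ d hd)) with h | h | h | h
  · exact Or.inl h
  · exact absurd (by rw [← h]; exact hy) hnt
  · exact Or.inr h
  · exact absurd (by rw [← h]; exact hy) hnta

/-- **LEMMA S**: `D` is a standard subgroup with `C_G(D) = ⟨a⟩`, `N_G(D) = C_G(a)`, `t ∈ D`. -/
theorem lemmaS [Finite G] {a t : G} {D : Subgroup G} {D₀ : Set G} (ha : orderOf a = 2) (ht : t * t = 1)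
    (hDa : D ≤ centralizer ({a} : Set G)) (hD : IsComponent (D.subgroupOf (centralizer ({a} : Set G))))
    (haD : a ∈ D) (hD₀ : ∀ d ∈ D₀, d ∈ D)
    (hc : ∀ y, y * a = a * y → y * t = t * y → (∀ d ∈ D₀, y * d = d * y) → y = 1 ∨ y = t ∨ y = a ∨ y = t * a)
    (hinn : ∃ m ∈ D, ∀ x ∈ D, t * x * t⁻¹ = m * x * m⁻¹) (hnc : ∃ x ∈ D, t * x ≠ x * t) :
    t ∈ D ∧ centralizer (D : Set G) = zpowers a ∧ normalizer (D : Set G) = centralizer ({a} : Set G) ∧
      IsStandardSubgroup D := by
  have ha2 : a * a = 1 := by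
    have h := pow_orderOf_eq_one a
    rwa [ha, pow_two] at h
  have ha1 : a ≠ 1 := by
    rintro rfl
    rw [orderOf_one] at ha
    exact absurd ha (by norm_num)
  have hDa' : ∀ x ∈ D, x * a = a * x := fun x hx => mem_cent_one.1 (hDa hx)
  obtain ⟨htD, hY⟩ := cent_eq haD hDa' hD₀ hc hinn hnc
  have hcent : centralizer (D : Set G) = zpowers a := by
    apply le_antisymm
    · intro y hy
      rcases hY y (mem_cent_sub.1 hy) with h | h
      · rw [h]; exact one_mem _
      · rw [h]; exact mem_zpowers a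
    · rw [zpowers_le]
      exact mem_cent_sub.2 fun x hx => (hDa' x hx).symm
  obtain ⟨x₀, hx₀, hne⟩ := hnc
  -- `D` is normal in `C(a)`
  have hnorm : centralizer ({a} : Set G) ≤ normalizer (D : Set G) := by
    intro g hg
    set H := centralizer ({a} : Set G) with hH
    have hcj := Cfsg.Agent.S1270.component_conj hD (⟨g, hg⟩ : H)
    by_contra hgn
    have hne' : (D.subgroupOf H).map (MulAut.conj (⟨g, hg⟩ : H)).toMonoidHom ≠ D.subgroupOf H := by
      intro heq
      apply hgn
      rw [mem_normalizer_iff]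
      intro x
      constructor
      · intro hx
        have h1 : (⟨g, hg⟩ : H) * ⟨x, hDa hx⟩ * (⟨g, hg⟩ : H)⁻¹ ∈ D.subgroupOf H := by
          rw [← heq]
          exact ⟨⟨x, hDa hx⟩, mem_subgroupOf.2 hx, rfl⟩
        exact mem_subgroupOf.1 h1
      · intro hx
        have h1 : (⟨g * x * g⁻¹, hDa hx⟩ : H) ∈ (D.subgroupOf H).map (MulAut.conj (⟨g, hg⟩ : H)).toMonoidHom := by
          rw [heq]
          exact mem_subgroupOf.2 hx
        obtain ⟨y, hy, hyx⟩ := h1
        have h2 : g * (y : G) * g⁻¹ = g * x * g⁻¹ := congrArg Subtype.val hyx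
        have h3 : (y : G) = x := by
          have := mul_right_cancel h2
          exact mul_left_cancel this
        rw [← h3]
        exact mem_subgroupOf.1 hy
    have hcomm := Cfsg.Agent.SignalizersComponents.Components.component_le_centralizer_of_ne hcj hD hne'
    -- the conjugate of `t` centralizes `D`
    have h1 : (⟨g, hg⟩ : H) * ⟨t, hDa htD⟩ * (⟨g, hg⟩ : H)⁻¹ ∈ centralizer ((D.subgroupOf H : Subgroup H) : Set H) :=
      hcomm ⟨⟨t, hDa htD⟩, mem_subgroupOf.2 htD, rfl⟩
    have h2 : ∀ x ∈ D, (g * t * g⁻¹) * x = x * (g * t * g⁻¹) := by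
      intro x hx
      have h3 := (mem_centralizer_iff.1 h1) ⟨x, hDa hx⟩ (mem_subgroupOf.2 hx)
      exact (congrArg Subtype.val h3).symm
    have h4 := hY _ h2
    have hga : g * a = a * g := mem_cent_one.1 hg
    have hnt1 : t ≠ 1 := by
      rintro rfl
      exact hne (by rw [one_mul, mul_one])
    have hta : t ≠ a := by
      rintro rfl
      exact hne (hDa' x₀ hx₀).symm
    rcases h4 with h4 | h4
    · apply hnt1
      have : t = g⁻¹ * (g * t * g⁻¹) * g := by group
      rw [this, h4]; group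
    · apply hta
      have e : t = g⁻¹ * (g * t * g⁻¹) * g := by group
      rw [e, h4, mul_assoc, ← hga]; group
  have hnorm2 : normalizer (D : Set G) ≤ centralizer ({a} : Set G) := by
    intro g hg
    rw [mem_cent_one]
    -- `g a g⁻¹` centralizes `D`
    have h1 : ∀ x ∈ D, (g * a * g⁻¹) * x = x * (g * a * g⁻¹) := by
      intro x hx
      have h2 : g⁻¹ * x * g ∈ D := by
        have h3 := (mem_normalizer_iff.1 (inv_mem hg) x).1 hx
        rwa [inv_inv] at h3
      have h4 := hDa' _ h2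
      calc (g * a * g⁻¹) * x = g * (a * (g⁻¹ * x * g)) * g⁻¹ := by group
        _ = g * ((g⁻¹ * x * g) * a) * g⁻¹ := by rw [h4]
        _ = x * (g * a * g⁻¹) := by group
    rcases hY _ h1 with h | h
    · exfalso
      apply ha1
      have : a = g⁻¹ * (g * a * g⁻¹) * g := by group
      rw [this, h]; group
    · rw [mul_inv_eq_iff_eq_mul] at h
      exact h
  refine ⟨htD, hcent, le_antisymm hnorm2 hnorm, ?_⟩
  refine Cfsg.Agent.S1306.result a ha D hDa hD ?_ ?_
  · intro y hy hyD
    have h1 : y = a := by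
      rcases hY y (mem_cent_sub.1 hyD) with h | h
      · exfalso
        rw [h, orderOf_one] at hy
        exact absurd hy (by norm_num)
      · exact h
    rw [h1]
    exact ⟨hDa, hD⟩
  · intro g hg hcomm
    apply hg
    have h1 : D.map (MulAut.conj g).toMonoidHom ≤ centralizer (D : Set G) := by
      rw [← commutator_eq_bot_iff_le_centralizer, commutator_comm]
      exact hcomm
    -- then `D` is abelian
    exfalso
    have h2 : g * t * g⁻¹ ∈ centralizer (D : Set G) := h1 ⟨t, htD, rfl⟩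
    have h3 : g * x₀ * g⁻¹ ∈ centralizer (D : Set G) := h1 ⟨x₀, hx₀, rfl⟩
    have h4 : (g * t * g⁻¹) * (g * x₀ * g⁻¹) = (g * x₀ * g⁻¹) * (g * t * g⁻¹) := by
      rw [hcent] at h2 h3
      exact (mem_zpowers_iff.1 h2).elim fun i hi => (mem_zpowers_iff.1 h3).elim fun j hj => by
        rw [← hi, ← hj, ← zpow_add, ← zpow_add, add_comm]
    apply hne
    have h5 : g * (t * x₀) * g⁻¹ = g * (x₀ * t) * g⁻¹ := by
      calc g * (t * x₀) * g⁻¹ = (g * t * g⁻¹) * (g * x₀ * g⁻¹) := by group
        _ = (g * x₀ * g⁻¹) * (g * t * g⁻¹) := h4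
        _ = g * (x₀ * t) * g⁻¹ := by group
    exact mul_left_cancel (mul_right_cancel h5)

end Cfsg.Agent.OddHalf.Table
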