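import Cfsg.Agent.KFacts.OutBaby
import Cfsg.Prelude.Def_Spor_B
import Cfsg.Agent.BabyM.Instance
import Cfsg.Agent.BM.StageWSurj
import Cfsg.Agent.Schreier.CoTwoStab

/-!
# `OutSign` for the Baby Monster, from `Co₂` (helper105)
-/

set_option autoImplicit false

namespace Cfsg.Agent.OddHalf.Table.OutB

open Cfsg Cfsg.Agent.KFacts.OutTwo Cfsg.Agent.BabyM Cfsg.Agent.Schreier

theorem not_comm_K₀ : ¬ IsMulCommutative GroupInst.K₀ := by
  obtain ⟨e⟩ := CoTwoStab.exists_equiv _ GroupInst.dt_l₀
  intro h
  apply CoTwoStab.not_comm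
  refine ⟨⟨fun a b => ?_⟩⟩
  apply e.symm.injective
  rw [map_mul, map_mul]
  exact h.is_comm.comm _ _

/-- **No outer involutions of the Baby Monster**, given the same for `Co₂`. -/
theorem noOut2 [IsSimpleGroup Spor.BabyMonster] (h : NoOut2 Spor.Co2) : NoOut2 Spor.BabyMonster := by
  have hs : Function.Surjective (BM.StageW.hom Instance.all Instance.ok) :=
    BM.StageW.hom_surjective Instance.all Instance.ok (BM.StageWSurj.closure_x Instance.all Instance.ok)
  have hi : Function.Injective (BM.StageW.hom Instance.all Instance.ok) := by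
    rw [← MonoidHom.ker_eq_bot_iff]
    rcases (inferInstance : (BM.StageW.hom Instance.all Instance.ok).ker.Normal).eq_bot_or_eq_top with h | h
    · exact h
    · exfalso
      have h1 := Instance.all.simple
      obtain ⟨x, hx⟩ := exists_ne (1 : Inst.M.G)
      obtain ⟨y, rfl⟩ := hs x
      apply hx
      have : y ∈ (BM.StageW.hom Instance.all Instance.ok).ker := by rw [h]; exact Subgroup.mem_top _
      exact this
  obtain ⟨e⟩ := CoTwoStab.exists_equiv _ GroupInst.dt_l₀
  exact NoOut2.of_equiv (MulEquiv.ofBijective _ ⟨hi, hs⟩).symm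
    (KFacts.OutBaby.noOut2_of_model Instance.all not_comm_K₀ (NoOut2.of_equiv e.symm h))

/-- **`OutSign` of the Baby Monster**, given `NoOut2 Co₂`. -/
theorem outSign_B_of {X : Type*} [Group X] [IsSimpleGroup X] (e : X ≃* Spor.BabyMonster) (h : NoOut2 Spor.Co2) :
    OutSign X := by
  have := e.isSimpleGroup_congr.1 (inferInstance : IsSimpleGroup X)
  exact OutSign.of_equiv e.symm (KFacts.OutBaby.outSign_of_noOut2 (noOut2 h))

end Cfsg.Agent.OddHalf.Table.OutB
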