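import Cfsg.Agent.OddHalf.Table.Iface17
import Cfsg.Agent.ConwayFacts.AutCo1

/-!
# `OutSign` for `Co1`
-/

set_option autoImplicit false

namespace Cfsg.Agent.OddHalf.Table.OutCo1

open Cfsg Cfsg.Agent.OddHalf.Table

theorem outSign : OutSign Spor.Co1 := OutSign.of_forall_inner fun α => by
  obtain ⟨s, hs⟩ := Cfsg.Agent.ConwayFacts.AutCo1.inner α
  exact ⟨s, MulEquiv.ext fun g => by rw [hs, MulAut.conj_apply]⟩

theorem outSign_of {X : Type*} [Group X] (h : Spor.IsoCo1 X) : OutSign X := by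
  obtain ⟨e⟩ := h
  exact OutSign.of_equiv e.symm outSign

end Cfsg.Agent.OddHalf.Table.OutCo1
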