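import Cfsg.Agent.OddHalf.Table.OutRankTwo
import Cfsg.Agent.Nodes.RGDChev
import Cfsg.Agent.S1032
import Cfsg.Agent.S1033
import Cfsg.Agent.S1034
import Cfsg.Agent.S1055

/-!
# `OutSign` for `G2(4)`

helper328 (TABLE-17 of S1765).
-/

set_option autoImplicit false

namespace Cfsg.Agent.OddHalf.Table.OutGTwoFour

open CoxeterSystem Cfsg.Agent.ChevalleyStructure.CoxeterGeom Cfsg.Agent.Tits.Roots Cfsg.Agent.Tits.Core
  Cfsg.Agent.Tits.RootComb Cfsg.Agent.Nodes.Comb Cfsg.Agent.Nodes.Reps Cfsg.Agent.Nodes.BNOf Cfsg.Agent.Nodes.BNOf.RGD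
  Cfsg.Agent.Nodes.RGDChev Cfsg.Agent.OddHalf.Table.AutRGD Cfsg.Agent.OddHalf.Table.OutRankTwo
open Cfsg.Lie Cfsg.Agent.ChevalleyStructure Cfsg.Agent.ChevalleyStructure.Elts
  Cfsg.Agent.ChevalleyStructure.RootVec Cfsg.Agent.ChevalleyStructure.RootVecTab
  Cfsg.Agent.ChevalleyStructure.NPerm Cfsg.Agent.ChevalleyStructure.CoxeterGeomTypes

universe u

section Field

variable {F : Type u} [Field F] (hF : Nat.card F = 4)

include hF

/-- A field with four elements: the multiplicative group is cyclic of order three. -/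
theorem exists_omega : ∃ w : F, w ≠ 0 ∧ w ≠ 1 ∧ w ^ 3 = 1 ∧ ∀ a : F, a ≠ 0 → ∃ k : ℕ, a = w ^ k := by
  have hfin : Finite F := Nat.finite_of_card_ne_zero (by rw [hF]; norm_num)
  have hc : Nat.card Fˣ = 3 := by
    rw [Nat.card_units, hF]
  obtain ⟨g, hg⟩ := IsCyclic.exists_monoid_generator (α := Fˣ)
  refine ⟨(g : F), g.ne_zero, ?_, ?_, ?_⟩
  · intro h1
    have h2 : g = 1 := Units.ext h1
    have h3 : Nat.card Fˣ = 1 := by
      rw [Nat.card_eq_one_iff_unique]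
      refine ⟨⟨fun a b => ?_⟩, ⟨1⟩⟩
      obtain ⟨k, hk⟩ := hg a
      obtain ⟨l, hl⟩ := hg b
      rw [← hk, ← hl, h2]
      simp
    omega
  · have h1 : g ^ 3 = 1 := by rw [← hc]; exact pow_card_eq_one'
    have h2 := congrArg (fun u : Fˣ => (u : F)) h1
    simpa using h2
  · intro a ha
    obtain ⟨k, hk⟩ := hg (Units.mk0 a ha)
    refine ⟨k, ?_⟩
    have h2 := congrArg (fun u : Fˣ => (u : F)) hk
    simpa using h2.symm

theorem charP_four : CharP F 2 := by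
  have hfin : Finite F := Nat.finite_of_card_ne_zero (by rw [hF]; norm_num)
  have := Fintype.ofFinite F
  obtain ⟨p, hp⟩ := CharP.exists F
  obtain ⟨n, hpp, hn⟩ := FiniteField.card F p
  rw [← Nat.card_eq_fintype_card, hF] at hn
  have h1 : p ∣ 4 := by rw [hn]; exact dvd_pow_self p n.2.ne'
  have h2 : p ∣ 2 := by
    have : p ∣ 2 ^ 2 := h1
    exact hpp.dvd_of_dvd_pow this
  have h3 : p = 2 := (Nat.prime_dvd_prime_iff_eq hpp Nat.prime_two).1 h2
  rw [← h3]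
  exact hp

end Field

section Torus

variable {F : Type u} [Field F] {D : ChevalleyDatum} (hD : InList D)

theorem hG_pow {i : ℕ} (hi : i < D.rank) {c : F} (hc : c ≠ 0) (a : ℕ) :
    hG hD (D.simple i) (c ^ a) = hG hD (D.simple i) c ^ a := by
  apply Units.ext
  rw [Units.val_pow_eq_pow_val, coe_hG, coe_hG, Cfsg.Agent.S1033.result D hD i hi _ (pow_ne_zero a hc),
    Cfsg.Agent.S1033.result D hD i hi c hc, Matrix.diagonal_pow]
  congr 1
  funext s
  rcases s with s | s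
  · simp
  · simp only [Sum.elim_inr, Pi.pow_apply]
    rw [← zpow_natCast, ← zpow_natCast, ← zpow_mul, ← zpow_mul, mul_comm]

theorem hG_comm {i j : ℕ} (hi : i < D.rank) (hj : j < D.rank) {c d : F} (hc : c ≠ 0) (hd : d ≠ 0) :
    hG hD (D.simple i) c * hG hD (D.simple j) d = hG hD (D.simple j) d * hG hD (D.simple i) c := by
  apply Units.ext
  rw [Units.val_mul, Units.val_mul, coe_hG, coe_hG, Cfsg.Agent.S1033.result D hD i hi c hc,
    Cfsg.Agent.S1033.result D hD j hj d hd, Matrix.diagonal_mul_diagonal, Matrix.diagonal_mul_diagonal]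
  congr 1
  funext s
  exact mul_comm _ _

/-- `k x_s(t) k⁻¹ = x_s(e t)` -/
def Acts (k : GL D.Idx F) (s : ℕ) (e : F) : Prop := ∀ t : F, k * xG hD s t * k⁻¹ = xG hD s (e * t)

theorem acts_hG {i s : ℕ} (hi : i < D.rank) (hs : s < D.nroots) {c : F} (hc : c ≠ 0) :
    Acts hD (hG hD (D.simple i) c) s (c ^ D.cartan i s) := by
  intro t
  have h1 : hG hD (D.simple i) c * xG hD s t = xG hD s (c ^ D.cartan i s * t) * hG hD (D.simple i) c := by
    apply Units.ext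
    rw [Units.val_mul, Units.val_mul, coe_hG, coe_xG, coe_xG]
    exact Cfsg.Agent.S1032.result D hD i s hi hs c hc t
  rw [h1]
  group

variable {hD}

theorem Acts.mul {k k' : GL D.Idx F} {s : ℕ} {e e' : F} (h : Acts hD k s e) (h' : Acts hD k' s e') :
    Acts hD (k * k') s (e * e') := by
  intro t
  have h1 : k * k' * xG hD s t * (k * k')⁻¹ = k * (k' * xG hD s t * k'⁻¹) * k⁻¹ := by group
  rw [h1, h' t, h, mul_assoc]

theorem Acts.pow {k : GL D.Idx F} {s : ℕ} {e : F} (h : Acts hD k s e) (a : ℕ) :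
    Acts hD (k ^ a) s (e ^ a) := by
  induction a with
  | zero => intro t; simp
  | succ a ih => rw [pow_succ, pow_succ]; exact ih.mul h

theorem Acts.congr {k : GL D.Idx F} {s : ℕ} {e e' : F} (h : Acts hD k s e) (he : e = e') : Acts hD k s e' := by
  rw [← he]; exact h

theorem Acts.mem_cen_iff {k : GL D.Idx F} {s : ℕ} (hs : s < D.nroots) {e : F} (h : Acts hD k s e) :
    k ∈ Subgroup.centralizer (D.rootSubgroup F s : Set (GL D.Idx F)) ↔ e = 1 := by
  rw [Subgroup.mem_centralizer_iff]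
  constructor
  · intro hk
    have h1 := hk (xG hD s 1) (xG_mem_rootSubgroup hD s 1)
    have h2 := h 1
    rw [← h1, mul_inv_cancel_right, mul_one] at h2
    exact (xG_injective hD hs h2).symm
  · rintro rfl x hx
    obtain ⟨t, rfl⟩ := (mem_rootSubgroup_iff hD s x).1 hx
    have h1 := h t
    rw [one_mul, mul_inv_eq_iff_eq_mul] at h1
    exact h1.symm

theorem Acts.trans {k : GL D.Idx F} {s : ℕ} {e : F} (h : Acts hD k s e)
    (he : ∀ a : F, a ≠ 0 → ∃ b : ℕ, a = e ^ b) {x y : GL D.Idx F} (hx : x ∈ D.rootSubgroup F s)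
    (hy : y ∈ D.rootSubgroup F s) (hx1 : x ≠ 1) (hy1 : y ≠ 1) : ∃ a : ℕ, k ^ a * x * (k ^ a)⁻¹ = y := by
  obtain ⟨t, rfl⟩ := (mem_rootSubgroup_iff hD s x).1 hx
  obtain ⟨v, rfl⟩ := (mem_rootSubgroup_iff hD s y).1 hy
  have ht : t ≠ 0 := by
    rintro rfl
    exact hx1 (xG_zero hD s)
  have hv : v ≠ 0 := by
    rintro rfl
    exact hy1 (xG_zero hD s)
  obtain ⟨a, ha⟩ := he (v / t) (div_ne_zero hv ht)
  refine ⟨a, ?_⟩
  rw [h.pow a t, ← ha, div_mul_cancel₀ _ ht]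

end Torus

/-- The Coxeter matrix `G₂` with the datum `chevG2`. -/
theorem hpG : IsType chevG2 2 CoxeterMatrix.G₂ := by simp [IsType, typeList]

theorem tabs : chevG2.rank = 2 ∧ chevG2.simple 0 = 7 ∧ chevG2.simple 1 = 6 ∧ 6 < chevG2.nroots ∧
    7 < chevG2.nroots ∧ 8 < chevG2.nroots ∧ 10 < chevG2.nroots ∧
    chevG2.cartan 0 7 = 2 ∧ chevG2.cartan 1 7 = -1 ∧ chevG2.cartan 0 6 = -3 ∧ chevG2.cartan 1 6 = 2 ∧
    chevG2.cartan 0 8 = -1 ∧ chevG2.cartan 1 8 = 1 ∧ chevG2.cartan 0 10 = 3 ∧ chevG2.cartan 1 10 = -1 ∧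
    chevG2.reflectRoot 1 7 = 8 ∧ chevG2.reflectRoot 0 6 = 10 := by decide +kernel

section Data

variable {F : Type u} [Field F]

local notation "hG2" => IsType.inList hpG

theorem dat_GL {w : F} (hw0 : w ≠ 0) (hw1 : w ≠ 1) (hw3 : w ^ 3 = 1) (hw : ∀ a : F, a ≠ 0 → ∃ k : ℕ, a = w ^ k) :
    Dat (chevG2.diagonalSubgroup F) (chevG2.rootSubgroup F 7) (chevG2.rootSubgroup F 6) (chevG2.rootSubgroup F 8)
      (chevG2.rootSubgroup F 10)
      (hG hG2 (chevG2.simple 0) w * (hG hG2 (chevG2.simple 1) w * hG hG2 (chevG2.simple 1) w))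
      (hG hG2 (chevG2.simple 0) w) := by
  obtain ⟨hr, s0, s1, l6, l7, l8, l10, c07, c17, c06, c16, c08, c18, c010, c110, -, -⟩ := tabs
  have r0 : 0 < chevG2.rank := by rw [hr]; norm_num
  have r1 : 1 < chevG2.rank := by rw [hr]; norm_num
  have w2 : w ^ 2 ≠ 1 := by
    intro h
    apply hw1
    have : w ^ 3 = w ^ 2 * w := by ring
    rw [hw3, h, one_mul] at this
    exact this.symm
  have zneg : ∀ k : ℕ, w ^ (-(k : ℤ)) = w ^ (2 * k) := by
    intro k
    rw [zpow_neg, zpow_natCast]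
    apply inv_eq_of_mul_eq_one_right
    rw [← pow_add, show k + 2 * k = 3 * k by ring, pow_mul, hw3, one_pow]
  have wm1 : w ^ (-1 : ℤ) = w ^ 2 := by simpa using zneg 1
  have wm3 : w ^ (-3 : ℤ) = 1 := by
    have h1 := zneg 3
    rw [show 2 * 3 = 3 * 2 by norm_num, pow_mul, hw3, one_pow] at h1
    simpa using h1
  have w2' : w ^ (2 : ℤ) = w ^ 2 := zpow_ofNat w 2
  have w3' : w ^ (3 : ℤ) = 1 := by rw [← hw3]; exact zpow_ofNat w 3
  have w1' : w ^ (1 : ℤ) = w := zpow_one w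
  have w4 : w ^ 2 * w ^ 2 = w := by
    calc w ^ 2 * w ^ 2 = w ^ 3 * w := by ring
      _ = w := by rw [hw3, one_mul]
  set g := hG hG2 (chevG2.simple 0) w with hg
  set e := hG hG2 (chevG2.simple 1) w with he
  have g7 : Acts hG2 g 7 (w ^ 2) := (acts_hG hG2 r0 l7 hw0).congr (by rw [c07, w2'])
  have g6 : Acts hG2 g 6 1 := (acts_hG hG2 r0 l6 hw0).congr (by rw [c06, wm3])
  have g8 : Acts hG2 g 8 (w ^ 2) := (acts_hG hG2 r0 l8 hw0).congr (by rw [c08, wm1])
  have g10 : Acts hG2 g 10 1 := (acts_hG hG2 r0 l10 hw0).congr (by rw [c010, w3'])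
  have e7 : Acts hG2 e 7 (w ^ 2) := (acts_hG hG2 r1 l7 hw0).congr (by rw [c17, wm1])
  have e6 : Acts hG2 e 6 (w ^ 2) := (acts_hG hG2 r1 l6 hw0).congr (by rw [c16, w2'])
  have e8 : Acts hG2 e 8 w := (acts_hG hG2 r1 l8 hw0).congr (by rw [c18, w1'])
  have k7 : Acts hG2 (g * (e * e)) 7 1 := (g7.mul (e7.mul e7)).congr (by
    rw [w4]; calc w ^ 2 * w = w ^ 3 := by ring
      _ = 1 := hw3)
  have k6 : Acts hG2 (g * (e * e)) 6 w := (g6.mul (e6.mul e6)).congr (by rw [w4, one_mul])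
  have k8 : Acts hG2 (g * (e * e)) 8 w := (g8.mul (e8.mul e8)).congr (by
    calc w ^ 2 * (w * w) = w ^ 2 * w ^ 2 := by ring
      _ = w := w4)
  have gT : g ∈ chevG2.diagonalSubgroup F := hG_mem_diagonal hG2 (simple_lt hG2 r0) hw0
  have eT : e ∈ chevG2.diagonalSubgroup F := hG_mem_diagonal hG2 (simple_lt hG2 r1) hw0
  have gpow : ∀ a : ℕ, hG hG2 (chevG2.simple 0) (w ^ a) = g ^ a := hG_pow hG2 r0 hw0
  have epow : ∀ a : ℕ, hG hG2 (chevG2.simple 1) (w ^ a) = e ^ a := hG_pow hG2 r1 hw0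
  have hG1 : ∀ i, i < chevG2.rank → hG hG2 (chevG2.simple i) (1 : F) = 1 := by
    intro i hi
    apply Units.ext
    rw [coe_hG, Cfsg.Agent.S1033.result chevG2 hG2 i hi 1 one_ne_zero, Units.val_one, ← Matrix.diagonal_one]
    congr 1
    funext s
    rcases s with s | s <;> simp
  have g3 : g ^ 3 = 1 := by rw [← gpow, hw3]; exact hG1 0 r0
  have e3 : e ^ 3 = 1 := by rw [← epow, hw3]; exact hG1 1 r1
  have hge : Commute g e := hG_comm hG2 r0 r1 hw0 hw0
  have hgee : Commute g (e * e) := hge.mul_right hge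
  have hk3 : (g * (e * e)) ^ 3 = 1 := by
    rw [hgee.mul_pow, g3, one_mul, ← pow_two, ← pow_mul, mul_comm, pow_mul, e3, one_pow]
  have hkg : Commute (g * (e * e)) g := (Commute.refl g).mul_left hgee.symm
  refine ⟨mul_mem gT (mul_mem eT eT), gT, hk3, g3, hkg, ?_, (k7.mem_cen_iff l7).2 rfl, (g6.mem_cen_iff l6).2 rfl, ?_,
    ?_, ?_, ?_, ?_, ?_, (g10.mem_cen_iff l10).2 rfl⟩
  · -- generation
    intro t ht
    obtain ⟨c, hc, h1⟩ := Cfsg.Agent.S1034.result chevG2 hG2 t ht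
    obtain ⟨a, ha⟩ := hw (c 0) (hc 0 r0)
    obtain ⟨b, hb⟩ := hw (c 1) (hc 1 r1)
    have h2 : t = g ^ a * e ^ b := by
      rw [← gpow, ← epow, ← ha, ← hb]
      apply Units.ext
      have hrange : List.range chevG2.rank = [0, 1] := by rw [hr]; rfl
      rw [h1, Units.val_mul, coe_hG, coe_hG, hrange]
      have h3 : [0, 1].flatMap (fun i => chevG2.hWord (chevG2.simple i) (c i)) =
          chevG2.hWord (chevG2.simple 0) (c 0) ++ chevG2.hWord (chevG2.simple 1) (c 1) := by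
        simp
      rw [h3, Elts.wordMat_append]
      rfl
    -- `e = k0 ^ 2 * g`
    have h4 : e = (g * (e * e)) ^ 2 * g := by
      rw [hgee.mul_pow]
      have h5 : Commute ((e * e) ^ 2) g := (hgee.pow_right 2).symm
      calc e = 1 * (1 * e) := by rw [one_mul, one_mul]
        _ = g ^ 3 * (e ^ 3 * e) := by rw [g3, e3]
        _ = g ^ 2 * (g * (e * e) ^ 2) := by
          rw [← pow_two, ← pow_mul, ← pow_succ e, ← mul_assoc (g ^ 2), ← pow_succ]
        _ = g ^ 2 * ((e * e) ^ 2 * g) := by rw [h5.eq]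
        _ = g ^ 2 * (e * e) ^ 2 * g := by rw [mul_assoc]
    refine ⟨2 * b, b + a, ?_⟩
    have h6 : e ^ b = (g * (e * e)) ^ (2 * b) * g ^ b := by
      conv_lhs => rw [h4]
      rw [(hkg.pow_left 2).mul_pow, ← pow_mul]
    rw [h2, h6, ← mul_assoc, ((hkg.symm.pow_pow a (2 * b))).eq, mul_assoc, ← pow_add, add_comm a b]
  · intro x hx y hy hx1 hy1
    refine g7.trans (fun a ha => ?_) hx hy hx1 hy1
    obtain ⟨b, rfl⟩ := hw a ha
    refine ⟨2 * b, ?_⟩
    rw [← pow_mul, show 2 * (2 * b) = 3 * b + b by ring, pow_add, pow_mul, hw3, one_pow, one_mul]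
  · intro x hx y hy hx1 hy1
    exact k6.trans hw hx hy hx1 hy1
  · rw [g7.mem_cen_iff l7]; exact w2
  · rw [k6.mem_cen_iff l6]; exact hw1
  · rw [(k8.mul g8).mem_cen_iff l8, ← hw3]; ring
  · rw [k8.mem_cen_iff l8]; exact hw1

end Data

/-- Restriction to a subgroup. -/
theorem dat_restrict {Y : Type*} [Group Y] {T X0 X1 X01 X10 : Subgroup Y} {k0 k1 : Y} (D : Dat T X0 X1 X01 X10 k0 k1)
    (H : Subgroup Y) (h0 : k0 ∈ H) (h1 : k1 ∈ H) (hX0 : X0 ≤ H) (hX1 : X1 ≤ H) (hX01 : X01 ≤ H) :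
    Dat (T.subgroupOf H) (X0.subgroupOf H) (X1.subgroupOf H) (X01.subgroupOf H) (X10.subgroupOf H) ⟨k0, h0⟩
      ⟨k1, h1⟩ := by
  have hin : ∀ {Z : Subgroup Y} {k : Y} (hk : k ∈ H), k ∈ Subgroup.centralizer (Z : Set Y) →
      (⟨k, hk⟩ : H) ∈ Subgroup.centralizer (Z.subgroupOf H : Set H) := by
    intro Z k hk hc
    rw [Subgroup.mem_centralizer_iff] at hc ⊢
    intro x hx
    exact Subtype.ext (hc x (Subgroup.mem_subgroupOf.1 hx))
  have hout : ∀ {Z : Subgroup Y} {k : Y} (hk : k ∈ H), Z ≤ H → k ∉ Subgroup.centralizer (Z : Set Y) →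
      (⟨k, hk⟩ : H) ∉ Subgroup.centralizer (Z.subgroupOf H : Set H) := by
    intro Z k hk hZ hc h
    apply hc
    rw [Subgroup.mem_centralizer_iff] at h ⊢
    intro x hx
    exact congrArg Subtype.val (h ⟨x, hZ hx⟩ (Subgroup.mem_subgroupOf.2 hx))
  refine ⟨D.m0, D.m1, Subtype.ext D.o0, Subtype.ext D.o1, Subtype.ext D.com, ?_, hin h0 D.c0, hin h1 D.c1, ?_, ?_,
    hout h1 hX0 D.n0, hout h0 hX1 D.n1, hin (mul_mem h0 h1) D.r1, hout h0 hX01 D.r1', hin h1 D.r0⟩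
  · intro t ht
    obtain ⟨a, b, h⟩ := D.gen t (Subgroup.mem_subgroupOf.1 ht)
    exact ⟨a, b, Subtype.ext h⟩
  · intro x hx y hy hx1 hy1
    obtain ⟨a, ha⟩ := D.tr0 x (Subgroup.mem_subgroupOf.1 hx) y (Subgroup.mem_subgroupOf.1 hy)
      (fun h => hx1 (Subtype.ext h)) (fun h => hy1 (Subtype.ext h))
    exact ⟨a, Subtype.ext ha⟩
  · intro x hx y hy hx1 hy1
    obtain ⟨a, ha⟩ := D.tr1 x (Subgroup.mem_subgroupOf.1 hx) y (Subgroup.mem_subgroupOf.1 hy)
      (fun h => hx1 (Subtype.ext h)) (fun h => hy1 (Subtype.ext h))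
    exact ⟨a, Subtype.ext ha⟩

/-- **`G2(4)`.** -/
theorem outSign_G24 (F : Type u) [Field F] (hF : Nat.card F = 4) : OutSign ↥(chevG2.group F) := by
  have hfin : Finite F := Nat.finite_of_card_ne_zero (by rw [hF]; norm_num)
  have hc := charP_four hF
  obtain ⟨w, hw0, hw1, hw3, hw⟩ := exists_omega hF
  have hs : IsSimpleGroup ↥(chevG2.group F) := (Cfsg.Agent.S1055.result ⟨w, hw0, hw1⟩).1
  have hprime : Fact (Nat.Prime 2) := ⟨Nat.prime_two⟩
  have hW := finite_W hpG CoxeterMatrix.G₂.toCoxeterSystem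
  have R := rgd (K := F) hpG CoxeterMatrix.G₂.toCoxeterSystem 2
  have hgen := gen (K := F) hpG CoxeterMatrix.G₂.toCoxeterSystem 2
  have hcore := Cfsg.Agent.Tits.OfBN.normalCore_eq_bot (R.bnPair hgen) ⟨_, 0, rfl⟩
  obtain ⟨hr, s0, s1, l6, l7, l8, l10, -, -, -, -, -, -, -, -, t8, t10⟩ := tabs
  have e0 : XV chevG2 2 F (sr 0) = chevG2.rootSubgroup F 7 := by
    rw [XV_sr hpG 0]
    exact congrArg _ s0
  have e1 : XV chevG2 2 F (sr 1) = chevG2.rootSubgroup F 6 := by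
    rw [XV_sr hpG 1]
    exact congrArg _ s1
  have v0 : vec chevG2 2 7 = sr 0 := by rw [← vec_simple hpG 0]; exact congrArg _ s0.symm
  have v1 : vec chevG2 2 6 = sr 1 := by rw [← vec_simple hpG 1]; exact congrArg _ s1.symm
  have e01 : XV chevG2 2 F (rep CoxeterMatrix.G₂.toCoxeterSystem hpG.isCartan
      (CoxeterMatrix.G₂.toCoxeterSystem.simple 1) (sr 0)) = chevG2.rootSubgroup F 8 := by
    rw [← v0, rep_vec hpG _ 1 l7]
    have : chevG2.reflectRoot ((1 : Fin 2) : ℕ) 7 = 8 := t8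
    rw [this, XV_vec hpG F l8]
  have e10 : XV chevG2 2 F (rep CoxeterMatrix.G₂.toCoxeterSystem hpG.isCartan
      (CoxeterMatrix.G₂.toCoxeterSystem.simple 0) (sr 1)) = chevG2.rootSubgroup F 10 := by
    rw [← v1, rep_vec hpG _ 0 l6]
    have : chevG2.reflectRoot ((0 : Fin 2) : ℕ) 6 = 10 := t10
    rw [this, XV_vec hpG F l10]
  have hle : ∀ r, chevG2.rootSubgroup F r ≤ chevG2.group F := by
    intro r g hg
    obtain ⟨t, rfl⟩ := (mem_rootSubgroup_iff hpG.inList r g).1 hg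
    exact xG_mem_group hpG.inList r t
  have hgm : ∀ i, hG hpG.inList (chevG2.simple i) w ∈ chevG2.group F := fun i => hG_mem_group hpG.inList _ _
  have D := dat_restrict (dat_GL hw0 hw1 hw3 hw) (chevG2.group F) (mul_mem (hgm 0) (mul_mem (hgm 1) (hgm 1))) (hgm 0)
    (hle _) (hle _) (hle _)
  rw [← e0, ← e1, ← e01, ← e10] at D
  exact outSign_of_dat R hgen hcore D

end Cfsg.Agent.OddHalf.Table.OutGTwoFour
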