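import Cfsg.Agent.HN.CoverUnique
import Cfsg.Agent.OddHalf.Table.Iface17

/-!
# The outer automorphisms of the Higman–Sims group are detected by a character

Every automorphism of `HS` is induced by a unique permutation of the 100 points; the inner ones are the even ones.
-/

set_option autoImplicit false

namespace Cfsg.Agent.OddHalf.Table.OutHS

open Cfsg.Agent.SporadicA.PermTab Cfsg.Agent.HN.Pres Cfsg.Agent.HN.SrgHS Cfsg.Agent.HN.AutBound
open Cfsg.Agent.HN Cfsg.Agent.HN.HS100 Cfsg.Agent.HN.CoverUnique Cfsg.Agent.HN.AutHS Equiv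

/-- the permutation inducing an automorphism of `Q` -/
noncomputable def perm (σ : MulAut Q) : Perm (Fin 100) := (exists_perm σ).choose

theorem perm_mem (σ : MulAut Q) : perm σ ∈ autG 100 adjA := (exists_perm σ).choose_spec.1

theorem perm_spec (σ : MulAut Q) (q : Q) : ((σ q : Q) : Perm (Fin 100)) = perm σ * q * (perm σ)⁻¹ :=
  (exists_perm σ).choose_spec.2 q

theorem perm_unique {σ : MulAut Q} {p : Perm (Fin 100)} (h : ∀ q : Q, ((σ q : Q) : Perm (Fin 100)) = p * q * p⁻¹) :
    p = perm σ := by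
  have h1 : (perm σ)⁻¹ * p = 1 := by
    apply NormalH.eq_one_of_commute_Q
    intro q hq
    have h2 := (h ⟨q, hq⟩).symm.trans (perm_spec σ ⟨q, hq⟩)
    have h3 : p * q * p⁻¹ = perm σ * q * (perm σ)⁻¹ := h2
    calc q * ((perm σ)⁻¹ * p) = (perm σ)⁻¹ * (perm σ * q * (perm σ)⁻¹) * p := by group
      _ = (perm σ)⁻¹ * (p * q * p⁻¹) * p := by rw [h3]
      _ = (perm σ)⁻¹ * p * q := by group
  exact (inv_mul_eq_one.1 h1).symm

/-- the character -/
noncomputable def lam : MulAut Q →* ℤˣ where
  toFun σ := Perm.sign (perm σ)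
  map_one' := by
    rw [← perm_unique (σ := 1) (p := 1) (fun q => by simp), map_one]
  map_mul' σ τ := by
    rw [← map_mul, ← perm_unique (σ := σ * τ) (p := perm σ * perm τ) (fun q => ?_)]
    rw [MulAut.mul_apply, perm_spec, perm_spec]; group

theorem lam_conj (q : Q) : lam (MulAut.conj q) = 1 := by
  show Perm.sign (perm (MulAut.conj q)) = 1
  rw [← perm_unique (σ := MulAut.conj q) (p := (q : Perm (Fin 100))) (fun x => rfl)]
  exact sign_Q q.2

theorem inner_of_lam {σ : MulAut Q} (h : lam σ = 1) : ∃ q : Q, σ = MulAut.conj q := by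
  have h1 : perm σ ∈ Q := by
    rcases mem_autG_iff.1 (perm_mem σ) with h2 | h2
    · exact h2
    · exfalso
      have h3 := sign_Q h2
      rw [map_mul, Z_sign, show Perm.sign (perm σ) = 1 from h] at h3
      exact absurd h3 (by decide)
  refine ⟨⟨perm σ, h1⟩, ?_⟩
  ext x
  rw [perm_spec]
  rfl

/-- an automorphism of a group isomorphic to `HS` which is not inner is detected by a character. -/
theorem exists_char {X : Type*} [Group X] (e : X ≃* ↥Cfsg.Spor.HS) (α : MulAut X)
    (hα : ∀ x : X, α ≠ MulAut.conj x) :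
    ∃ l : MulAut X →* ℤˣ, (∀ x : X, l (MulAut.conj x) = 1) ∧ l α = -1 := by
  obtain ⟨⟨f⟩, -⟩ := nonempty_Q
  let g : X ≃* Q := e.trans f.symm
  have hg : ∀ x : X, MulAut.congr g (MulAut.conj x) = MulAut.conj (g x) := by
    intro x
    ext y
    simp [MulAut.congr]
  refine ⟨lam.comp (MulAut.congr g).toMonoidHom, fun x => ?_, ?_⟩
  · show lam (MulAut.congr g (MulAut.conj x)) = 1
    rw [hg, lam_conj]
  · show lam (MulAut.congr g α) = -1
    rcases Int.units_eq_one_or (lam (MulAut.congr g α)) with h | h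
    · exfalso
      obtain ⟨q, hq⟩ := inner_of_lam h
      apply hα (g.symm q)
      apply (MulAut.congr g).injective
      rw [hq, hg, MulEquiv.apply_symm_apply]
    · exact h

theorem outSign_HS {X : Type*} [Group X] (e : X ≃* ↥Cfsg.Spor.HS) : OutSign X :=
  fun α _ hα => exists_char e α hα

end Cfsg.Agent.OddHalf.Table.OutHS
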