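import Cfsg.Agent.StdG24.AutA5

/-!
# Generating triples `(v, x, a)` of `A₅`

`v² = x³ = (vx)³ = a² = (xa)² = (va)³ = 1`, `v ≠ 1`: two such triples are conjugate under `A₅` up to replacing `x` by
`x⁻¹`.
-/

set_option autoImplicit false

namespace Cfsg.Agent.OddHalf.Table.TripleAFive

open Equiv Cfsg.Agent.StdG24.AutA5

def x0 : P := Equiv.swap 0 1 * Equiv.swap 1 2
def r0 : P := Equiv.swap 0 1 * Equiv.swap 3 4
def t0 : P := Equiv.swap 0 1

theorem normX : ∀ x : P, x * x * x = 1 → x ≠ 1 → a0 * x * (a0 * x) * (a0 * x) = 1 →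
    ∃ s : P, s * a0 * s⁻¹ = a0 ∧ s * x * s⁻¹ = x0 := by decide +kernel

theorem normR : ∀ a : P, Perm.sign a = 1 → a * a = 1 → x0 * a * (x0 * a) = 1 →
    a0 * a * (a0 * a) * (a0 * a) = 1 → a = r0 := by decide +kernel

theorem t_facts : Perm.sign t0 = -1 ∧ t0 * a0 * t0⁻¹ = a0 ∧ t0 * x0 * t0⁻¹ = x0⁻¹ ∧ t0 * r0 * t0⁻¹ = r0 := by
  decide +kernel

/-- the relations -/
structure Tri {A : Type*} [Group A] (v x a : A) : Prop where
  v1 : v ≠ 1
  v2 : v * v = 1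
  x3 : x * x * x = 1
  vx : v * x * (v * x) * (v * x) = 1
  a2 : a * a = 1
  xa : x * a * (x * a) = 1
  va : v * a * (v * a) * (v * a) = 1

theorem Tri.map {A B : Type*} [Group A] [Group B] {v x a : A} (h : Tri v x a) (f : A →* B)
    (hf : Function.Injective f) : Tri (f v) (f x) (f a) where
  v1 := fun h1 => h.v1 (hf (by rw [h1, map_one]))
  v2 := by rw [← map_mul, h.v2, map_one]
  x3 := by rw [← map_mul, ← map_mul, h.x3, map_one]
  vx := by simp only [← map_mul, h.vx, map_one]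
  a2 := by rw [← map_mul, h.a2, map_one]
  xa := by simp only [← map_mul, h.xa, map_one]
  va := by simp only [← map_mul, h.va, map_one]

theorem Tri.of_map {A B : Type*} [Group A] [Group B] {v x a : A} (f : A →* B) (hf : Function.Injective f)
    (h : Tri (f v) (f x) (f a)) : Tri v x a where
  v1 := fun h1 => h.v1 (by rw [h1, map_one])
  v2 := hf (by rw [map_one]; simpa only [map_mul] using h.v2)
  x3 := hf (by rw [map_one]; simpa only [map_mul] using h.x3)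
  vx := hf (by rw [map_one]; simpa only [map_mul] using h.vx)
  a2 := hf (by rw [map_one]; simpa only [map_mul] using h.a2)
  xa := hf (by rw [map_one]; simpa only [map_mul] using h.xa)
  va := hf (by rw [map_one]; simpa only [map_mul] using h.va)

theorem Tri.x1 {A : Type*} [Group A] {v x a : A} (h : Tri v x a) : x ≠ 1 := by
  rintro rfl
  have h1 := h.vx
  rw [mul_one, h.v2, one_mul] at h1
  exact h.v1 h1

/-- standard form in `S₅` -/
theorem std {v x a : P} (h : Tri v x a) (hv : Perm.sign v = 1) (ha : Perm.sign a = 1) :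
    ∃ s : P, s * v * s⁻¹ = a0 ∧ s * x * s⁻¹ = x0 ∧ s * a * s⁻¹ = r0 := by
  obtain ⟨s₁, h1⟩ := normV v hv h.v1 h.v2
  have g1 := h.map (MulAut.conj s₁).toMonoidHom (MulAut.conj s₁).injective
  have e1 : ∀ y : P, (MulAut.conj s₁).toMonoidHom y = s₁ * y * s₁⁻¹ := fun _ => rfl
  rw [e1, e1, e1, h1] at g1
  obtain ⟨s₂, h2, h3⟩ := normX (s₁ * x * s₁⁻¹) g1.x3 g1.x1 g1.vx
  have g2 := g1.map (MulAut.conj s₂).toMonoidHom (MulAut.conj s₂).injective
  have e2 : ∀ y : P, (MulAut.conj s₂).toMonoidHom y = s₂ * y * s₂⁻¹ := fun _ => rfl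
  rw [e2, e2, e2, h2, h3] at g2
  have h4 := normR (s₂ * (s₁ * a * s₁⁻¹) * s₂⁻¹) (by simp [ha]) g2.a2 g2.xa g2.va
  refine ⟨s₂ * s₁, ?_, ?_, ?_⟩
  · rw [← h2, ← h1]; group
  · rw [← h3]; group
  · rw [← h4]; group

/-- Two triples are conjugate under `A₅`, up to the inverse of `x`. -/
theorem conj_triple {A : Type*} [Group A] (e : A ≃* alternatingGroup (Fin 5)) {v x a v' x' a' : A}
    (h : Tri v x a) (h' : Tri v' x' a') :
    ∃ b : A, b * v' * b⁻¹ = v ∧ b * a' * b⁻¹ = a ∧ (b * x' * b⁻¹ = x ∨ b * x' * b⁻¹ = x⁻¹) := by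
  obtain ⟨s, s1, s2, s3⟩ := std (h.map _ (emb_injective e 1)) (sign_emb _ _ _) (sign_emb _ _ _)
  obtain ⟨s', s1', s2', s3'⟩ := std (h'.map _ (emb_injective e 1)) (sign_emb _ _ _) (sign_emb _ _ _)
  obtain ⟨t1, t2, t3, t4⟩ := t_facts
  have hinj := emb_injective e 1
  rcases Int.units_eq_one_or (Perm.sign (s⁻¹ * s')) with hs | hs
  · obtain ⟨b, hb⟩ := exists_emb e 1 (s⁻¹ * s') hs
    refine ⟨b, hinj ?_, hinj ?_, Or.inl (hinj ?_)⟩
    · rw [map_mul, map_mul, map_inv, hb]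
      have : s⁻¹ * s' * (emb e 1 v') * (s⁻¹ * s')⁻¹ = s⁻¹ * (s' * emb e 1 v' * s'⁻¹) * s := by group
      rw [this, s1', ← s1]; group
    · rw [map_mul, map_mul, map_inv, hb]
      have : s⁻¹ * s' * (emb e 1 a') * (s⁻¹ * s')⁻¹ = s⁻¹ * (s' * emb e 1 a' * s'⁻¹) * s := by group
      rw [this, s3', ← s3]; group
    · rw [map_mul, map_mul, map_inv, hb]
      have : s⁻¹ * s' * (emb e 1 x') * (s⁻¹ * s')⁻¹ = s⁻¹ * (s' * emb e 1 x' * s'⁻¹) * s := by group
      rw [this, s2', ← s2]; group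
  · have hs' : Perm.sign (s⁻¹ * t0 * s') = 1 := by
      have : Perm.sign (s⁻¹ * t0 * s') = Perm.sign t0 * Perm.sign (s⁻¹ * s') := by
        simp only [map_mul, map_inv]
        rw [mul_comm (Perm.sign s)⁻¹ (Perm.sign t0), mul_assoc]
      rw [this, t1, hs]; decide
    obtain ⟨b, hb⟩ := exists_emb e 1 (s⁻¹ * t0 * s') hs'
    refine ⟨b, hinj ?_, hinj ?_, Or.inr (hinj ?_)⟩
    · rw [map_mul, map_mul, map_inv, hb]
      have : s⁻¹ * t0 * s' * (emb e 1 v') * (s⁻¹ * t0 * s')⁻¹ = s⁻¹ * (t0 * (s' * emb e 1 v' * s'⁻¹) * t0⁻¹) * s := by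
        group
      rw [this, s1', t2, ← s1]; group
    · rw [map_mul, map_mul, map_inv, hb]
      have : s⁻¹ * t0 * s' * (emb e 1 a') * (s⁻¹ * t0 * s')⁻¹ = s⁻¹ * (t0 * (s' * emb e 1 a' * s'⁻¹) * t0⁻¹) * s := by
        group
      rw [this, s3', t4, ← s3]; group
    · rw [map_mul, map_mul, map_inv, map_inv, hb]
      have : s⁻¹ * t0 * s' * (emb e 1 x') * (s⁻¹ * t0 * s')⁻¹ = s⁻¹ * (t0 * (s' * emb e 1 x' * s'⁻¹) * t0⁻¹) * s := by
        group
      rw [this, s2', t3, ← s2]; group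

end Cfsg.Agent.OddHalf.Table.TripleAFive
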