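import Cfsg.Agent.OddHalf.Table.Iface17
import Cfsg.Agent.OddHalf.Table.TripleAFive
import Cfsg.Agent.StdG24.J2Inst
import Cfsg.Agent.J2Type.SylowSeven

/-!
# `OutSign` for the Hall–Janko group

`J₂ = ⟨K, B⟩` with `K = ⟨z, y, l⟩ ≅ A₅`, `B = ⟨v, x, a⟩ ≅ A₅`, `d = z l y` of order 5 in `K`, `C(d) = ⟨d⟩ × B`,
`C(v, v^x) = ⟨v, v^x⟩ × K`.
* an automorphism fixing `d` is inner (`inner_of_fix`);
* every automorphism maps `d` to a conjugate of `d` or `d²` (`cases_d`).
So the product of two outer automorphisms is inner.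
-/

set_option autoImplicit false
set_option linter.style.haveILetI false

open scoped commutatorElement

namespace Cfsg.Agent.OddHalf.Table.OutJTwo

open Subgroup Cfsg.Agent.StdG24 Cfsg.Agent.OddHalf.Table.TripleAFive

/-! ### `A₅` -/

theorem simple_A5 : IsSimpleGroup (alternatingGroup (Fin 5)) := alternatingGroup.isSimpleGroup (by simp)

theorem noncomm_A5 : ¬ ∀ a b : alternatingGroup (Fin 5), a * b = b * a := by
  intro h
  have h1 := h ⟨Equiv.swap 0 1 * Equiv.swap 1 2, Equiv.Perm.mem_alternatingGroup.2 (by decide)⟩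
    ⟨Equiv.swap 1 2 * Equiv.swap 2 3, Equiv.Perm.mem_alternatingGroup.2 (by decide)⟩
  have h2 := congrArg Subtype.val h1
  revert h2
  decide

theorem commutator_A5 : commutator (alternatingGroup (Fin 5)) = ⊤ := by
  haveI := simple_A5
  rcases (inferInstance : (commutator (alternatingGroup (Fin 5))).Normal).eq_bot_or_eq_top with h | h
  · exfalso
    apply noncomm_A5
    intro a b
    have h1 : ⁅a, b⁆ ∈ commutator (alternatingGroup (Fin 5)) :=
      Subgroup.commutator_mem_commutator (Subgroup.mem_top a) (Subgroup.mem_top b)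
    rw [h, Subgroup.mem_bot] at h1
    exact commutatorElement_eq_one_iff_mul_comm.mp h1
  · exact h

theorem center_A5 (x : alternatingGroup (Fin 5)) (hx : ∀ y, x * y = y * x) : x = 1 := by
  haveI := simple_A5
  have h1 : x ∈ Subgroup.center (alternatingGroup (Fin 5)) := Subgroup.mem_center_iff.mpr fun y => (hx y).symm
  rcases (inferInstance : (Subgroup.center (alternatingGroup (Fin 5))).Normal).eq_bot_or_eq_top with h | h
  · rw [h, Subgroup.mem_bot] at h1; exact h1
  · exfalso
    apply noncomm_A5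
    intro a b
    have : b ∈ Subgroup.center (alternatingGroup (Fin 5)) := by rw [h]; trivial
    exact Subgroup.mem_center_iff.mp this a

theorem card_A5 : Nat.card (alternatingGroup (Fin 5)) = 60 := by
  rw [Nat.card_eq_fintype_card]
  decide +kernel

variable {J : Type*} [Group J]

theorem perfect_of_iso {B : Subgroup J} (e : B ≃* alternatingGroup (Fin 5)) : ⁅B, B⁆ = B := by
  have h1 : commutator B = ⊤ := by
    have h2 : (commutator (alternatingGroup (Fin 5))).map e.symm.toMonoidHom = commutator B := by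
      rw [commutator_def, Subgroup.map_commutator, commutator_def,
        Subgroup.map_top_of_surjective _ e.symm.surjective]
    rw [← h2, commutator_A5, Subgroup.map_top_of_surjective _ e.symm.surjective]
  have h3 : (commutator B).map B.subtype = ⁅B, B⁆ := by
    rw [commutator_def, Subgroup.map_commutator, ← MonoidHom.range_eq_map, Subgroup.range_subtype]
  rw [← h3, h1, ← MonoidHom.range_eq_map, Subgroup.range_subtype]

theorem central_trivial {B : Subgroup J} (e : B ≃* alternatingGroup (Fin 5)) {w : J} (hw : w ∈ B)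
    (hc : ∀ b ∈ B, w * b = b * w) : w = 1 := by
  have h1 : e ⟨w, hw⟩ = 1 := by
    apply center_A5
    intro y
    obtain ⟨b, rfl⟩ := e.surjective y
    rw [← map_mul, ← map_mul]
    congr 1
    exact Subtype.ext (hc b b.2)
  have h2 : (⟨w, hw⟩ : B) = 1 := e.injective (by rw [h1, map_one])
  exact congrArg Subtype.val h2

theorem card_of_iso {B : Subgroup J} (e : B ≃* alternatingGroup (Fin 5)) : Nat.card B = 60 := by
  rw [Nat.card_congr e.toEquiv, card_A5]

/-! ### Products of commuting subgroups -/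

theorem mem_of_card {A B C : Subgroup J} [Finite C] (hA : A ≤ C) (hB : B ≤ C)
    (hdis : ∀ x ∈ A, x ∈ B → x = 1) (hcard : Nat.card C ≤ Nat.card A * Nat.card B) :
    ∀ c ∈ C, ∃ a ∈ A, ∃ b ∈ B, c = a * b := by
  let f : A × B → C := fun p => ⟨p.1 * p.2, C.mul_mem (hA p.1.2) (hB p.2.2)⟩
  have hf : Function.Injective f := by
    rintro ⟨a, b⟩ ⟨a', b'⟩ h
    have h1 : (a : J) * b = a' * b' := congrArg Subtype.val h
    have h2 : (a' : J)⁻¹ * a = b' * (b : J)⁻¹ := by
      rw [inv_mul_eq_iff_eq_mul, ← mul_assoc, ← h1, mul_inv_cancel_right]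
    have h3 := hdis ((a' : J)⁻¹ * a) (A.mul_mem (A.inv_mem a'.2) a.2) (by rw [h2]; exact B.mul_mem b'.2 (B.inv_mem b.2))
    have h4 : (a : J) = a' := (inv_mul_eq_one.1 h3).symm
    have h5 : (b : J) = b' := by
      rw [h2] at h3
      exact (mul_inv_eq_one.1 h3).symm
    exact Prod.ext (Subtype.ext h4) (Subtype.ext h5)
  have hb := Function.Injective.bijective_of_nat_card_le hf (by rw [Nat.card_prod]; exact hcard)
  intro c hc
  obtain ⟨⟨a, b⟩, hab⟩ := hb.2 ⟨c, hc⟩
  exact ⟨a, a.2, b, b.2, (congrArg Subtype.val hab).symm⟩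

theorem commutator_eq {A B C : Subgroup J} (hB : B ≤ C) (hperf : ⁅B, B⁆ = B)
    (hC : ∀ c ∈ C, ∃ a ∈ A, ∃ b ∈ B, c = a * b) (hAA : ∀ a ∈ A, ∀ b ∈ A, a * b = b * a)
    (hAB : ∀ a ∈ A, ∀ b ∈ B, a * b = b * a) : ⁅C, C⁆ = B := by
  apply le_antisymm
  · rw [Subgroup.commutator_le]
    intro g₁ h₁ g₂ h₂
    obtain ⟨a, ha, b, hb, rfl⟩ := hC g₁ h₁
    obtain ⟨a', ha', b', hb', rfl⟩ := hC g₂ h₂
    have e1 : Commute a b := hAB a ha b hb
    have e2 : Commute a b' := hAB a ha b' hb'
    have e3 : Commute a' b := hAB a' ha' b hb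
    have e4 : Commute a' b' := hAB a' ha' b' hb'
    have e5 : Commute a a' := hAA a ha a' ha'
    have h1 : ⁅a * b, a' * b'⁆ = ⁅b, b'⁆ := by
      rw [commutatorElement_def, commutatorElement_def]
      have h2 : a * b * (a' * b') * (a * b)⁻¹ = a' * (b * b' * b⁻¹) := by
        calc a * b * (a' * b') * (a * b)⁻¹ = a * (b * a') * b' * b⁻¹ * a⁻¹ := by group
          _ = a * (a' * b) * b' * b⁻¹ * a⁻¹ := by rw [e3.eq]
          _ = (a * (a' * (b * b' * b⁻¹))) * a⁻¹ := by group
          _ = ((a' * (b * b' * b⁻¹)) * a) * a⁻¹ := by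
            rw [(e5.mul_right ((e1.mul_right e2).mul_right e1.inv_right)).eq]
          _ = _ := by group
      rw [h2]
      calc a' * (b * b' * b⁻¹) * (a' * b')⁻¹ = (a' * (b * b' * b⁻¹ * b'⁻¹)) * a'⁻¹ := by group
        _ = ((b * b' * b⁻¹ * b'⁻¹) * a') * a'⁻¹ := by
          rw [(((e3.mul_right e4).mul_right e3.inv_right).mul_right e4.inv_right).eq]
        _ = _ := by group
    rw [h1, ← hperf]
    exact Subgroup.commutator_mem_commutator hb hb'
  · rw [← hperf]
    exact Subgroup.commutator_mono hB hB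

/-- an automorphism fixing `C` maps `⁅C, C⁆` to itself -/
theorem map_commutator_mem {C B : Subgroup J} (α : MulAut J) (hC : C.map α.toMonoidHom = C) (hB : ⁅C, C⁆ = B) :
    ∀ b ∈ B, α b ∈ B := by
  intro b hb
  have h1 : B.map α.toMonoidHom = B := by
    rw [← hB, Subgroup.map_commutator, hC]
  rw [← h1]
  exact ⟨b, hb, rfl⟩

/-! ### Automorphisms fixing an element of order 5 -/

variable {v x a z y l : J}

/-- the element of order 5 -/
theorem comm_d (h : HJ v x a z y l) {b : J} (hb : b ∈ closure ({v, x, a} : Set J)) :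
    b * (z * (l * y)) = z * (l * y) * b := by
  have h1 : closure ({v, x, a} : Set J) ≤ centralizer ({z * (l * y)} : Set J) := by
    rw [closure_le]
    intro s hs
    rw [SetLike.mem_coe, mem_centralizer_singleton_iff]
    simp only [Set.mem_insert_iff, Set.mem_singleton_iff] at hs
    have r := h.rels
    rcases hs with rfl | rfl | rfl
    · have e1 : Commute s z := r.vz
      have e2 : Commute s l := r.vl
      have e3 : Commute s y := r.vy
      exact (e1.mul_right (e2.mul_right e3)).eq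
    · have e1 : Commute s z := r.xz
      have e2 : Commute s l := r.xl
      have e3 : Commute s y := r.xy
      exact (e1.mul_right (e2.mul_right e3)).eq
    · exact h.azl
  exact mem_centralizer_singleton_iff.1 (h1 hb)

/-- `v`, `x` commute with `K` -/
theorem comm_K (h : HJ v x a z y l) {k : J} (hk : k ∈ closure ({z, y, l} : Set J)) :
    v * k = k * v ∧ x * k = k * x := by
  have r := h.rels
  have h1 : closure ({z, y, l} : Set J) ≤ centralizer ({v, x} : Set J) := by
    rw [closure_le]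
    intro s hs
    rw [SetLike.mem_coe, mem_centralizer_iff]
    simp only [Set.mem_insert_iff, Set.mem_singleton_iff] at hs
    rintro t (rfl | rfl)
    · rcases hs with rfl | rfl | rfl
      · exact r.vz
      · exact r.vy
      · exact r.vl
    · rcases hs with rfl | rfl | rfl
      · exact r.xz
      · exact r.xy
      · exact r.xl
  have h2 := mem_centralizer_iff.1 (h1 hk)
  exact ⟨h2 v (by simp), h2 x (by simp)⟩

theorem tri (h : HJ v x a z y l) : Tri v x a where
  v1 := h.v1
  v2 := h.rels.v2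
  x3 := by have := h.rels.x3; rwa [pow_succ, pow_two] at this
  vx := by have := h.rels.vx; rwa [pow_succ, pow_two] at this
  a2 := h.rels.a2
  xa := by have := h.rels.xa; rwa [pow_two] at this
  va := by have := h.rels.va; rwa [pow_succ, pow_two] at this

theorem map_cent (α : MulAut J) (S : Set J) (h : ∀ g : J, g ∈ centralizer (α '' S) ↔ g ∈ centralizer S) :
    (centralizer S).map α.toMonoidHom = centralizer S := by
  ext g
  rw [← h g]
  constructor
  · rintro ⟨c, hc, rfl⟩
    rw [mem_centralizer_iff]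
    rintro _ ⟨s, hs, rfl⟩
    show α s * α c = α c * α s
    rw [← map_mul, ← map_mul, mem_centralizer_iff.1 hc s hs]
  · intro hg
    refine ⟨α.symm g, ?_, α.apply_symm_apply g⟩
    rw [SetLike.mem_coe, mem_centralizer_iff]
    intro s hs
    apply α.injective
    rw [map_mul, map_mul, MulEquiv.apply_symm_apply]
    exact mem_centralizer_iff.1 hg (α s) ⟨s, hs, rfl⟩

theorem exists_restrict {K : Subgroup J} (α : MulAut J) (h : K.map α.toMonoidHom = K) :
    ∃ β : MulAut K, ∀ k : K, ((β k : K) : J) = α k :=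
  ⟨(α.subgroupMap K).trans (MulEquiv.subgroupCongr h), fun _ => rfl⟩

theorem four_le {A : Subgroup J} [Finite A] {v v' : J} (hv : v ∈ A) (hv' : v' ∈ A) (v1 : v ≠ 1) (v1' : v' ≠ 1)
    (hne : v' ≠ v) (hvv : v' * v' = 1) : 4 ≤ Nat.card A := by
  let f : Fin 4 → A := ![1, ⟨v, hv⟩, ⟨v', hv'⟩, ⟨v * v', A.mul_mem hv hv'⟩]
  have e1 : v * v' ≠ 1 := fun e => hne (by
    calc v' = v * v' * v' := by rw [e, one_mul]
      _ = v := by rw [mul_assoc, hvv, mul_one])
  have e2 : v * v' ≠ v := fun e => v1' (mul_eq_left.1 e)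
  have e3 : v * v' ≠ v' := fun e => v1 (mul_eq_right.1 e)
  have hf : Function.Injective f := by
    intro i j hij
    have hij' : ((f i : A) : J) = f j := congrArg Subtype.val hij
    fin_cases i <;> fin_cases j <;> first
      | rfl
      | (exfalso; simp [f] at hij'; first
          | exact v1 hij'.symm
          | exact v1 hij'
          | exact v1' hij'.symm
          | exact v1' hij'
          | exact hne hij'.symm
          | exact hne hij'
          | exact e1 hij'.symm
          | exact e1 hij')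
  have := Nat.card_le_card_of_injective f hf
  rwa [Nat.card_eq_fintype_card, Fintype.card_fin] at this

theorem xvx {v x : J} (h : Tri v x a) : x⁻¹ * v * x = v * (x * v * x⁻¹) ∧ (x * v * x⁻¹) * (x * v * x⁻¹) = 1 ∧
    x * v * x⁻¹ ≠ 1 := by
  have h3 : x * x = x⁻¹ := eq_inv_of_mul_eq_one_left h.x3
  have hvv : v⁻¹ = v := inv_eq_of_mul_eq_one_left h.v2
  refine ⟨?_, ?_, ?_⟩
  · have h4 : v * (x * v * x⁻¹) * (x⁻¹ * v * x) = 1 := by
      calc v * (x * v * x⁻¹) * (x⁻¹ * v * x) = v * (x * v * (x⁻¹ * x⁻¹)) * v * x := by group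
        _ = v * (x * v * x) * v * x := by
          rw [← h3, show x * x * (x * x) = x * x * x * x by group, h.x3, one_mul]
        _ = v * x * (v * x) * (v * x) := by group
        _ = 1 := h.vx
    have h5 : (x⁻¹ * v * x) * (x⁻¹ * v * x) = 1 := by
      calc (x⁻¹ * v * x) * (x⁻¹ * v * x) = x⁻¹ * (v * v) * x := by group
        _ = 1 := by rw [h.v2]; group
    have h6 := eq_inv_of_mul_eq_one_left h4
    rw [inv_eq_of_mul_eq_one_left h5] at h6
    exact h6.symm
  · calc (x * v * x⁻¹) * (x * v * x⁻¹) = x * (v * v) * x⁻¹ := by group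
      _ = 1 := by rw [h.v2]; group
  · intro h1
    apply h.v1
    calc v = x⁻¹ * (x * v * x⁻¹) * x := by group
      _ = 1 := by rw [h1]; group

/-- An automorphism fixing `d = z l y` is inner. -/
theorem inner_of_fix [Finite J] (h : HJ v x a z y l) (α : MulAut J) (hα : α (z * (l * y)) = z * (l * y)) :
    ∃ j : J, α = MulAut.conj j := by
  obtain ⟨eK⟩ := h.isoA
  obtain ⟨eB⟩ := h.isoB
  set B := closure ({v, x, a} : Set J) with hBdef
  set K := closure ({z, y, l} : Set J) with hKdef
  obtain ⟨d, hd⟩ : ∃ d, d = z * (l * y) := ⟨_, rfl⟩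
  have hdB : ∀ b ∈ B, b * d = d * b := fun b hb => by rw [hd]; exact comm_d h hb
  have hvB : v ∈ B := subset_closure (by simp)
  have hxB : x ∈ B := subset_closure (by simp)
  have haB : a ∈ B := subset_closure (by simp)
  have hzK : z ∈ K := subset_closure (by simp)
  have hyK : y ∈ K := subset_closure (by simp)
  have hlK : l ∈ K := subset_closure (by simp)
  have hdK : d ∈ K := by rw [hd]; exact K.mul_mem hzK (K.mul_mem hlK hyK)
  have hd1 : d ≠ 1 := by rw [hd]; exact h.ane
  have hd5 : d ^ 5 = 1 := by rw [hd]; exact h.a5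
  have hord : orderOf d = 5 := by
    haveI : Fact (Nat.Prime 5) := ⟨by norm_num⟩
    exact orderOf_eq_prime hd5 hd1
  rw [← hd] at hα
  -- the centralizer of `d`
  have hpow : ∀ u ∈ zpowers d, ∀ b ∈ B, u * b = b * u := by
    rintro _ ⟨i, rfl⟩ b hb
    have : Commute d b := (hdB b hb).symm
    exact (this.zpow_left i).eq
  have hdC : zpowers d ≤ centralizer ({d} : Set J) := by
    rintro _ ⟨i, rfl⟩
    rw [mem_centralizer_singleton_iff]
    exact ((Commute.refl d).zpow_left i).eq
  have hBC : B ≤ centralizer ({d} : Set J) := fun b hb => mem_centralizer_singleton_iff.2 (hdB b hb)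
  have hcentA : Nat.card (centralizer ({d} : Set J)) ≤ 300 := by rw [hd]; exact h.centA
  have hC1 := mem_of_card hdC hBC
    (fun w hw hwB => central_trivial eB hwB (fun b hb => hpow w hw b hb))
    (by rw [Nat.card_zpowers, hord, card_of_iso eB]; exact hcentA)
  have hC2 : ⁅centralizer ({d} : Set J), centralizer ({d} : Set J)⁆ = B :=
    commutator_eq hBC (perfect_of_iso eB) hC1
      (fun p hp q hq => by
        obtain ⟨i, rfl⟩ := hp
        obtain ⟨j, rfl⟩ := hq
        exact ((Commute.refl d).zpow_zpow i j).eq) hpow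
  have hC3 : (centralizer ({d} : Set J)).map α.toMonoidHom = centralizer ({d} : Set J) := by
    apply map_cent
    intro g
    rw [Set.image_singleton, hα]
  have hαB := map_commutator_mem α hC3 hC2
  -- the triples
  have T := tri h
  have T1 : Tri (⟨v, hvB⟩ : B) ⟨x, hxB⟩ ⟨a, haB⟩ := Tri.of_map B.subtype B.subtype_injective T
  have T2 : Tri (⟨α v, hαB v hvB⟩ : B) ⟨α x, hαB x hxB⟩ ⟨α a, hαB a haB⟩ :=
    Tri.of_map B.subtype B.subtype_injective (T.map α.toMonoidHom α.injective)
  obtain ⟨⟨b, hb⟩, c1, c2, c3⟩ := conj_triple eB T1 T2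
  have c1' : b * α v * b⁻¹ = v := congrArg Subtype.val c1
  have c2' : b * α a * b⁻¹ = a := congrArg Subtype.val c2
  have c3' : b * α x * b⁻¹ = x ∨ b * α x * b⁻¹ = x⁻¹ := by
    rcases c3 with c3 | c3
    · exact Or.inl (congrArg Subtype.val c3)
    · exact Or.inr (congrArg Subtype.val c3)
  set β : MulAut J := MulAut.conj b * α with hβ
  have hβa : ∀ g, β g = b * α g * b⁻¹ := fun _ => rfl
  have b1 : β v = v := c1'
  have b2 : β a = a := c2'
  have b3 : β x = x ∨ β x = x⁻¹ := c3'
  have b4 : β d = d := by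
    rw [hβa, hα, hdB b hb, mul_inv_cancel_right]
  obtain ⟨x1, x2, x3⟩ := xvx T
  -- the centralizer of `v`, `v^x`
  set v' := x * v * x⁻¹ with hv'
  have hvv' : v * v' = v' * v := h.vv
  have hKC : K ≤ centralizer ({v, v'} : Set J) := by
    intro k hk
    obtain ⟨k1, k2⟩ := comm_K h hk
    rw [mem_centralizer_iff]
    simp only [Set.mem_insert_iff, Set.mem_singleton_iff]
    rintro _ (rfl | rfl)
    · exact k1
    · have e1 : Commute v k := k1
      have e2 : Commute x k := k2
      exact ((e2.mul_left e1).mul_left e2.inv_left).eq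
  have hVC : closure ({v, v'} : Set J) ≤ centralizer ({v, v'} : Set J) := by
    rw [closure_le]
    intro s hs
    rw [SetLike.mem_coe, mem_centralizer_iff]
    simp only [Set.mem_insert_iff, Set.mem_singleton_iff] at hs ⊢
    rcases hs with rfl | rfl <;> rintro _ (rfl | rfl)
    · rfl
    · exact hvv'.symm
    · exact hvv'
    · rfl
  have hVK : ∀ p ∈ closure ({v, v'} : Set J), ∀ k ∈ K, p * k = k * p := by
    intro p hp k hk
    have : closure ({v, v'} : Set J) ≤ centralizer (K : Set J) := by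
      rw [closure_le]
      intro s hs
      rw [SetLike.mem_coe, mem_centralizer_iff]
      intro k hk
      exact (mem_centralizer_iff.1 (hKC hk) s hs).symm
    exact (mem_centralizer_iff.1 (this hp) k hk).symm
  have hvm : v ∈ closure ({v, v'} : Set J) := subset_closure (by simp)
  have hvm' : v' ∈ closure ({v, v'} : Set J) := subset_closure (by simp)
  have hD1 := mem_of_card hVC hKC
    (fun w hw hwK => central_trivial eK hwK (fun k hk => hVK w hw k hk))
    (by
      have h4 := four_le hvm hvm' h.v1 x3 h.vpx x2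
      have h5 := h.centV
      rw [card_of_iso eK]
      calc Nat.card (centralizer ({v, v'} : Set J)) ≤ 240 := h5
        _ ≤ Nat.card (closure ({v, v'} : Set J)) * 60 := by omega)
  have hD2 : ⁅centralizer ({v, v'} : Set J), centralizer ({v, v'} : Set J)⁆ = K :=
    commutator_eq hKC (perfect_of_iso eK) hD1
      (fun p hp q hq => by
        have := hVC hq
        have h6 : closure ({v, v'} : Set J) ≤ centralizer ({q} : Set J) := by
          rw [closure_le]
          intro s hs
          rw [SetLike.mem_coe, mem_centralizer_singleton_iff]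
          exact mem_centralizer_iff.1 this s hs
        exact mem_centralizer_singleton_iff.1 (h6 hp)) hVK
  have b5 : β v' = v' ∨ β v' = v * v' := by
    have : β v' = β x * v * (β x)⁻¹ := by rw [hv', map_mul, map_mul, map_inv, b1]
    rw [this]
    rcases b3 with e | e
    · left; rw [e]
    · right; rw [e, inv_inv, x1]
  have hD3 : (centralizer ({v, v'} : Set J)).map β.toMonoidHom = centralizer ({v, v'} : Set J) := by
    apply map_cent
    intro g
    rw [Set.image_pair, b1]
    rcases b5 with e | e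
    · rw [e]
    · rw [e, mem_centralizer_iff, mem_centralizer_iff]
      simp only [Set.mem_insert_iff, Set.mem_singleton_iff, forall_eq_or_imp, forall_eq]
      apply and_congr_right
      intro hg
      have hg' : Commute v g := hg
      constructor
      · intro h7
        have h7' : Commute (v * v') g := h7
        have : v' = v⁻¹ * (v * v') := by group
        rw [this]
        exact (hg'.inv_left.mul_left h7').eq
      · intro h7
        have h7' : Commute v' g := h7
        exact (hg'.mul_left h7').eq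
  have hKmap : K.map β.toMonoidHom = K := by
    conv_lhs => rw [← hD2]
    rw [Subgroup.map_commutator, hD3, hD2]
  obtain ⟨κ, hκ⟩ := exists_restrict β hKmap
  obtain ⟨k, hk⟩ := Cfsg.Agent.StdG24.AutA5.conj_of_fix eK κ (u := ⟨d, hdK⟩)
    (fun e => hd1 (congrArg Subtype.val e)) (Subtype.ext hd5) (Subtype.ext (by rw [hκ]; exact b4))
  have hk' : ∀ g ∈ K, β g = d ^ k * g * (d ^ k)⁻¹ := by
    intro g hg
    have h8 := congrArg Subtype.val (hk ⟨g, hg⟩)
    rw [hκ] at h8
    exact h8
  obtain ⟨γ, hγ⟩ : ∃ γ : MulAut J, γ = MulAut.conj (d ^ k)⁻¹ * β := ⟨_, rfl⟩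
  have hγa : ∀ g, γ g = (d ^ k)⁻¹ * β g * d ^ k := by
    intro g
    rw [hγ]
    show (d ^ k)⁻¹ * β g * (d ^ k)⁻¹⁻¹ = _
    rw [inv_inv]
  have g1 : ∀ g ∈ K, γ g = g := by
    intro g hg
    rw [hγa, hk' g hg]; group
  have g2 : ∀ g ∈ B, (d ^ k)⁻¹ * g * d ^ k = g := by
    intro g hg
    have : Commute g (d ^ k) := (show Commute g d from hdB g hg).pow_right k
    rw [mul_assoc, this.eq, inv_mul_cancel_left]
  have g3 : γ v = v := by rw [hγa, b1, g2 v hvB]
  have g4 : γ a = a := by rw [hγa, b2, g2 a haB]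
  rcases b3 with e | e
  · have g5 : γ x = x := by rw [hγa, e, g2 x hxB]
    have g6 : γ.toMonoidHom = MonoidHom.id J := by
      apply MonoidHom.eq_of_eqOn_dense h.gen
      intro s hs
      simp only [Set.mem_insert_iff, Set.mem_singleton_iff] at hs
      show γ s = s
      rcases hs with rfl | rfl | rfl | rfl | rfl | rfl
      · exact g3
      · exact g5
      · exact g4
      · exact g1 _ hzK
      · exact g1 _ hyK
      · exact g1 _ hlK
    have g7 : γ = 1 := by
      ext g
      exact DFunLike.congr_fun g6 g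
    refine ⟨((d ^ k)⁻¹ * b)⁻¹, ?_⟩
    have g8 : MulAut.conj ((d ^ k)⁻¹ * b) * α = 1 := by
      rw [map_mul, mul_assoc, ← hβ, ← hγ, g7]
    rw [map_inv]
    exact eq_inv_of_mul_eq_one_right g8
  · exfalso
    have g5 : γ x = x⁻¹ := by rw [hγa, e, g2 _ (B.inv_mem hxB)]
    have r := h.rels.n1
    have r' := congrArg γ r
    simp only [map_mul, map_inv, g1 _ hyK, g1 _ hzK, g3, g4, g5, inv_inv] at r'
    rw [r] at r'
    have h9 := mul_right_cancel r'
    have h10 := mul_left_cancel h9
    exact h.v1 (mul_eq_right.1 (x1.symm.trans h10))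

/-! ### The class of `d` -/

theorem pow_of_mem {u w : J} (hu : u ^ 5 = 1) (hw : w ∈ zpowers u) : ∃ i < 5, w = u ^ i := by
  obtain ⟨n, rfl⟩ := hw
  refine ⟨(n % 5).toNat, by omega, ?_⟩
  have h1 : ((n % 5).toNat : ℤ) = n % 5 := Int.toNat_of_nonneg (Int.emod_nonneg _ (by norm_num))
  have h2 : u ^ ((n % 5).toNat) = u ^ (n % 5) := by rw [← zpow_natCast, h1]
  show u ^ n = _
  rw [h2]
  have h3 : n = 5 * (n / 5) + n % 5 := (Int.mul_ediv_add_emod n 5).symm
  conv_lhs => rw [h3, zpow_add, zpow_mul]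
  have h4 : u ^ (5 : ℤ) = 1 := by exact_mod_cast hu
  rw [h4, one_zpow, one_mul]

theorem pow_mod5 {u : J} (hu : u ^ 5 = 1) {m n : ℕ} (h : m % 5 = n % 5) : u ^ m = u ^ n := by
  rw [← Nat.mod_add_div m 5, ← Nat.mod_add_div n 5, pow_add, pow_add, pow_mul, pow_mul, hu, one_pow, one_pow, h]

theorem arith : ∀ i < 5, i ≠ 0 → ∀ j < 5, (∃ t < 5, (t * i) % 5 = j % 5) ∧ ∃ i' < 5, (i * i') % 5 = 1 % 5 := by
  decide

theorem conj_pow' {g u : J} (n : ℕ) : (g * u * g⁻¹) ^ n = g * u ^ n * g⁻¹ := conj_pow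

/-- The elements of the Sylow 5-subgroup. -/
theorem good_or_bad (h : HJ v x a z y l) {i j : ℕ} (hi : i < 5) (hj : j < 5) (hij : ¬ (i = 0 ∧ j = 0)) :
    (∃ (g : J) (n : ℕ), (z * (l * y)) ^ i * (v * x * a) ^ j = g * (z * (l * y)) ^ n * g⁻¹) ∨
      ∃ (g : J) (n : ℕ), ((z * (l * y)) ^ i * (v * x * a) ^ j) ^ n = g * (v * x * a) * g⁻¹ := by
  have hc : Commute (z * (l * y)) (v * x * a) := by
    have : v * x * a ∈ closure ({v, x, a} : Set J) :=
      mul_mem (mul_mem (subset_closure (by simp)) (subset_closure (by simp))) (subset_closure (by simp))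
    exact (comm_d h this).symm
  have hd5 := h.a5
  have hb5 := h.b5
  obtain ⟨g1, c1⟩ := h.cj1
  obtain ⟨g2, c2⟩ := h.cj2
  obtain ⟨g3, c3⟩ := h.cj3
  obtain ⟨g4, c4⟩ := h.cj4
  generalize z * (l * y) = d at *
  generalize v * x * a = b at *
  by_cases h0 : i = 0
  · subst h0
    have hj0 : j ≠ 0 := fun e => hij ⟨rfl, e⟩
    obtain ⟨-, j', -, hj'⟩ := arith j hj hj0 0 (by norm_num)
    right
    refine ⟨1, j', ?_⟩
    rw [pow_zero, one_mul, ← pow_mul, pow_mod5 hb5 hj', pow_one]
    group
  · obtain ⟨⟨t, ht, htj⟩, i', -, hi'⟩ := arith i hi h0 j hj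
    have key : d ^ i * b ^ j = (d * b ^ t) ^ i := by
      rw [(hc.pow_right t).mul_pow, ← pow_mul, pow_mod5 hb5 htj]
    rw [key]
    interval_cases t
    · left
      exact ⟨1, i, by group⟩
    · left
      refine ⟨g1, 2 * i, ?_⟩
      rw [pow_one, ← c1, conj_pow, pow_mul]
    · right
      refine ⟨g2, i', ?_⟩
      rw [← c2, ← pow_mul, conj_pow, pow_mod5 hb5 hi', pow_one]
    · right
      refine ⟨g3, i', ?_⟩
      rw [← c3, ← pow_mul, conj_pow, pow_mod5 hb5 hi', pow_one]
    · left
      refine ⟨g4, 2 * i, ?_⟩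
      rw [← c4, conj_pow, pow_mul]

/-- `d` is conjugate to its inverse -/
theorem conj_inv_d (h : HJ v x a z y l) : z * (z * (l * y)) * z⁻¹ = (z * (l * y))⁻¹ := by
  have r := h.rels
  have hz : z⁻¹ = z := inv_eq_of_mul_eq_one_left r.z2
  have hly : l * y * (l * y) = 1 := by
    have h1 : (y * l) ^ 2 = 1 := r.yl
    have h2 : l * y * (l * y) = y⁻¹ * (y * l) ^ 2 * y := by rw [pow_two]; group
    rw [h2, h1]; group
  rw [mul_inv_rev, inv_eq_of_mul_eq_one_left hly, ← mul_assoc z z, r.z2, one_mul]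

theorem card_cent_conj (g w : J) : Nat.card (centralizer ({g * w * g⁻¹} : Set J)) = Nat.card (centralizer ({w} : Set J)) := by
  have h1 : (centralizer ({w} : Set J)).map (MulAut.conj g).toMonoidHom = centralizer ({g * w * g⁻¹} : Set J) := by
    ext u
    rw [mem_centralizer_singleton_iff]
    constructor
    · rintro ⟨c, hc, rfl⟩
      have hc' := mem_centralizer_singleton_iff.1 hc
      show g * c * g⁻¹ * (g * w * g⁻¹) = g * w * g⁻¹ * (g * c * g⁻¹)
      calc g * c * g⁻¹ * (g * w * g⁻¹) = g * (c * w) * g⁻¹ := by group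
        _ = g * (w * c) * g⁻¹ := by rw [hc']
        _ = _ := by group
    · intro hu
      refine ⟨g⁻¹ * u * g, ?_, by show g * (g⁻¹ * u * g) * g⁻¹ = u; group⟩
      rw [SetLike.mem_coe, mem_centralizer_singleton_iff]
      calc g⁻¹ * u * g * w = g⁻¹ * (u * (g * w * g⁻¹)) * g := by group
        _ = g⁻¹ * (g * w * g⁻¹ * u) * g := by rw [hu]
        _ = _ := by group
  rw [← h1, card_map_of_injective (MulAut.conj g).injective]

theorem card_cent_aut (α : MulAut J) (w : J) :
    Nat.card (centralizer ({α w} : Set J)) = Nat.card (centralizer ({w} : Set J)) := by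
  have h1 : (centralizer ({w} : Set J)).map α.toMonoidHom = centralizer ({α w} : Set J) := by
    ext u
    rw [mem_centralizer_singleton_iff]
    constructor
    · rintro ⟨c, hc, rfl⟩
      have hc' := mem_centralizer_singleton_iff.1 hc
      show α c * α w = α w * α c
      rw [← map_mul, hc', map_mul]
    · intro hu
      refine ⟨α.symm u, ?_, α.apply_symm_apply u⟩
      rw [SetLike.mem_coe, mem_centralizer_singleton_iff]
      apply α.injective
      rw [map_mul, map_mul, MulEquiv.apply_symm_apply, hu]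
  rw [← h1, card_map_of_injective α.injective]

/-- Every automorphism maps `d` to a conjugate of `d` or `d²`. -/
theorem cases_d [Finite J] (h : HJ v x a z y l) (α : MulAut J) :
    (∃ g : J, g * α (z * (l * y)) * g⁻¹ = z * (l * y)) ∨ ∃ g : J, g * α (z * (l * y)) * g⁻¹ = (z * (l * y)) ^ 2 := by
  haveI : Fact (Nat.Prime 5) := ⟨by norm_num⟩
  obtain ⟨eB⟩ := h.isoB
  have hgb := fun {i j : ℕ} => good_or_bad h (i := i) (j := j)
  have hinv := conj_inv_d h
  have hbB : v * x * a ∈ closure ({v, x, a} : Set J) :=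
    mul_mem (mul_mem (subset_closure (by simp)) (subset_closure (by simp))) (subset_closure (by simp))
  have hdB : ∀ b ∈ closure ({v, x, a} : Set J), b * (z * (l * y)) = z * (l * y) * b := fun b hb => comm_d h hb
  have hd1 := h.ane
  have hd5 := h.a5
  have hb1 := h.bne
  have hb5 := h.b5
  have hcB := h.centB
  generalize z * (l * y) = d at *
  generalize v * x * a = b₅ at *
  have hc : Commute d b₅ := (hdB _ hbB).symm
  have hod : orderOf d = 5 := orderOf_eq_prime hd5 hd1
  have hob : orderOf b₅ = 5 := orderOf_eq_prime hb5 hb1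
  -- the Sylow subgroup
  have hP : IsPGroup 5 (zpowers d ⊔ zpowers b₅ : Subgroup J) := by
    apply IsPGroup.to_sup_of_normal_right'
    · exact IsPGroup.of_card (n := 1) (by rw [Nat.card_zpowers, hod]; norm_num)
    · exact IsPGroup.of_card (n := 1) (by rw [Nat.card_zpowers, hob]; norm_num)
    · rintro _ ⟨i, rfl⟩
      rw [mem_normalizer_iff]
      intro u
      have hcu : ∀ u ∈ zpowers b₅, d ^ i * u * (d ^ i)⁻¹ = u := by
        rintro _ ⟨j, rfl⟩
        have : Commute (d ^ i) (b₅ ^ j) := hc.zpow_zpow i j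
        show d ^ i * b₅ ^ j * (d ^ i)⁻¹ = b₅ ^ j
        rw [this.eq, mul_inv_cancel_right]
      constructor
      · intro hu
        show d ^ i * u * (d ^ i)⁻¹ ∈ _
        rw [hcu u hu]; exact hu
      · intro hu
        have h2 := hcu _ hu
        have h3 : u = d ^ i * u * (d ^ i)⁻¹ := by
          have h4 : d ^ i * (d ^ i * u * (d ^ i)⁻¹) * (d ^ i)⁻¹ = d ^ i * u * (d ^ i)⁻¹ := h2
          have h5 := mul_right_cancel h4
          exact (mul_left_cancel h5).symm
        rw [h3]; exact hu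
  obtain ⟨S, hS⟩ := hP.exists_le_sylow
  have hScard : Nat.card (S : Subgroup J) = 25 := by
    have := Cfsg.Agent.J2Type.SylowSeven.card_sylow S 2 24192 (by rw [h.card]; norm_num) (by norm_num)
    rw [this]; norm_num
  have hall : ∀ c ∈ (S : Subgroup J), ∃ p ∈ zpowers d, ∃ q ∈ zpowers b₅, c = p * q := by
    apply mem_of_card (le_sup_left.trans hS) (le_sup_right.trans hS)
    · intro w hw hwb
      have hwB : w ∈ closure ({v, x, a} : Set J) := (zpowers_le.2 hbB) hwb
      apply central_trivial eB hwB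
      intro b hb
      obtain ⟨i, rfl⟩ := hw
      have : Commute d b := (hdB b hb).symm
      exact (this.zpow_left i).eq
    · rw [Nat.card_zpowers, Nat.card_zpowers, hod, hob, hScard]
  -- conjugate `α d` into `S`
  have hα5 : (α d) ^ 5 = 1 := by rw [← map_pow, hd5, map_one]
  have hα1 : α d ≠ 1 := fun e => hd1 (α.injective (by rw [e, map_one]))
  have hQ : IsPGroup 5 (zpowers (α d)) :=
    IsPGroup.of_card (n := 1) (by rw [Nat.card_zpowers, orderOf_eq_prime hα5 hα1]; norm_num)
  obtain ⟨S', hS'⟩ := hQ.exists_le_sylow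
  obtain ⟨g, hg⟩ := MulAction.exists_smul_eq J S' S
  have hgm : g * α d * g⁻¹ ∈ (S : Subgroup J) := by
    rw [← hg, Sylow.coe_subgroup_smul]
    exact ⟨α d, hS' (mem_zpowers _), rfl⟩
  obtain ⟨p, hp, q, hq, hpq⟩ := hall _ hgm
  obtain ⟨i, hi, rfl⟩ := pow_of_mem hd5 hp
  obtain ⟨j, hj, rfl⟩ := pow_of_mem hb5 hq
  have hne : ¬ (i = 0 ∧ j = 0) := by
    rintro ⟨rfl, rfl⟩
    rw [pow_zero, pow_zero, one_mul] at hpq
    apply hα1
    have : α d = g⁻¹ * (g * α d * g⁻¹) * g := by group
    rw [this, hpq]; group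
  -- centralizer orders
  have hcard1 : 60 ≤ Nat.card (centralizer ({d} : Set J)) := by
    rw [← card_of_iso eB]
    exact Nat.card_le_card_of_injective _ (Subgroup.inclusion_injective
      (fun b hb => mem_centralizer_singleton_iff.2 (hdB b hb)))
  rcases hgb hi hj hne with ⟨g', n, hn⟩ | ⟨g', n, hn⟩
  · rw [← hpq] at hn
    have hn' : (g'⁻¹ * g) * α d * (g'⁻¹ * g)⁻¹ = d ^ n := by
      calc (g'⁻¹ * g) * α d * (g'⁻¹ * g)⁻¹ = g'⁻¹ * (g * α d * g⁻¹) * g' := by group
        _ = d ^ n := by rw [hn]; group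
    have h5 : d ^ n = d ^ (n % 5) := pow_mod5 hd5 (by omega)
    have hlt : n % 5 < 5 := Nat.mod_lt _ (by norm_num)
    rw [h5] at hn'
    generalize n % 5 = m at hn' hlt
    have hd4 : d⁻¹ = d ^ 4 := by
      rw [inv_eq_iff_mul_eq_one, ← pow_succ', hd5]
    interval_cases m
    · exfalso
      apply hα1
      rw [pow_zero] at hn'
      have : α d = (g'⁻¹ * g)⁻¹ * ((g'⁻¹ * g) * α d * (g'⁻¹ * g)⁻¹) * (g'⁻¹ * g) := by group
      rw [this, hn']; group
    · left; exact ⟨_, by rw [hn', pow_one]⟩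
    · right; exact ⟨_, hn'⟩
    · right
      refine ⟨z * (g'⁻¹ * g), ?_⟩
      calc z * (g'⁻¹ * g) * α d * (z * (g'⁻¹ * g))⁻¹ = z * ((g'⁻¹ * g) * α d * (g'⁻¹ * g)⁻¹) * z⁻¹ := by group
        _ = z * d ^ 3 * z⁻¹ := by rw [hn']
        _ = (z * d * z⁻¹) ^ 3 := by rw [conj_pow]
        _ = d ^ 2 := by rw [hinv, hd4, ← pow_mul]; exact pow_mod5 hd5 (by norm_num)
    · left
      refine ⟨z * (g'⁻¹ * g), ?_⟩
      calc z * (g'⁻¹ * g) * α d * (z * (g'⁻¹ * g))⁻¹ = z * ((g'⁻¹ * g) * α d * (g'⁻¹ * g)⁻¹) * z⁻¹ := by group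
        _ = z * d ^ 4 * z⁻¹ := by rw [hn']
        _ = (z * d * z⁻¹) ^ 4 := by rw [conj_pow]
        _ = d := by
          rw [hinv, hd4, ← pow_mul]
          conv_rhs => rw [← pow_one d]
          exact pow_mod5 hd5 (by norm_num)
  · exfalso
    rw [← hpq] at hn
    have h6 : centralizer ({g * α d * g⁻¹} : Set J) ≤ centralizer ({g' * b₅ * g'⁻¹} : Set J) := by
      intro u hu
      rw [mem_centralizer_singleton_iff] at hu ⊢
      rw [← hn]
      exact ((show Commute u (g * α d * g⁻¹) from hu).pow_right n).eq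
    have h7 := Nat.card_le_card_of_injective _ (Subgroup.inclusion_injective h6)
    rw [card_cent_conj, card_cent_conj, card_cent_aut] at h7
    omega

/-- `OutSign` from generators as in `HJ` -/
theorem outSign_of_hj [Finite J] (h : HJ v x a z y l) : OutSign J := by
  have hinner : ∀ α : MulAut J, (∃ g : J, g * α (z * (l * y)) * g⁻¹ = z * (l * y)) → ∃ j, α = MulAut.conj j := by
    rintro α ⟨g, hg⟩
    obtain ⟨j, hj⟩ := inner_of_fix h (MulAut.conj g * α) hg
    refine ⟨g⁻¹ * j, ?_⟩
    rw [map_mul, ← hj, map_inv, inv_mul_cancel_left]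
  apply OutSign.of_mul_inner
  intro α β hα hβ
  have hα' : ∃ g : J, g * α (z * (l * y)) * g⁻¹ = (z * (l * y)) ^ 2 := by
    rcases cases_d h α with h1 | h1
    · obtain ⟨j, hj⟩ := hinner α h1
      exact absurd hj (hα j)
    · exact h1
  have hβ' : ∃ g : J, g * β (z * (l * y)) * g⁻¹ = (z * (l * y)) ^ 2 := by
    rcases cases_d h β with h1 | h1
    · obtain ⟨j, hj⟩ := hinner β h1
      exact absurd hj (hβ j)
    · exact h1
  obtain ⟨g, hg⟩ := hα'
  obtain ⟨g', hg'⟩ := hβ'
  apply hinner
  have hinv := conj_inv_d h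
  have hd5 := h.a5
  generalize z * (l * y) = d at *
  have e1 : β d = g'⁻¹ * d ^ 2 * g' := by rw [← hg']; group
  have e2 : α d = g⁻¹ * d ^ 2 * g := by rw [← hg]; group
  have hd4 : d⁻¹ = d ^ 4 := by
    rw [inv_eq_iff_mul_eq_one, ← pow_succ', hd5]
  refine ⟨z * g * α g', ?_⟩
  have e3 : (α * β) d = (α g')⁻¹ * (g⁻¹ * d ^ 4 * g) * α g' := by
    show α (β d) = _
    rw [e1, map_mul, map_mul, map_inv, map_pow, e2]
    have : (g⁻¹ * d ^ 2 * g) ^ 2 = g⁻¹ * d ^ 4 * g := by
      calc (g⁻¹ * d ^ 2 * g) ^ 2 = g⁻¹ * (d ^ 2 * d ^ 2) * g := by rw [pow_two]; group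
        _ = _ := by rw [← pow_add]
    rw [this]
  rw [e3]
  calc z * g * α g' * ((α g')⁻¹ * (g⁻¹ * d ^ 4 * g) * α g') * (z * g * α g')⁻¹ = z * d ^ 4 * z⁻¹ := by group
    _ = (z * d * z⁻¹) ^ 4 := by rw [conj_pow]
    _ = d := by
      rw [hinv, hd4, ← pow_mul]
      conv_rhs => rw [← pow_one d]
      exact pow_mod5 hd5 (by norm_num)

end Cfsg.Agent.OddHalf.Table.OutJTwo

namespace Cfsg.Agent.OddHalf.Table.OutJTwo

/-- `OutSign` for the Hall–Janko group (second proof; `outSign_J2` is in `OutJ2.lean`) -/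
theorem outSign {X' : Type*} [Group X'] (e : X' ≃* Cfsg.Spor.J2) : OutSign X' := by
  obtain ⟨f⟩ := Cfsg.Agent.StdG24.exists_equiv_hundred (J := X') ⟨e⟩
  exact OutSign.of_equiv f.symm (OutJTwo.outSign_of_hj Cfsg.Agent.StdG24.J2Inst.hj)

end Cfsg.Agent.OddHalf.Table.OutJTwo
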