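import Cfsg.Agent.LThreeFour.Facts
import Cfsg.Agent.LThreeFour.Exists
import Cfsg.Agent.OddHalf.Table.Iface17

/-!
# TABLE-17, the row `L3(4)`: outer involutory automorphisms are detected by a sign
-/

set_option autoImplicit false

namespace Cfsg.Agent.OddHalf.Table.OutLThreeFour

open Cfsg.Agent.SporadicA.FieldFour
open Cfsg.Agent.LThreeFour

/-- the nontrivial homomorphism from the group of order 2 to the signs -/
def sgn : Multiplicative (ZMod 2) →* ℤˣ where
  toFun x := if x = 1 then 1 else -1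
  map_one' := rfl
  map_mul' := by decide

theorem sgn_ne : ∀ x : Multiplicative (ZMod 2), x ≠ 1 → sgn x = -1 := by decide

theorem sign_L0 {L : Type*} [Group L] (A : Dat L) (α : MulAut L) (h2 : α * α = 1)
    (ho : ∀ l, α ≠ MulAut.conj l) :
    ∃ f : MulAut L →* ℤˣ, (∀ l, f (MulAut.conj l) = 1) ∧ f α = -1 := by
  have h1 : A.tyHom α ≠ 1 := by
    intro h
    obtain ⟨l, hl⟩ := A.inner_iff.mp h
    exact ho l hl
  have h3 : A.tyHom α * A.tyHom α = 1 := by rw [← map_mul, h2, map_one]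
  have h4 : bitsHom (A.tyHom α) ≠ 1 := fun h => h1 (bitsHom_inj _ h h3)
  by_cases h5 : (bitsHom (A.tyHom α)).1 = 1
  · have h6 : (bitsHom (A.tyHom α)).2 ≠ 1 := fun h => h4 (Prod.ext h5 h)
    refine ⟨sgn.comp ((MonoidHom.snd _ _).comp (bitsHom.comp A.tyHom)), fun l => ?_, sgn_ne _ h6⟩
    simp only [MonoidHom.comp_apply, A.tyHom_conj, map_one]
  · refine ⟨sgn.comp ((MonoidHom.fst _ _).comp (bitsHom.comp A.tyHom)), fun l => ?_, sgn_ne _ h5⟩
    simp only [MonoidHom.comp_apply, A.tyHom_conj, map_one]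

/-- The row `L3(4)`. -/
theorem sign {X : Type*} [Group X] {F : Type*} [Field F] [Fintype F] (hF : Fintype.card F = 4)
    (e : X ≃* Matrix.ProjectiveSpecialLinearGroup (Fin 3) F) (α : MulAut X) (h2 : α * α = 1)
    (ho : ∀ l, α ≠ MulAut.conj l) :
    ∃ f : MulAut X →* ℤˣ, (∀ l, f (MulAut.conj l) = 1) ∧ f α = -1 := by
  obtain ⟨e'⟩ := nonempty_psl_equiv (n := Fin 3) F hF
  let g : X ≃* Cfsg.Agent.ONType.Psl.PSL3 := e.trans e'.symm
  let Φ : MulAut X ≃* MulAut Cfsg.Agent.ONType.Psl.PSL3 := MulAut.congr g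
  have hΦ : ∀ x, Φ (MulAut.conj x) = MulAut.conj (g x) := by
    intro x
    ext y
    change g (MulAut.conj x (g.symm y)) = MulAut.conj (g x) y
    rw [MulAut.conj_apply, MulAut.conj_apply, map_mul, map_mul, map_inv, g.apply_symm_apply]
  obtain ⟨f, h3, h4⟩ := sign_L0 datPSL (Φ α) (by rw [← map_mul, h2, map_one]) (by
    intro l hl
    apply ho (g.symm l)
    apply Φ.injective
    rw [hl, hΦ, g.apply_symm_apply])
  refine ⟨f.comp Φ.toMonoidHom, fun l => ?_, h4⟩
  change f (Φ (MulAut.conj l)) = 1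
  rw [hΦ, h3]

/-- The row `L3(4)` in the form of `Iface17`. -/
theorem outSign {X : Type*} [Group X] {F : Type*} [Field F] [Fintype F] (hF : Fintype.card F = 4)
    (e : X ≃* Matrix.ProjectiveSpecialLinearGroup (Fin 3) F) : OutSign X :=
  fun α h2 ho => sign hF e α h2 ho

end Cfsg.Agent.OddHalf.Table.OutLThreeFour
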