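import Cfsg.Agent.OddHalf.Table.OutIndex
import Cfsg.Agent.S0817
import Cfsg.Agent.S0296

/-!
Row `O8+(2)` of TABLE-17: `|Out| = 6`, so outer involutory automorphisms are detected by a sign.
-/

set_option autoImplicit false

namespace Cfsg.Agent.OddHalf.Table.OutOEight

open Subgroup Cfsg

variable {F : Type*} [Field F] [Fintype F]

theorem card_aut (hF : Fintype.card F = 2) :
    Nat.card (MulAut (POmega F (quadFormPlus 4 F))) = 6 * Nat.card (POmega F (quadFormPlus 4 F)) := by
  have : Fact (Nat.Prime 2) := ⟨Nat.prime_two⟩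
  have h := Cfsg.Agent.S0817.result (F := F) 2 1 le_rfl (by rw [hF, pow_one]) 4 le_rfl
  rw [h]
  simp

/-- **Row O8+(2).** -/
theorem outSign_O8 (hF : Fintype.card F = 2) {X : Type*} [Group X]
    (e : X ≃* POmega F (quadFormPlus 4 F)) : OutSign X := by
  have : IsSimpleGroup (POmega F (quadFormPlus 4 F)) := Cfsg.Agent.S0296.result 4 le_rfl
  exact OutSign.of_equiv e.symm
    (OutIndex.outSign_of_card_simple (card_aut hF) (by norm_num) (by norm_num))

end Cfsg.Agent.OddHalf.Table.OutOEight
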