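import Cfsg.Agent.OddHalf.Table.OutIndex
import Cfsg.Agent.TwoESix.SheetD

/-!
# `OutSign` for `²E₆(2)` (TABLE-17 of S1765)

`|Out| ∣ 6` is `SheetD.index_out` (helper883); `4 ∤ 6`.
-/

set_option autoImplicit false

namespace Cfsg.Agent.OddHalf.Table.OutTwESix

open Cfsg.Lie Cfsg.Agent.TwoESix

universe u

/-- **`²E₆(2)`.** -/
theorem outSign_twE6 (K : Type u) [Field K] (hK : Nat.card K = 4) : OutSign ↥(twistedE6 K 2) := by
  have hfin : Finite K := Nat.finite_of_card_ne_zero (by rw [hK]; norm_num)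
  have := Fintype.ofFinite K
  obtain ⟨-, φ, F⟩ := LeviA.exists_four K (by rw [← Nat.card_eq_fintype_card, hK])
  have h := SheetD.index_out F
  have h0 : (MulAut.conj : ↥(twistedE6 K 2) →* MulAut ↥(twistedE6 K 2)).range.index ≠ 0 := by
    intro h0
    rw [h0] at h
    exact absurd (Nat.eq_zero_of_zero_dvd h) (by norm_num)
  exact OutIndex.outSign_of_not_four_dvd h0 (fun h4 => absurd (h4.trans h) (by norm_num))

end Cfsg.Agent.OddHalf.Table.OutTwESix
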