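import Cfsg.Agent.OddHalf.Table.RowsOf
import Cfsg.Agent.OddHalf.Table.OutLThreeFour
import Cfsg.Agent.OddHalf.Table.OutUSix
import Cfsg.Agent.OddHalf.Table.OutSpSix
import Cfsg.Agent.OddHalf.Table.OutOEight
import Cfsg.Agent.OddHalf.Table.OutGTwoFour
import Cfsg.Agent.OddHalf.Table.OutChevTwo
import Cfsg.Agent.OddHalf.Table.OutTwESix
import Cfsg.Agent.OddHalf.Table.OutMTwelve
import Cfsg.Agent.OddHalf.Table.OutJTwo
import Cfsg.Agent.OddHalf.Table.OutHS
import Cfsg.Agent.OddHalf.Table.OutSuz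
import Cfsg.Agent.OddHalf.Table.OutRu
import Cfsg.Agent.OddHalf.Table.OutFi22
import Cfsg.Agent.OddHalf.Table.OutCo1
import Cfsg.Agent.OddHalf.Table.OutB
import Cfsg.Agent.OddHalf.Table.OutMTwentyTwo
import Cfsg.Agent.KFacts.CoTwo.Main
import Cfsg.Agent.BM.KHAll

/-!
# `CaseM.SignRows`, all rows plugged in

`given`: the rows `OutSign X` for the 17 quotients `X` with even Schur multiplier. `signRows`: the table in the form in
which it is used.
-/

set_option autoImplicit false

namespace Cfsg.Agent.OddHalf.Table.SignAll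

open Cfsg Cfsg.Agent.OddHalf.Table

universe u

/-- **all rows** -/
theorem given : RowsOf.Given.{u} where
  l34 := fun _ _ _ _ _ hF e => OutLThreeFour.outSign hF e
  u62 := fun _ _ _ _ _ hF e => OutUSix.outSign_USix hF e
  sp62 := fun _ _ _ _ _ hF e => OutSpSix.outSign_Sp6 hF e
  o82 := fun _ _ _ _ _ hF e => OutOEight.outSign_O8 hF e
  g24 := fun F _ hF => OutGTwoFour.outSign_G24 F hF
  f42 := fun F _ hF => OutChevTwo.outSign_F42 F hF
  e62 := fun F _ hF => OutTwESix.outSign_twE6 F hF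
  m12 := fun _ _ e => OutMTwelve.outSign_M12 e
  j2 := fun _ _ e => OutJTwo.outSign e
  hs := fun _ _ e => OutHS.outSign_HS e
  suz := fun _ _ e => OutSuz.outSign_Suz e
  ru := fun _ _ e => OutRu.outSign_Ru e
  fi22 := fun _ _ e => OutFi22.outSign_Fi22 e
  co1 := fun _ _ e => OutCo1.outSign_of ⟨e⟩
  b := fun _ _ e => by
    have : IsSimpleGroup Spor.BabyMonster := Cfsg.Agent.BM.KHAll.isB.1
    exact OutSign.of_equiv e.symm
      (Cfsg.Agent.KFacts.OutBaby.outSign_of_noOut2 (OutB.noOut2 Cfsg.Agent.KFacts.CoTwo.Main.noOut2))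
  m22 := fun _ _ e => OutMTwentyTwo.outSign_M22 e

/-- **the table of signs** -/
theorem signRows : CaseM.SignRows.{u} := RowsOf.signRows_of given

end Cfsg.Agent.OddHalf.Table.SignAll
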