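import Cfsg.Agent.SporadicA.PermTab

/-!
Centralisers of permutations in the automorphism group of a graph, by adjacency signatures.

`p` is an automorphism of the graph `A` given by the table `P`, `b` a point. An automorphism `c` which commutes with `p`
moves `b` to a point with the same signature: the adjacencies between `b` and `p ^ j b`. If the points with this
signature are the images of `b` under the elements `p ^ i w`, `w ∈ seeds`, and only `1` commutes with `p` and fixes `b`,
then `c` is one of these elements.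
-/

set_option autoImplicit false

namespace Cfsg.Agent.OddHalf.Table.CentTab

open Equiv Cfsg.Agent.SporadicA.PermTab

noncomputable section

/-- `P ^ k` applied to `v` -/
def itN (P k v : ℕ) : ℕ := Nat.rec v (fun _ ih => lk P ih) k

theorem itN_succ (P k v : ℕ) : itN P (k + 1) v = lk P (itN P k v) := rfl

theorem itN_val {n : ℕ} {p : Perm (Fin n)} {P : ℕ} (hp : ∀ i : Fin n, (p i : ℕ) = lk P i) (k : ℕ) (v : Fin n) :
    (((p ^ k) v : Fin n) : ℕ) = itN P k v := by
  induction k with
  | zero => rfl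
  | succ k ih => rw [pow_succ', Perm.mul_apply, hp, ih, itN_succ]

/-- the code of the pair `v`, `P ^ j v` -/
def code (n A P v j : ℕ) : ℕ :=
  cond (Nat.beq v (itN P j v)) 2 (bitM n A v (itN P j v))

/-- `v` has the signature of `b` -/
def sigB (n A P b J v : ℕ) : Bool :=
  allB (fun j => Nat.beq (code n A P v (Nat.succ j)) (code n A P b (Nat.succ j))) J

/-- `v` is `P ^ i l` for some `i < M` -/
def inOrb (P M l v : ℕ) : Bool :=
  Nat.rec false (fun i ih => cond (Nat.beq (itN P i l) v) true ih) M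

theorem inOrb_spec {P M l v : ℕ} (h : inOrb P M l v = true) : ∃ i, itN P i l = v := by
  induction M with
  | zero => exact absurd h (by simp [inOrb])
  | succ M ih =>
    have h1 : inOrb P (M + 1) l v = cond (Nat.beq (itN P M l) v) true (inOrb P M l v) := rfl
    rw [h1] at h
    cases h2 : Nat.beq (itN P M l) v with
    | true => exact ⟨M, Nat.eq_of_beq_eq_true h2⟩
    | false =>
      rw [h2] at h
      exact ih h

/-- `v` is in the orbit of one of the points of the list -/
def inOrbs (P M : ℕ) (L : List ℕ) (v : ℕ) : Bool :=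
  List.rec false (fun l _ ih => cond (inOrb P M l v) true ih) L

theorem inOrbs_spec {P M v : ℕ} {L : List ℕ} (h : inOrbs P M L v = true) : ∃ l ∈ L, ∃ i, itN P i l = v := by
  induction L with
  | nil => exact absurd h (by simp [inOrbs])
  | cons l L ih =>
    have h1 : inOrbs P M (l :: L) v = cond (inOrb P M l v) true (inOrbs P M L v) := rfl
    rw [h1] at h
    cases h2 : inOrb P M l v with
    | true =>
      obtain ⟨i, hi⟩ := inOrb_spec h2
      exact ⟨l, List.mem_cons_self, i, hi⟩
    | false =>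
      rw [h2] at h
      obtain ⟨l', hl', h3⟩ := ih h
      exact ⟨l', List.mem_cons_of_mem _ hl', h3⟩

/-- all points with the signature of `b` are in the given orbits -/
def chkSig (n A P b J M : ℕ) (L : List ℕ) : Bool :=
  allB (fun v => cond (sigB n A P b J v) (inOrbs P M L v) true) n

variable {n A : ℕ} {p : Perm (Fin n)} {P : ℕ}

theorem sigB_of_comm (hp : ∀ i : Fin n, (p i : ℕ) = lk P i) {c : Perm (Fin n)} (hc : c ∈ autG n A)
    (hcp : c * p = p * c) (b : Fin n) (J : ℕ) : sigB n A P b J (c b) = true := by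
  unfold sigB
  rw [allB_iff]
  intro j _
  have h1 : ∀ k : ℕ, (p ^ k) (c b) = c ((p ^ k) b) := by
    intro k
    have h2 : c * p ^ k = p ^ k * c := (show Commute c p from hcp).pow_right k
    exact (congrArg (fun g : Perm (Fin n) => g b) h2).symm
  have h3 : itN P (Nat.succ j) (c b) = ((c ((p ^ (j + 1)) b) : Fin n) : ℕ) := by
    rw [← itN_val hp, h1]
  have h4 : itN P (Nat.succ j) b = (((p ^ (j + 1)) b : Fin n) : ℕ) := (itN_val hp _ _).symm
  have h5 : code n A P (c b) (Nat.succ j) = code n A P b (Nat.succ j) := by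
    unfold code
    rw [h3, h4]
    have h6 : Nat.beq ((c b : Fin n) : ℕ) ((c ((p ^ (j + 1)) b) : Fin n) : ℕ) =
        Nat.beq (b : ℕ) (((p ^ (j + 1)) b : Fin n) : ℕ) := by
      cases h7 : Nat.beq (b : ℕ) (((p ^ (j + 1)) b : Fin n) : ℕ) with
      | true =>
        have h8 : b = (p ^ (j + 1)) b := Fin.ext (Nat.eq_of_beq_eq_true h7)
        rw [← h8]
        exact Nat.beq_refl _
      | false =>
        have h8 := Nat.ne_of_beq_eq_false h7
        apply Bool.eq_false_iff.2
        intro h9
        apply h8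
        have h10 := Nat.eq_of_beq_eq_true h9
        exact congrArg Fin.val (c.injective (Fin.ext h10))
    rw [h6]
    have h7 := hc b ((p ^ (j + 1)) b)
    rw [h7]
  rw [h5]
  exact Nat.beq_refl _

/-- The centraliser of `p` in the automorphism group. -/
theorem cent_of_check (hp : ∀ i : Fin n, (p i : ℕ) = lk P i) (hpA : p ∈ autG n A) (b : Fin n) {J M : ℕ}
    (seeds : List (Perm (Fin n))) (hs : ∀ w ∈ seeds, w ∈ autG n A ∧ w * p = p * w) {L : List ℕ}
    (hL : ∀ l ∈ L, ∃ w ∈ seeds, ((w b : Fin n) : ℕ) = l) (chk : chkSig n A P b J M L = true)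
    (htriv : ∀ c ∈ autG n A, c * p = p * c → c b = b → c = 1)
    {c : Perm (Fin n)} (hc : c ∈ autG n A) (hcp : c * p = p * c) : ∃ w ∈ seeds, ∃ i : ℕ, c = p ^ i * w := by
  have h1 := (allB_iff _ _).1 chk (c b) (c b).2
  rw [sigB_of_comm hp hc hcp b J] at h1
  obtain ⟨l, hl, i, hi⟩ := inOrbs_spec h1
  obtain ⟨w, hw, hwl⟩ := hL l hl
  refine ⟨w, hw, i, ?_⟩
  have h2 : (p ^ i * w) b = c b := by
    apply Fin.ext
    rw [Perm.mul_apply, itN_val hp, hwl, hi]
  have h3 : (p ^ i * w)⁻¹ * c = 1 := by
    apply htriv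
    · exact mul_mem (inv_mem (mul_mem (pow_mem hpA i) (hs w hw).1)) hc
    · have e1 : Commute (p ^ i * w) p := (Commute.pow_self p i).mul_left (hs w hw).2
      exact (e1.inv_left.mul_left hcp)
    · rw [Perm.mul_apply, ← h2, Perm.inv_eq_iff_eq]
  exact (inv_mul_eq_one.1 h3).symm

/-! ### Emptiness patterns -/

/-- the common neighbours of the points `P ^ i v`, `i ∈ I` -/
def cmn (n A P : ℕ) (I : List ℕ) (v : ℕ) : ℕ :=
  List.rec (Nat.sub (Nat.pow 2 n) 1) (fun i _ ih => Nat.land (rowM n A (itN P i v)) ih) I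

theorem testBit_cmn (n A P : ℕ) (I : List ℕ) (v k : ℕ) :
    (cmn n A P I v).testBit k = true ↔ k < n ∧ ∀ i ∈ I, A.testBit (n * itN P i v + k) = true := by
  induction I with
  | nil =>
    change (2 ^ n - 1).testBit k = true ↔ _
    rw [Nat.testBit_two_pow_sub_one]
    simp
  | cons i I ih =>
    change (rowM n A (itN P i v) &&& cmn n A P I v).testBit k = true ↔ _
    rw [Nat.testBit_and, Bool.and_eq_true, ih, testBit_rowM, Bool.and_eq_true, decide_eq_true_eq]
    simp only [List.forall_mem_cons]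
    tauto

/-- there are no common neighbours -/
def emp (n A P : ℕ) (I : List ℕ) (v : ℕ) : Bool := Nat.beq (cmn n A P I v) 0

theorem emp_false_iff (n A P : ℕ) (I : List ℕ) (v : ℕ) :
    emp n A P I v = false ↔ ∃ k < n, ∀ i ∈ I, A.testBit (n * itN P i v + k) = true := by
  have h0 : emp n A P I v = true ↔ cmn n A P I v = 0 := by
    unfold emp
    exact ⟨Nat.eq_of_beq_eq_true, fun h => by rw [h]; rfl⟩
  rw [← Bool.not_eq_true, h0]
  constructor
  · intro h
    obtain ⟨k, hk⟩ := Nat.exists_testBit_of_ne_zero h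
    obtain ⟨h1, h2⟩ := (testBit_cmn n A P I v k).1 hk
    exact ⟨k, h1, h2⟩
  · rintro ⟨k, h1, h2⟩ h
    have h3 := (testBit_cmn n A P I v k).2 ⟨h1, h2⟩
    rw [h, Nat.zero_testBit] at h3
    exact absurd h3 (by decide)

theorem emp_mono (hp : ∀ i : Fin n, (p i : ℕ) = lk P i) {c : Perm (Fin n)} (hc : c ∈ autG n A)
    (hcp : c * p = p * c) (I : List ℕ) (v : Fin n) (h : emp n A P I v = false) : emp n A P I (c v) = false := by
  rw [emp_false_iff] at h ⊢
  obtain ⟨k, hk, h1⟩ := h
  refine ⟨c ⟨k, hk⟩, (c ⟨k, hk⟩).2, fun i hi => ?_⟩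
  have h2 : itN P i (c v) = ((c ((p ^ i) v) : Fin n) : ℕ) := by
    rw [← itN_val hp]
    have h3 : c * p ^ i = p ^ i * c := (show Commute c p from hcp).pow_right i
    exact congrArg (fun g : Perm (Fin n) => ((g v : Fin n) : ℕ)) h3.symm
  have h4 := hc ((p ^ i) v) ⟨k, hk⟩
  rw [bitM_eq_iff] at h4
  rw [h2, h4, itN_val hp]
  exact h1 i hi

theorem emp_comm (hp : ∀ i : Fin n, (p i : ℕ) = lk P i) {c : Perm (Fin n)} (hc : c ∈ autG n A)
    (hcp : c * p = p * c) (I : List ℕ) (v : Fin n) : emp n A P I (c v) = emp n A P I v := by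
  cases h : emp n A P I v with
  | false => exact emp_mono hp hc hcp I v h
  | true =>
    cases h1 : emp n A P I (c v) with
    | true => rfl
    | false =>
      have h2 := emp_mono hp (inv_mem hc) (show Commute c p from hcp).inv_left I (c v) h1
      have h3 : c⁻¹ (c v) = v := by rw [Perm.inv_eq_iff_eq]
      rw [h3, h] at h2
      exact absurd h2 (by decide)

/-- equality of Booleans -/
def eqB (x y : Bool) : Bool := Bool.rec (Bool.rec true false y) y x

theorem eqB_self (x : Bool) : eqB x x = true := by cases x <;> rfl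

/-- `v` and `b` have the same patterns -/
def patB (n A P b : ℕ) (PL : List (List ℕ)) (v : ℕ) : Bool :=
  List.rec true (fun I _ ih => band (eqB (emp n A P I v) (emp n A P I b)) ih) PL

theorem patB_comm (hp : ∀ i : Fin n, (p i : ℕ) = lk P i) {c : Perm (Fin n)} (hc : c ∈ autG n A)
    (hcp : c * p = p * c) (b : Fin n) (PL : List (List ℕ)) : patB n A P b PL (c b) = true := by
  induction PL with
  | nil => rfl
  | cons I PL ih =>
    change band (eqB (emp n A P I (c b)) (emp n A P I b)) (patB n A P b PL (c b)) = true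
    rw [ih, emp_comm hp hc hcp, eqB_self]
    rfl

/-- all points with the signature and the patterns of `b` are in the given orbits -/
def chkPat (n A P b J M : ℕ) (PL : List (List ℕ)) (L : List ℕ) : Bool :=
  allB (fun v => cond (sigB n A P b J v) (cond (patB n A P b PL v) (inOrbs P M L v) true) true) n

/-- The centraliser of `p` in the automorphism group, with patterns. -/
theorem cent_of_pat (hp : ∀ i : Fin n, (p i : ℕ) = lk P i) (hpA : p ∈ autG n A) (b : Fin n) {J M : ℕ}
    {PL : List (List ℕ)}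
    (seeds : List (Perm (Fin n))) (hs : ∀ w ∈ seeds, w ∈ autG n A ∧ w * p = p * w) {L : List ℕ}
    (hL : ∀ l ∈ L, ∃ w ∈ seeds, ((w b : Fin n) : ℕ) = l) (chk : chkPat n A P b J M PL L = true)
    (htriv : ∀ c ∈ autG n A, c * p = p * c → c b = b → c = 1)
    {c : Perm (Fin n)} (hc : c ∈ autG n A) (hcp : c * p = p * c) : ∃ w ∈ seeds, ∃ i : ℕ, c = p ^ i * w := by
  have h1 := (allB_iff _ _).1 chk (c b) (c b).2
  rw [sigB_of_comm hp hc hcp b J, patB_comm hp hc hcp b PL] at h1
  obtain ⟨l, hl, i, hi⟩ := inOrbs_spec h1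
  obtain ⟨w, hw, hwl⟩ := hL l hl
  refine ⟨w, hw, i, ?_⟩
  have h2 : (p ^ i * w) b = c b := by
    apply Fin.ext
    rw [Perm.mul_apply, itN_val hp, hwl, hi]
  have h3 : (p ^ i * w)⁻¹ * c = 1 := by
    apply htriv
    · exact mul_mem (inv_mem (mul_mem (pow_mem hpA i) (hs w hw).1)) hc
    · have e1 : Commute (p ^ i * w) p := (Commute.pow_self p i).mul_left (hs w hw).2
      exact (e1.inv_left.mul_left hcp)
    · rw [Perm.mul_apply, ← h2, Perm.inv_eq_iff_eq]
  exact (inv_mul_eq_one.1 h3).symm

/-- The first `M` points of the orbit -/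
def orbL (P M b : ℕ) : List ℕ := Nat.rec [] (fun i ih => itN P i b :: ih) M

theorem mem_orbL {P M b f : ℕ} (h : f ∈ orbL P M b) : ∃ i, f = itN P i b := by
  induction M with
  | zero => exact absurd h List.not_mem_nil
  | succ M ih =>
    rcases List.mem_cons.1 h with h1 | h1
    · exact ⟨M, h1⟩
    · exact ih h1

/-- Only the identity commutes with `p` and fixes `b`. -/
theorem triv_of_chain (hp : ∀ i : Fin n, (p i : ℕ) = lk P i) (b : Fin n) {M : ℕ} {bs : List (ℕ × ℕ)} {R O : ℕ}
    (hch : chainB n A (orbL P M b) bs = true) (hd : chkDist n A (maskL (lastF (orbL P M b) bs)) R O = true)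
    (h1 : prodC bs = 1) : ∀ c ∈ autG n A, c * p = p * c → c b = b → c = 1 := by
  intro c hc hcp hcb
  let H : Subgroup (Perm (Fin n)) := autG n A ⊓ Subgroup.centralizer {p} ⊓ MulAction.stabilizer (Perm (Fin n)) b
  have hH : H ≤ autG n A := inf_le_left.trans inf_le_left
  have hF : FixL H (orbL P M b) := by
    intro f hf
    obtain ⟨i, rfl⟩ := mem_orbL hf
    refine ⟨?_, ?_⟩
    · rw [← itN_val hp]; exact Fin.is_lt _
    · intro g hg j hj
      have h2 : j = (p ^ i) b := Fin.ext (by rw [hj, itN_val hp])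
      have h3 : g * p = p * g := (Subgroup.mem_centralizer_singleton_iff.1 hg.1.2)
      have h4 : g * p ^ i = p ^ i * g := (show Commute g p from h3).pow_right i
      have h5 : g b = b := hg.2
      rw [h2]
      calc g ((p ^ i) b) = (g * p ^ i) b := rfl
        _ = (p ^ i) (g b) := by rw [h4]; rfl
        _ = (p ^ i) b := by rw [h5]
  have h2 := card_le_of_chain bs (orbL P M b) H hH hF hch (fun g hg h => eq_one_of_dist hd g hg h)
  rw [h1] at h2
  have h3 : H = ⊥ := Subgroup.eq_bot_of_card_le H h2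
  have h4 : c ∈ H := ⟨⟨hc, Subgroup.mem_centralizer_singleton_iff.2 hcp⟩, hcb⟩
  rw [h3] at h4
  exact Subgroup.mem_bot.1 h4

/-! ### Words -/

/-- the permutation of a word -/
def pw (gen : ℕ → Perm (Fin n)) (L : List ℕ) : Perm (Fin n) := (L.map gen).prod

/-- the image of a point under a word (the last letter acts first) -/
def run (tab : ℕ → ℕ) (L : List ℕ) (j : ℕ) : ℕ := List.rec j (fun k _ ih => lk (tab k) ih) L

/-- check that two words agree -/
def chkW (n : ℕ) (tab : ℕ → ℕ) (L M : List ℕ) : Bool := allB (fun i => Nat.beq (run tab L i) (run tab M i)) n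

variable {gen : ℕ → Perm (Fin n)} {tab : ℕ → ℕ}

theorem pw_nil : pw gen [] = 1 := rfl

theorem pw_cons (k : ℕ) (L : List ℕ) : pw gen (k :: L) = gen k * pw gen L := by
  unfold pw; rw [List.map_cons, List.prod_cons]

theorem pw_append (L M : List ℕ) : pw gen (L ++ M) = pw gen L * pw gen M := by
  unfold pw; rw [List.map_append, List.prod_append]

theorem pw_val (hgt : ∀ k : ℕ, ∀ i : Fin n, ((gen k i : Fin n) : ℕ) = lk (tab k) i) (L : List ℕ) (i : Fin n) :
    ((pw gen L i : Fin n) : ℕ) = run tab L i := by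
  induction L with
  | nil => rfl
  | cons k L ih =>
    rw [pw_cons, Perm.mul_apply, hgt, ih]; rfl

theorem pw_eq (hgt : ∀ k : ℕ, ∀ i : Fin n, ((gen k i : Fin n) : ℕ) = lk (tab k) i) {L M : List ℕ}
    (h : chkW n tab L M = true) : pw gen L = pw gen M := by
  ext i
  rw [pw_val hgt, pw_val hgt]
  exact Nat.eq_of_beq_eq_true ((allB_iff _ _).1 h i i.2)

theorem pw_mem {G : Subgroup (Perm (Fin n))} {L : List ℕ} (h : ∀ k ∈ L, gen k ∈ G) : pw gen L ∈ G := by
  induction L with
  | nil => exact one_mem _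
  | cons k L ih =>
    rw [pw_cons]
    exact mul_mem (h k List.mem_cons_self) (ih fun l hl => h l (List.mem_cons_of_mem _ hl))

/-- all letters are smaller than `m` -/
def ltB (m : ℕ) (L : List ℕ) : Bool := List.rec true (fun k _ ih => band (Nat.blt k m) ih) L

theorem ltB_iff {m : ℕ} {L : List ℕ} (h : ltB m L = true) : ∀ k ∈ L, k < m := by
  induction L with
  | nil => exact fun k hk => absurd hk List.not_mem_nil
  | cons l L ih =>
    have h1 : ltB m (l :: L) = band (Nat.blt l m) (ltB m L) := rfl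
    rw [h1, band_eq_true] at h
    intro k hk
    rcases List.mem_cons.1 hk with h2 | h2
    · subst h2; exact Nat.blt_eq ▸ h.1
    · exact ih h.2 k h2

/-- all letters are at least `m` and smaller than `m'` -/
def rgB (m m' : ℕ) (L : List ℕ) : Bool := List.rec true (fun k _ ih => band (Nat.blt k m') (band (Nat.ble m k) ih)) L

theorem rgB_iff {m m' : ℕ} {L : List ℕ} (h : rgB m m' L = true) : ∀ k ∈ L, m ≤ k ∧ k < m' := by
  induction L with
  | nil => exact fun k hk => absurd hk List.not_mem_nil
  | cons l L ih =>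
    have h1 : rgB m m' (l :: L) = band (Nat.blt l m') (band (Nat.ble m l) (rgB m m' L)) := rfl
    rw [h1, band_eq_true, band_eq_true] at h
    intro k hk
    rcases List.mem_cons.1 hk with h2 | h2
    · subst h2; exact ⟨Nat.le_of_ble_eq_true h.2.1, Nat.blt_eq ▸ h.1⟩
    · exact ih h.2.2 k h2

/-- `y` is not a power of `p` since `y b` is not in the orbit of `b`. -/
theorem ne_pow (hp : ∀ i : Fin n, (p i : ℕ) = lk P i) {M : ℕ} (hM : p ^ M = 1) (hM0 : 0 < M) {y : Perm (Fin n)}
    (b : Fin n) (h : inOrb P M b (y b) = false) (i : ℕ) : y ≠ p ^ i := by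
  intro hy
  have h1 : y = p ^ (i % M) := by
    rw [hy]
    conv_lhs => rw [← Nat.div_add_mod i M, pow_add, pow_mul, hM, one_pow, one_mul]
  have h2 : ∀ k l v : ℕ, ∀ m, k < m → itN P k l = v → inOrb P m l v = true := by
    intro k l v m hkm hk
    induction m with
    | zero => omega
    | succ m ih =>
      have h3 : inOrb P (m + 1) l v = cond (Nat.beq (itN P m l) v) true (inOrb P m l v) := rfl
      rw [h3]
      rcases Nat.lt_succ_iff_lt_or_eq.1 hkm with h4 | h4
      · rw [ih h4]; cases Nat.beq (itN P m l) v <;> rfl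
      · subst h4
        rw [hk, Nat.beq_refl]; rfl
  have h3 := h2 (i % M) b (y b) M (Nat.mod_lt _ hM0) (by rw [h1, itN_val hp])
  rw [h] at h3
  exact absurd h3 (by decide)

end

end Cfsg.Agent.OddHalf.Table.CentTab
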