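import Mathlib

set_option autoImplicit false

/-!
Data for the automorphisms of the Hall-Janko group on 100 points: tables (11 bits per entry) of an element `x` of order 7,
an element `f` of order 6 with `f x f⁻¹ = x ^ 3`, an involution `y` commuting with `f`, an odd automorphism `t` of the
graph commuting with `x` and `f`; certificates. Nothing is proved here.
-/

namespace Cfsg.Agent.OddHalf.Table.J2OutData

/-- the element `x` of order 7 -/
def tX : Nat := 0x520d02585b0a21642f8370660e03182a0a61400b05409c16807820074108290490bc120090280280b82b0610600f40981005a1701f83909a1880f00a03e0441a84704609c0e81702a0682b86008a0b02203e0560bc230190b013c0c0320940942e84001c0f00605504806c0e0220040180000900801c05805010004130030421042183106c1301d80d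

/-- its inverse -/
def tXi : Nat := 0xb20e82202c0ba12c0e83e0c01482f02305a1140c0540ae1342f85604414c1d8020c207c2604a0680941582900a1380301c07a0a02101a00213c1e05a0b800c1a8620b60800204304c1181f82a04e160318480640240f0170660500385006e0e41881502c0b812021060154178470821241b0400a206c0001901a0e00800b01c0480600f01004c05011

/-- the element `f` of order 6 -/
def tF : Nat := 0x2c0f00700d07406c0a04500611010811062168260350be16423801072010308280301401b82703408c1d85505e1742501703a0c80782a0c61182d85e04015c2a025000028110400860b02883607002c0385609a0643001c0100b824852056160310050040cc0484104c0181201e07c1202100c09e0482701507e0a4180530261700803407a07c2582d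

/-- its inverse -/
def tFi : Nat := 0x76074268250a60e0210060721582901e06c0a0220350100801684a01e03413855002104108120a20e82e05a05e0440c03001604c0186208a17c2782b0920b02a0040340f82b8090860880002e03e0f00504c09005c1a01508c0c42c8370040501f8240bc11c1304b08018c0605d00e0382c00507a184300100540c80c8230520580e04e0b606c28033

/-- the involution `y` -/
def tY : Nat := 0x261602d0360300700580a0421841c86201a1340902f09613c0b8230a40c42b0480a61180184c04c1281480e06a0a81d02d0280581b81100e1042c82407a1802182e012018270000a80d02002502a1082282705011c160380a00102d80f0180740f05e00a0640d05f0a20f81583f0c61541e0020401102b81f0ba170198010760c80d82209204004030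

/-- the odd involution -/
def tU : Nat := 0x900d82e05d0b607c300610be04c2500407801c19035072104198210100780300a06e164008630000f40703e0860942904005c1102305702400c298020961882a0110a21541503005e0fc0d01d0360c41402902c0982102401e02c280180bc1381601c0560b40c82002e09c0a80d0b40ec1a0100461140a00c0441300484f0ac134028580740e024847

/-- ranks for `x` -/
def rX : Nat := 0x7c088190380121441084902e078178440a60d8128030940340301406a020230410aa17c0d83307210c2e020034164210540680603104b0201380081c01c03c2782305a1801203b00a02c0a84c0ae0c00903f0c60980985004e1782283105c16c0f82c02c0ac0502a09a0a42383d0040103084006e0740385a0900a01d0520180640883c0b00002e856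

/-- order for `x` -/
def oX : Nat := 0x4e0f4088320940880084503c03021003056000258400ae0202f02406a0e80b82c07814c2e00b02a1341085808c1042601005018c0a0040600242386001e1582783f0901841002a0b207c1981c0340600b00a0460982a8310681882e84403a1680703809210c0303e0b606c1685004a0a40283b06c0dc2900705c0642f84e01a144178120a804c1c802

/-- ranks for `f` -/
def rF : Nat := 0xc1743102a0220480500405216423023030050098350361302f83b0160901b05a0960b8158600a6024000210a011c0701504e0c40802000210c0381c074148288450c613c2e01f0660942b05e0500c82001d0a80780783d0060f0068260040e4268550840d00b0480b60201b82d03215c250440820f81c0300c205c2c02c05e014270490340301103f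

/-- order for `f` -/
def oF : Nat := 0x66184058480a20b03103102e1302d0090240b40e02708e0d81a8430640140e852096044020180841641a01007406c07829000038120220a00dc0f00d02a1342a01a05e0a81f00c00e1280a0080921802d82b07e0801704e0b00042203c060098140380a600c09857014064200560aa1782f83d04a1041080209e1742301607218c0305c04607c1d845

/-- chain for `x` -/
def bX : List (Nat × Nat) := [(41, 1), (80, 1), (4, 1), (1, 1), (5, 1)]

/-- chain for `f` -/
def bF : List (Nat × Nat) := [(5, 1), (16, 1), (2, 1), (7, 1), (0, 1)]

end Cfsg.Agent.OddHalf.Table.J2OutData
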