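import Cfsg.Agent.OddHalf.Table.CycNorm
import Cfsg.Agent.OddHalf.Table.CentTab
import Cfsg.Agent.OddHalf.Table.J2OutData
import Cfsg.Agent.SporadicA.J2Hundred
import Cfsg.Agent.J2.HundredGens
import Cfsg.Agent.S1619

/-!
`OutSign` for the Hall–Janko group: the outer automorphism group has order at most two.
-/

set_option autoImplicit false
set_option maxRecDepth 100000

namespace Cfsg.Agent.OddHalf.Table.OutJ2

open Equiv Cfsg.Agent.SporadicA.PermTab Cfsg.Agent.SporadicA.J2Data Cfsg.Agent.SporadicA.J2Hundred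
  Cfsg.Agent.OddHalf.Table.CentTab Cfsg.Agent.OddHalf.Table.J2OutData

theorem iX : chkInv 100 tX tXi = true := by decide +kernel
theorem iF : chkInv 100 tF tFi = true := by decide +kernel
theorem iY : chkInv 100 tY tY = true := by decide +kernel
theorem iU : chkInv 100 tU tU = true := by decide +kernel

/-- the generators and the new elements -/
noncomputable def gen (k : ℕ) : Perm (Fin 100) := match k with
  | 0 => pA
  | 1 => pB
  | 2 => pC
  | 3 => pD
  | 4 => pE
  | 5 => mkPerm tX tXi iX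
  | 6 => mkPerm tF tFi iF
  | 7 => mkPerm tY tY iY
  | _ => mkPerm tU tU iU

/-- the tables -/
def tab (k : ℕ) : ℕ := match k with
  | 0 => tA
  | 1 => tB
  | 2 => tC
  | 3 => tD
  | 4 => tE
  | 5 => tX
  | 6 => tF
  | 7 => tY
  | _ => tU

theorem gen_val (k : ℕ) (i : Fin 100) : ((gen k i : Fin 100) : ℕ) = lk (tab k) i := by
  match k with
  | 0 => exact mkPerm_val tA tA iA i
  | 1 => exact mkPerm_val tB tB iB i
  | 2 => exact mkPerm_val tC tC iC i
  | 3 => exact mkPerm_val tD tD iD i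
  | 4 => exact mkPerm_val tE tE iE i
  | 5 => exact mkPerm_val tX tXi iX i
  | 6 => exact mkPerm_val tF tFi iF i
  | 7 => exact mkPerm_val tY tY iY i
  | (n + 8) => exact mkPerm_val tU tU iU i

theorem gen_mem_lt (k : ℕ) (hk : k < 5) : gen k ∈ G := by
  match k with
  | 0 => exact mA
  | 1 => exact mB
  | 2 => exact mC
  | 3 => exact mD
  | 4 => exact mE
  | (n + 5) => omega

/-- words for `x`, `f`, `y` -/
def wX : List ℕ := [0, 1, 2, 1, 3, 2, 1, 3, 4]
def wF : List ℕ := [1, 0, 1, 2, 3, 2, 1, 0, 1, 0, 3, 4, 3, 2, 1, 3, 2, 3, 2, 1, 0]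
def wY : List ℕ := [0, 1, 0, 2, 1, 3, 2, 3, 2, 1, 0, 1, 4, 3, 2, 1, 3, 2, 1, 3, 4, 3, 2]

theorem eX : pw gen [5] = pw gen wX := pw_eq gen_val (by decide +kernel)
theorem eF : pw gen [6] = pw gen wF := pw_eq gen_val (by decide +kernel)
theorem eY : pw gen [7] = pw gen wY := pw_eq gen_val (by decide +kernel)

/-- the element of order 7 -/
noncomputable abbrev x : Perm (Fin 100) := gen 5
/-- the element of order 6 -/
noncomputable abbrev f : Perm (Fin 100) := gen 6
/-- the involution centralising `f` -/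
noncomputable abbrev y : Perm (Fin 100) := gen 7
/-- the odd involution centralising `x` and `f` -/
noncomputable abbrev u : Perm (Fin 100) := gen 8

theorem pw1 (k : ℕ) : pw gen [k] = gen k := by rw [pw_cons, pw_nil, mul_one]
theorem pw2 (k l : ℕ) : pw gen [k, l] = gen k * gen l := by rw [pw_cons, pw1]

theorem x_mem : x ∈ G := by
  have h : x = pw gen wX := (pw1 5).symm.trans eX
  rw [h]
  exact pw_mem fun k hk => gen_mem_lt k (ltB_iff (m := 5) (L := wX) (by decide +kernel) k hk)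
theorem f_mem : f ∈ G := by
  have h : f = pw gen wF := (pw1 6).symm.trans eF
  rw [h]
  exact pw_mem fun k hk => gen_mem_lt k (ltB_iff (m := 5) (L := wF) (by decide +kernel) k hk)
theorem y_mem : y ∈ G := by
  have h : y = pw gen wY := (pw1 7).symm.trans eY
  rw [h]
  exact pw_mem fun k hk => gen_mem_lt k (ltB_iff (m := 5) (L := wY) (by decide +kernel) k hk)

theorem u_mem : u ∈ autG 100 adj :=
  mkPerm_mem_autG iU (rowsOK_of_chk (chkInv_lt iU) (chkInv_inj iU) (by decide +kernel))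

theorem x7 : x ^ 7 = 1 := by
  have h := pw_eq gen_val (L := [5, 5, 5, 5, 5, 5, 5]) (M := []) (by decide +kernel)
  simpa only [pw_cons, pw_nil, mul_one, pow_succ, pow_zero, one_mul, mul_assoc] using h
theorem f6 : f ^ 6 = 1 := by
  have h := pw_eq gen_val (L := [6, 6, 6, 6, 6, 6]) (M := []) (by decide +kernel)
  simpa only [pw_cons, pw_nil, mul_one, pow_succ, pow_zero, one_mul, mul_assoc] using h
theorem y2 : y * y = 1 := by
  have h := pw_eq gen_val (L := [7, 7]) (M := []) (by decide +kernel)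
  rwa [pw2, pw_nil] at h
theorem u2 : u * u = 1 := by
  have h := pw_eq gen_val (L := [8, 8]) (M := []) (by decide +kernel)
  rwa [pw2, pw_nil] at h
theorem yf : y * f = f * y := by
  have h := pw_eq gen_val (L := [7, 6]) (M := [6, 7]) (by decide +kernel)
  rwa [pw2, pw2] at h
theorem ux : u * x = x * u := by
  have h := pw_eq gen_val (L := [8, 5]) (M := [5, 8]) (by decide +kernel)
  rwa [pw2, pw2] at h
theorem uf : u * f = f * u := by
  have h := pw_eq gen_val (L := [8, 6]) (M := [6, 8]) (by decide +kernel)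
  rwa [pw2, pw2] at h
theorem fx : f * x * f⁻¹ = x ^ 3 := by
  have h := pw_eq gen_val (L := [6, 5]) (M := [5, 5, 5, 6]) (by decide +kernel)
  rw [mul_inv_eq_iff_eq_mul]
  simpa only [pw_cons, pw_nil, mul_one, pow_succ, pow_zero, one_mul, mul_assoc] using h

theorem ne_of_val {a b : Perm (Fin 100)} (i : Fin 100) (h : ((a i : Fin 100) : ℕ) ≠ (b i : Fin 100)) : a ≠ b := by
  rintro rfl; exact h rfl

theorem x_ne : x ≠ 1 := ne_of_val 0 (by rw [gen_val]; decide +kernel)
theorem f2_ne : f ^ 2 ≠ 1 := by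
  rw [pow_two, ← pw2]
  exact ne_of_val 0 (by rw [pw_val gen_val]; decide +kernel)
theorem f3_ne : f ^ 3 ≠ 1 := by
  have h : f ^ 3 = pw gen [6, 6, 6] := by
    simp only [pw_cons, pw_nil, mul_one, pow_succ, pow_zero, one_mul, mul_assoc]
  rw [h]
  exact ne_of_val 0 (by rw [pw_val gen_val]; decide +kernel)

theorem order_x : orderOf x = 7 := by
  have : Fact (Nat.Prime 7) := ⟨by norm_num⟩
  exact orderOf_eq_prime x7 x_ne

theorem order_f : orderOf f = 6 := by
  refine orderOf_eq_of_pow_and_pow_div_prime (by norm_num) f6 ?_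
  intro p hp hd
  have : p ∈ Nat.primeFactors 6 := Nat.mem_primeFactors.2 ⟨hp, hd, by norm_num⟩
  have h6 : Nat.primeFactors 6 = {2, 3} := by
    rw [show (6 : ℕ) = 2 * 3 by norm_num, Nat.primeFactors_mul (by norm_num) (by norm_num),
      Nat.prime_two.primeFactors, Nat.prime_three.primeFactors]
    rfl
  rw [h6] at this
  simp only [Finset.mem_insert, Finset.mem_singleton] at this
  rcases this with rfl | rfl
  · exact f3_ne
  · exact f2_ne

theorem sign_u : Perm.sign u = -1 := by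
  have h2 : u.support.card = 86 := by
    rw [← card_fin_of_cntB (fun v => nbeq (lk tU v) v) 100 86 (by decide +kernel)]
    refine congrArg Finset.card ?_
    ext v
    rw [Perm.mem_support, Finset.mem_filter, nbeq_iff]
    exact ⟨fun h => ⟨Finset.mem_univ _, fun h' => h (Fin.ext ((gen_val 8 v).trans h'))⟩,
      fun h h' => h.2 (((gen_val 8 v).symm).trans (Fin.ext_iff.1 h'))⟩
  rw [sign_of_involution u2, h2]
  decide

theorem xA : x ∈ autG 100 adj := aut_le x_mem
theorem fA : f ∈ autG 100 adj := aut_le f_mem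
theorem yA : y ∈ autG 100 adj := aut_le y_mem

theorem triv_x : ∀ c ∈ autG 100 adj, c * x = x * c → c 0 = 0 → c = 1 :=
  triv_of_chain (gen_val 5) 0 (M := 7) (bs := bX) (R := rX) (O := oX) (by decide +kernel) (by decide +kernel)
    (by decide +kernel)

theorem triv_f : ∀ c ∈ autG 100 adj, c * f = f * c → c 6 = 6 → c = 1 :=
  triv_of_chain (gen_val 6) 6 (M := 6) (bs := bF) (R := rF) (O := oF) (by decide +kernel) (by decide +kernel)
    (by decide +kernel)

theorem cent_x {c : Perm (Fin 100)} (hc : c ∈ G) (hcx : c * x = x * c) : ∃ i : ℕ, c = x ^ i := by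
  obtain ⟨w, hw, i, h⟩ := cent_of_check (gen_val 5) xA 0 (J := 3) (M := 7) [1, u]
    (by
      intro w hw
      simp only [List.mem_cons, List.not_mem_nil, or_false] at hw
      rcases hw with rfl | rfl
      · exact ⟨one_mem _, by rw [one_mul, mul_one]⟩
      · exact ⟨u_mem, ux⟩)
    (L := [0, lk tU 0])
    (by
      intro l hl
      simp only [List.mem_cons, List.not_mem_nil, or_false] at hl
      rcases hl with rfl | rfl
      · exact ⟨1, by simp, rfl⟩
      · exact ⟨u, by simp, gen_val 8 0⟩)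
    (by decide +kernel) triv_x (aut_le hc) hcx
  simp only [List.mem_cons, List.not_mem_nil, or_false] at hw
  rcases hw with rfl | rfl
  · exact ⟨i, by rw [h, mul_one]⟩
  · exfalso
    have h1 := sign_G c hc
    rw [h, map_mul, map_pow, sign_G x x_mem, one_pow, one_mul, sign_u] at h1
    exact absurd h1 (by decide)

theorem cent_f {c : Perm (Fin 100)} (hc : c ∈ G) (hcf : c * f = f * c) : ∃ i : ℕ, c = f ^ i ∨ c = f ^ i * y := by
  obtain ⟨w, hw, i, h⟩ := cent_of_check (gen_val 6) fA 6 (J := 5) (M := 6) [1, y, u, u * y]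
    (by
      intro w hw
      simp only [List.mem_cons, List.not_mem_nil, or_false] at hw
      rcases hw with rfl | rfl | rfl | rfl
      · exact ⟨one_mem _, by rw [one_mul, mul_one]⟩
      · exact ⟨yA, yf⟩
      · exact ⟨u_mem, uf⟩
      · exact ⟨mul_mem u_mem yA, by rw [mul_assoc, yf, ← mul_assoc, uf, mul_assoc]⟩)
    (L := [6, lk tY 6, lk tU 6, lk tU (lk tY 6)])
    (by
      intro l hl
      simp only [List.mem_cons, List.not_mem_nil, or_false] at hl
      rcases hl with rfl | rfl | rfl | rfl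
      · exact ⟨1, by simp, rfl⟩
      · exact ⟨y, by simp, gen_val 7 6⟩
      · exact ⟨u, by simp, gen_val 8 6⟩
      · refine ⟨u * y, by simp, ?_⟩
        rw [← pw2]
        exact pw_val gen_val [8, 7] 6)
    (by decide +kernel) triv_f (aut_le hc) hcf
  have hs : ∀ {a b : Perm (Fin 100)}, a ∈ G → b ∈ G → Perm.sign (f ^ i * (u * b)) = -1 := by
    intro a b _ hb
    rw [map_mul, map_pow, sign_G f f_mem, one_pow, one_mul, map_mul, sign_u, sign_G b hb, mul_one]
  simp only [List.mem_cons, List.not_mem_nil, or_false] at hw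
  rcases hw with rfl | rfl | rfl | rfl
  · exact ⟨i, Or.inl (by rw [h, mul_one])⟩
  · exact ⟨i, Or.inr h⟩
  · exfalso
    have h1 := sign_G c hc
    have h2 := hs (one_mem G) (one_mem G)
    rw [mul_one, ← h, h1] at h2
    exact absurd h2 (by decide)
  · exfalso
    have h1 := sign_G c hc
    have h2 := hs (one_mem G) y_mem
    rw [← h, h1] at h2
    exact absurd h2 (by decide)

theorem y_ne_pow (i : ℕ) : y ≠ f ^ i :=
  ne_pow (gen_val 6) f6 (by norm_num) 6 (by rw [gen_val]; decide +kernel) i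

/-! ### generation -/

theorem bA : pw gen [0] = pw gen [7, 5, 7, 5, 5, 6, 7, 5, 7, 5, 5, 6, 7, 5, 7, 5, 5, 6] := pw_eq gen_val (by decide +kernel)
theorem bB : pw gen [1] = pw gen [5, 7, 5, 5, 5, 7, 5, 7, 5, 5, 6, 7, 5, 7, 5, 5, 7, 5, 6, 6] := pw_eq gen_val (by decide +kernel)
theorem bC : pw gen [2] = pw gen [5, 7, 5, 6, 6, 7, 5, 7, 5, 7, 5, 7, 5, 6, 7, 5, 5, 7] := pw_eq gen_val (by decide +kernel)
theorem bD : pw gen [3] = pw gen [5, 5, 5, 5, 5, 5, 7, 5, 7, 5, 5, 7, 5, 6, 7, 5, 5, 6, 7, 5, 7, 5] := pw_eq gen_val (by decide +kernel)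
theorem bE : pw gen [4] = pw gen [6, 5, 6, 5, 7, 5, 5, 6, 7, 5, 5] := pw_eq gen_val (by decide +kernel)

theorem le_closure {K : Subgroup (Perm (Fin 100))} (hx : x ∈ K) (hf : f ∈ K) (hy : y ∈ K) : G ≤ K := by
  have h : ∀ k, 5 ≤ k ∧ k < 8 → gen k ∈ K := by
    intro k hk
    have : k = 5 ∨ k = 6 ∨ k = 7 := by omega
    rcases this with rfl | rfl | rfl
    exacts [hx, hf, hy]
  rw [G, Subgroup.closure_le]
  rintro s (rfl | rfl | rfl | rfl | rfl)
  · have h1 : pA = pw gen [7, 5, 7, 5, 5, 6, 7, 5, 7, 5, 5, 6, 7, 5, 7, 5, 5, 6] := (pw1 0).symm.trans bA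
    rw [h1]
    exact pw_mem fun k hk => h k (rgB_iff (m := 5) (m' := 8) (L := [7, 5, 7, 5, 5, 6, 7, 5, 7, 5, 5, 6, 7, 5, 7, 5, 5, 6]) (by decide +kernel) k hk)
  · have h1 : pB = pw gen [5, 7, 5, 5, 5, 7, 5, 7, 5, 5, 6, 7, 5, 7, 5, 5, 7, 5, 6, 6] := (pw1 1).symm.trans bB
    rw [h1]
    exact pw_mem fun k hk => h k (rgB_iff (m := 5) (m' := 8) (L := [5, 7, 5, 5, 5, 7, 5, 7, 5, 5, 6, 7, 5, 7, 5, 5, 7, 5, 6, 6]) (by decide +kernel) k hk)
  · have h1 : pC = pw gen [5, 7, 5, 6, 6, 7, 5, 7, 5, 7, 5, 7, 5, 6, 7, 5, 5, 7] := (pw1 2).symm.trans bC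
    rw [h1]
    exact pw_mem fun k hk => h k (rgB_iff (m := 5) (m' := 8) (L := [5, 7, 5, 6, 6, 7, 5, 7, 5, 7, 5, 7, 5, 6, 7, 5, 5, 7]) (by decide +kernel) k hk)
  · have h1 : pD = pw gen [5, 5, 5, 5, 5, 5, 7, 5, 7, 5, 5, 7, 5, 6, 7, 5, 5, 6, 7, 5, 7, 5] := (pw1 3).symm.trans bD
    rw [h1]
    exact pw_mem fun k hk => h k (rgB_iff (m := 5) (m' := 8) (L := [5, 5, 5, 5, 5, 5, 7, 5, 7, 5, 5, 7, 5, 6, 7, 5, 5, 6, 7, 5, 7, 5]) (by decide +kernel) k hk)
  · have h1 : pE = pw gen [6, 5, 6, 5, 7, 5, 5, 6, 7, 5, 5] := (pw1 4).symm.trans bE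
    rw [h1]
    exact pw_mem fun k hk => h k (rgB_iff (m := 5) (m' := 8) (L := [6, 5, 6, 5, 7, 5, 5, 6, 7, 5, 5]) (by decide +kernel) k hk)

theorem closure_eq : Subgroup.closure ({⟨x, x_mem⟩, ⟨f, f_mem⟩, ⟨y, y_mem⟩} : Set G) = ⊤ := by
  set K := Subgroup.closure ({⟨x, x_mem⟩, ⟨f, f_mem⟩, ⟨y, y_mem⟩} : Set G) with hK
  rw [eq_top_iff]
  rintro ⟨g, hg⟩ -
  have h1 : G ≤ K.map G.subtype := by
    apply le_closure
    · exact ⟨⟨x, x_mem⟩, Subgroup.subset_closure (by simp), rfl⟩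
    · exact ⟨⟨f, f_mem⟩, Subgroup.subset_closure (by simp), rfl⟩
    · exact ⟨⟨y, y_mem⟩, Subgroup.subset_closure (by simp), rfl⟩
  obtain ⟨k, hk, hkg⟩ := h1 hg
  have : k = ⟨g, hg⟩ := Subtype.ext hkg
  rwa [← this]

/-- `OutSign` for the Hall–Janko group on 100 points. -/
theorem outSign_hundred : OutSign G := by
  refine CycNorm.outSign_of (p := 7) (m := 3) (N := 3) (by norm_num) (x := ⟨x, x_mem⟩) (f := ⟨f, f_mem⟩)
    (y := ⟨y, y_mem⟩) ?_ ?_ ?_ ?_ (by decide) (by decide) ?_ ?_ ?_ ?_ ?_ closure_eq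
  · rw [Subgroup.orderOf_mk]; exact order_x
  · rw [card_G]; norm_num
  · rintro ⟨c, hc⟩ h
    obtain ⟨i, hi⟩ := cent_x hc (congrArg Subtype.val h)
    exact ⟨i, Subtype.ext hi⟩
  · exact Subtype.ext fx
  · rw [Subgroup.orderOf_mk]; exact order_f
  · exact Subtype.ext y2
  · exact Subtype.ext yf
  · intro i h
    exact y_ne_pow i (congrArg Subtype.val h)
  · rintro ⟨c, hc⟩ h
    obtain ⟨i, hi | hi⟩ := cent_f hc (congrArg Subtype.val h)
    · exact ⟨i, Or.inl (Subtype.ext hi)⟩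
    · exact ⟨i, Or.inr (Subtype.ext hi)⟩

/-- **`OutSign` for the Hall–Janko group.** -/
theorem outSign_J2 {X : Type*} [Group X] (e : X ≃* Cfsg.Spor.J2) : OutSign X := by
  obtain ⟨f⟩ := Cfsg.Agent.J2.HundredGens.J2_iso Cfsg.Agent.S1619.result.2.2.2
  exact OutSign.of_equiv (e.trans f).symm outSign_hundred

end Cfsg.Agent.OddHalf.Table.OutJ2
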