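import Cfsg.Agent.FixBN.FixSplit
import Cfsg.Agent.FixBN.SplitRGD

/-!
# Automorphisms of a group with a split (B, N)-pair

helper328, for TABLE-17 (OutSign) of S1765: every automorphism is, up to an inner one, an automorphism preserving `B`;
such an automorphism acts on the building; `sigma` is the type permutation.

* `exists_conj_keep` : every automorphism is `conj g ∘ α` with `α` preserving `B`;
* `sigma_mul`, `sigma_conj`, `sigma_M` : the type permutation;
* `eq_conj_of_agree` : rigidity;
* `exists_eq_conj` : if all panels have three chambers (`q = 2`), a type preserving automorphism is inner.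
-/

set_option autoImplicit false

namespace Cfsg.Agent.OddHalf.Table.AutBldg

open Cfsg Cfsg.Agent.LieExceptional.BNPairCore Cfsg.Agent.Tits.Core Cfsg.Agent.Tits.Core.Bldg Cfsg.Agent.Tits.OfBN
  Cfsg.Agent.Schreier.BNSch Cfsg.Agent.Tits.OppRes Cfsg.Agent.FixBN Cfsg.Agent.FixBN.TwOfBN

variable {K : Type*} [Group K] {P : Cfsg.BNPair K}

/-- `α` preserves `B`. -/
def Keep (P : Cfsg.BNPair K) (α : MulAut K) : Prop := ∀ b, α b ∈ P.B ↔ b ∈ P.B

theorem Keep.one : Keep P (1 : MulAut K) := fun _ => Iff.rfl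

theorem Keep.mul {α β : MulAut K} (hα : Keep P α) (hβ : Keep P β) : Keep P (α * β) := fun b => by
  rw [MulAut.mul_apply, hα, hβ]

theorem Keep.inv {α : MulAut K} (hα : Keep P α) : Keep P α⁻¹ := fun b => by
  rw [← hα (α⁻¹ b), MulAut.apply_inv_self]

theorem Keep.conj {b : K} (hb : b ∈ P.B) : Keep P (MulAut.conj b) := fun x => by
  rw [MulAut.conj_apply]
  constructor
  · intro h
    have h1 : x = b⁻¹ * (b * x * b⁻¹) * b := by group
    rw [h1]
    exact mul_mem (mul_mem (inv_mem hb) h) hb
  · intro h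
    exact mul_mem (mul_mem hb h) (inv_mem hb)

/-- The action on the chambers. -/
noncomputable def act (α : MulAut K) (hα : Keep P α) : K ⧸ P.B → K ⧸ P.B :=
  Quotient.lift (fun a : K => (QuotientGroup.mk (α a) : K ⧸ P.B)) (fun a b h => by
    have h1 : a⁻¹ * b ∈ P.B := QuotientGroup.leftRel_apply.1 h
    rw [OfBN.mk_eq, ← map_inv, ← map_mul, hα]
    exact h1)

theorem act_mk {α : MulAut K} (hα : Keep P α) (a : K) :
    act α hα (QuotientGroup.mk a) = QuotientGroup.mk (α a) := rfl

section Coxeter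

variable [hN : ((P.B ⊓ P.N).subgroupOf P.N).Normal]
variable {I : Type*} {M : CoxeterMatrix I} (e : I ≃ P.S) (cs : CoxeterSystem M (WP P))
  (hcs : ∀ i, cs.simple i = QuotientGroup.mk (⟨(e i : K), P.subset (e i).2⟩ : P.N))

include hcs

theorem δ_act {α : MulAut K} (hα : Keep P α) (x y : K ⧸ P.B) :
    (bldg P e cs hcs).δ (act α hα x) (act α hα y) = fW P α ((bldg P e cs hcs).δ x y) := by
  induction x using QuotientGroup.induction_on with
  | _ a =>
  induction y using QuotientGroup.induction_on with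
  | _ b =>
  rw [act_mk, act_mk, bldg_δ_mk, bldg_δ_mk, fW_wt α hα, map_mul, map_inv]

/-- The type permutation. -/
noncomputable def sg {α : MulAut K} (hα : Keep P α) (i : I) : I := sigma α hα e cs hcs i

theorem fW_simple' {α : MulAut K} (hα : Keep P α) (i : I) :
    fW P α (cs.simple i) = cs.simple (sg e cs hcs hα i) := fW_simple α hα e cs hcs i

theorem sg_congr {α β : MulAut K} (hα : Keep P α) (hβ : Keep P β) (h : α = β) (i : I) :
    sg e cs hcs hα i = sg e cs hcs hβ i := by
  subst h; rfl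

theorem sg_mul [Cox cs] {α β : MulAut K} (hα : Keep P α) (hβ : Keep P β) (i : I) :
    sg e cs hcs (hα.mul hβ) i = sg e cs hcs hα (sg e cs hcs hβ i) := by
  apply Cox.inj (cs := cs)
  rw [← fW_simple', ← fW_simple', ← fW_simple']
  obtain ⟨g, hg⟩ := exists_wt (cs.simple i)
  rw [← hg, fW_wt _ (hα.mul hβ), fW_wt _ hβ, fW_wt _ hα]
  rfl

theorem sg_one [Cox cs] (i : I) : sg e cs hcs (Keep.one (P := P)) i = i := by
  apply Cox.inj (cs := cs)
  rw [← fW_simple']
  obtain ⟨g, hg⟩ := exists_wt (cs.simple i)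
  rw [← hg, fW_wt _ Keep.one]
  rfl

theorem sg_conj [Cox cs] {b : K} (hb : b ∈ P.B) (i : I) : sg e cs hcs (Keep.conj hb) i = i := by
  apply Cox.inj (cs := cs)
  rw [← fW_simple']
  obtain ⟨g, hg⟩ := exists_wt (cs.simple i)
  rw [← hg, fW_wt _ (Keep.conj hb), MulAut.conj_apply, wt_mul_right P _ (inv_mem hb), wt_mul_left P _ hb]

theorem sg_injective [Cox cs] {α : MulAut K} (hα : Keep P α) : Function.Injective (sg e cs hcs hα) := by
  intro i j h
  have h1 := sg_mul e cs hcs hα.inv hα i
  have h2 := sg_mul e cs hcs hα.inv hα j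
  have h3 := sg_congr e cs hcs (hα.inv.mul hα) Keep.one (inv_mul_cancel α)
  rw [← h, ← h1, h3, h3, sg_one, sg_one] at h2
  exact h2.symm

theorem orderOf_fW {α : MulAut K} (hα : Keep P α) (w : WP P) : orderOf (fW P α w) = orderOf w := by
  let f : WP P →* WP P :=
    { toFun := fW P α
      map_one' := fW_one α hα
      map_mul' := fW_mul α hα e cs hcs }
  exact orderOf_injective f (fW_injective α hα) w

theorem sg_M [Finite I] [Finite (WP P)] {α : MulAut K} (hα : Keep P α) (i j : I) :
    M (sg e cs hcs hα i) (sg e cs hcs hα j) = M i j := by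
  classical
  have := Fintype.ofFinite I
  have h1 := LieRecognition.CoxForm.orderOf_eq cs (sg e cs hcs hα i) (sg e cs hcs hα j)
  have h2 := LieRecognition.CoxForm.orderOf_eq cs i j
  rw [← h1, ← h2, ← fW_simple', ← fW_simple', ← fW_mul α hα e cs hcs, orderOf_fW e cs hcs hα]

theorem fW_of_sg_id {α : MulAut K} (hα : Keep P α) (hs : ∀ i, sg e cs hcs hα i = i) (w : WP P) :
    fW P α w = w := by
  obtain ⟨ω, rfl⟩ := cs.wordProd_surjective w
  induction ω with
  | nil => rw [cs.wordProd_nil, fW_one α hα]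
  | cons i ω ih => rw [cs.wordProd_cons, fW_mul α hα e cs hcs, ih, fW_simple' e cs hcs hα, hs]

/-- **Rigidity**: a type preserving automorphism which agrees with `u ∈ B` on the panels of the base chamber and
on one opposite chamber is the conjugation by `u`. -/
theorem eq_conj_of_agree [Cox cs] (hcore : P.B.normalCore = ⊥) {α : MulAut K} (hα : Keep P α)
    (hs : ∀ i, sg e cs hcs hα i = i) {u : K} {c d : K ⧸ P.B} (hcd : (bldg P e cs hcs).δ c d = w0 cs)
    (hag : ∀ i, ∀ y ∈ (bldg P e cs hcs).Pan i c, act α hα y = u • y) (hd : act α hα d = u • d) :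
    α = MulAut.conj u := by
  have hiso : ∀ (g : K) (a b : K ⧸ P.B), (bldg P e cs hcs).δ (g • a) (g • b) = (bldg P e cs hcs).δ a b :=
    fun g a b => dist_smul P g a b
  have h1 : ∀ z ∈ (bldg P e cs hcs).Res Set.univ c, act α hα z = u • z :=
    Tits.Rigid.rigid (thick P e cs hcs) (φ := act α hα) (ψ := fun z => u • z)
      (fun a _ b _ => by rw [δ_act, fW_of_sg_id e cs hcs hα hs]) (fun a _ b _ => hiso u a b)
      (fun i _ y hy => hag i y hy) hcd hd
  have h2 : ∀ z : K ⧸ P.B, act α hα z = u • z := fun z => h1 z (by rw [Bldg.Res_univ]; trivial)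
  have h3 : FaithfulSMul K (K ⧸ P.B) := Tits.OfBN.faithful P hcore
  ext k
  have h4 : α k * u = u * k := by
    apply h3.eq_of_smul_eq_smul (α := K ⧸ P.B)
    intro z
    have h5 := h2 (k • z)
    have h6 : act α hα (k • z) = α k • act α hα z := by
      induction z using QuotientGroup.induction_on with
      | _ a =>
      rw [OfBN.smul_mk, act_mk, act_mk, OfBN.smul_mk, map_mul]
    rw [h6, h2] at h5
    rw [mul_smul, mul_smul]
    exact h5
  rw [MulAut.conj_apply, ← h4]
  group

/-- A type preserving automorphism can be corrected by an element of `U` so that it fixes a given chamber opposite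
to the base chamber. -/
theorem exists_fix_opp {p : ℕ} {U : Subgroup K} (S : Split P p U) {α : MulAut K} (hα : Keep P α)
    (hs : ∀ i, sg e cs hcs hα i = i) (d : K ⧸ P.B) :
    ∃ u ∈ U, act α hα d = u • d := by
  have h1 : dist P (QuotientGroup.mk 1) d = dist P (QuotientGroup.mk 1) (act α hα d) := by
    have h2 := δ_act e cs hcs hα (QuotientGroup.mk 1) d
    rw [act_mk, map_one, fW_of_sg_id e cs hcs hα hs] at h2
    exact h2.symm
  obtain ⟨u, hu, h2⟩ := OfBN.trans S h1
  refine ⟨u, ?_, h2.symm⟩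
  have := (OfBN.mem_UU S).1 hu
  simpa using this

/-- The chamber of the `i`-panel of the base chamber nearest to `d` is mapped as `d`. -/
theorem act_proj [Cox cs] {α : MulAut K} (hα : Keep P α) (hs : ∀ i, sg e cs hcs hα i = i) {u : K} (hu : u ∈ P.B)
    {d : K ⧸ P.B} (hcd : (bldg P e cs hcs).δ (QuotientGroup.mk 1) d = w0 cs) (hd : act α hα d = u • d) (i : I) :
    ∃ z, (bldg P e cs hcs).δ (QuotientGroup.mk 1) z = cs.simple i ∧ act α hα z = u • z := by
  set Δ := bldg P e cs hcs with hΔ
  set c : K ⧸ P.B := QuotientGroup.mk 1 with hc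
  have hiso : ∀ (g : K) (a b : K ⧸ P.B), Δ.δ (g • a) (g • b) = Δ.δ a b := fun g a b => dist_smul P g a b
  have hφ : ∀ a b, Δ.δ (act α hα a) (act α hα b) = Δ.δ a b := fun a b => by
    rw [hΔ, δ_act, fW_of_sg_id e cs hcs hα hs]
  have hφc : act α hα c = c := by rw [hc, act_mk, map_one]
  have huc : u • c = c := by
    rw [hc, OfBN.smul_mk_eq]; simpa using hu
  obtain ⟨z, hz1, hz2⟩ := Δ.exists_step d c i
  refine ⟨z, hz1, ?_⟩
  have hC : Cox cs := inferInstance
  have h2 : Δ.δ d z = w0 cs * cs.simple i := by rw [hz2, Δ.symm c d, hcd, hC.w0_inv]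
  have h3 : Δ.δ (u • d) (act α hα z) = w0 cs * cs.simple i := by
    rw [← hd, hφ, h2]
  have h4 : Δ.δ (u • d) (u • z) = w0 cs * cs.simple i := by
    rw [hiso, h2]
  refine Tits.Rigid.eq_of_short (Δ := Δ) (j := i) h3 h4 ?_ ?_
  · rw [mul_assoc, cs.simple_mul_simple_self, mul_one]
    have h5 := hC.len_w0_mul (cs.simple i)
    rw [cs.length_simple] at h5
    omega
  · have h6 : act α hα z ∈ Δ.Pan i c := by
      right
      rw [← hz1]
      conv_lhs => rw [← hφc]
      exact hφ _ _
    have h7 : u • z ∈ Δ.Pan i c := by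
      right
      rw [← hz1]
      conv_lhs => rw [← huc]
      exact hiso _ _ _
    exact Tits.Rigid.mem_Pan_Res (Δ.mem_Pan_trans (Δ.mem_Pan_symm h6) h7)

/-- **`q = 2`**: if all panels of the base chamber have at most three chambers, type preserving automorphisms
preserving `B` are inner. -/
theorem exists_eq_conj [Cox cs] {p : ℕ} {U : Subgroup K} (S : Split P p U)
    (h3 : ∀ i, ∀ x y z, (bldg P e cs hcs).δ (QuotientGroup.mk 1) x = cs.simple i →
      (bldg P e cs hcs).δ (QuotientGroup.mk 1) y = cs.simple i →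
      (bldg P e cs hcs).δ (QuotientGroup.mk 1) z = cs.simple i → x = y ∨ x = z ∨ y = z)
    {α : MulAut K} (hα : Keep P α) (hs : ∀ i, sg e cs hcs hα i = i) : ∃ u ∈ U, α = MulAut.conj u := by
  set Δ := bldg P e cs hcs with hΔ
  set c : K ⧸ P.B := QuotientGroup.mk 1 with hc
  have hiso : ∀ (g : K) (a b : K ⧸ P.B), Δ.δ (g • a) (g • b) = Δ.δ a b := fun g a b => dist_smul P g a b
  have hφ : ∀ a b, Δ.δ (act α hα a) (act α hα b) = Δ.δ a b := fun a b => by
    rw [hΔ, δ_act, fW_of_sg_id e cs hcs hα hs]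
  have hφc : act α hα c = c := by rw [hc, act_mk, map_one]
  obtain ⟨d, hd⟩ := Tits.OppRes.exists_delta Δ c (w0 cs)
  obtain ⟨u, hu, hud⟩ := exists_fix_opp e cs hcs S hα hs d
  have huB := S.le hu
  have huc : u • c = c := by
    rw [hc, OfBN.smul_mk_eq]; simpa using huB
  refine ⟨u, hu, eq_conj_of_agree e cs hcs S.core hα hs hd ?_ hud⟩
  intro i y hy
  rcases hy with rfl | hy
  · rw [hφc, huc]
  obtain ⟨z, hz1, hz2⟩ := act_proj e cs hcs hα hs huB hd hud i
  by_cases hyz : y = z
  · rw [hyz, hz2]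
  -- both images are `i`-adjacent to `c` and different from the image of `z`
  have h1 : Δ.δ c (act α hα y) = cs.simple i := by
    rw [← hy]
    conv_lhs => rw [← hφc]
    exact hφ _ _
  have h2 : Δ.δ c (u • y) = cs.simple i := by
    rw [← hy]
    conv_lhs => rw [← huc]
    exact hiso _ _ _
  have h4 : Δ.δ c (u • z) = cs.simple i := by
    rw [← hz1]
    conv_lhs => rw [← huc]
    exact hiso _ _ _
  rcases h3 i _ _ _ h1 h2 h4 with h | h | h
  · exact h
  · exfalso
    apply hyz
    rw [← hz2] at h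
    have := hφ y z
    rw [h, (Δ.eq_one _ _).2 rfl] at this
    exact (Δ.eq_one _ _).1 this.symm
  · exfalso
    apply hyz
    exact MulAction.injective u h

end Coxeter

/-- Every automorphism is inner times an automorphism preserving `B`. -/
theorem exists_conj_keep [Finite K] {p : ℕ} [Fact p.Prime] {U : Subgroup K} (S : Split P p U) (τ : MulAut K) :
    ∃ g : K, Keep P (MulAut.conj g * τ) := by
  obtain ⟨g, hg⟩ := exists_conj S τ
  refine ⟨g⁻¹, fun b => ?_⟩
  rw [MulAut.mul_apply, MulAut.conj_apply, inv_inv]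
  exact hg b

end Cfsg.Agent.OddHalf.Table.AutBldg
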