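import Cfsg.Agent.OddHalf.Table.AutRGD

/-!
# Normalised automorphisms of groups with root group data

helper328 (TABLE-17 of S1765). `P` the (B, N)-pair of a root group datum, `c = B` the base chamber, `d = g₀ B` the
opposite chamber of the standard apartment. An automorphism `β` is normalised (`Nrm`) if it fixes `c` and `d`.

* `exists_nrm` : every automorphism is inner times a normalised one;
* `Nrm.act_n` : `β` maps the chamber `n_j B` to `n_{σ j} B`;
* `Nrm.mem_T` : `β T = T`;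
* `Nrm.cen_iff`, `Nrm.cen_rep_iff` : `t ∈ T` centralises `X (sr i)` (`X (s_j (sr i))`) iff `β t` centralises
  `X (sr (σ i))` (`X (s_{σ j} (sr (σ i)))`);
* `Nrm.eq_conj` : rigidity.
-/

set_option autoImplicit false
set_option linter.unusedSectionVars false

namespace Cfsg.Agent.OddHalf.Table.AutBldg

open Cfsg Cfsg.Agent.LieExceptional.BNPairCore Cfsg.Agent.Tits.Core Cfsg.Agent.Tits.Core.Bldg Cfsg.Agent.Tits.OfBN
  Cfsg.Agent.Schreier.BNSch Cfsg.Agent.Tits.OppRes Cfsg.Agent.FixBN Cfsg.Agent.FixBN.TwOfBN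

section

variable {K : Type*} [Group K] {P : Cfsg.BNPair K}
variable [hN : ((P.B ⊓ P.N).subgroupOf P.N).Normal]
variable {I : Type*} {M : CoxeterMatrix I} (e : I ≃ P.S) (cs : CoxeterSystem M (WP P))
  (hcs : ∀ i, cs.simple i = QuotientGroup.mk (⟨(e i : K), P.subset (e i).2⟩ : P.N))

include hcs

theorem length_fW_le {α : MulAut K} (hα : Keep P α) (w : WP P) : cs.length (fW P α w) ≤ cs.length w := by
  obtain ⟨ω, hω, rfl⟩ := cs.exists_isReduced w
  have key : ∀ ω : List I, fW P α (cs.wordProd ω) = cs.wordProd (ω.map (sg e cs hcs hα)) := by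
    intro ω
    induction ω with
    | nil => rw [List.map_nil, cs.wordProd_nil, fW_one α hα]
    | cons i ω ih => rw [cs.wordProd_cons, fW_mul α hα e cs hcs, ih, fW_simple' e cs hcs hα, List.map_cons,
        cs.wordProd_cons]
  rw [key, hω.eq]
  refine (cs.length_wordProd_le _).trans ?_
  rw [List.length_map]

omit hN hcs in
theorem fW_inv_fW {α : MulAut K} (hα : Keep P α) (w : WP P) : fW P α⁻¹ (fW P α w) = w := by
  obtain ⟨g, rfl⟩ := exists_wt w
  rw [fW_wt _ hα, fW_wt _ hα.inv, MulAut.inv_apply_self]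

theorem length_fW {α : MulAut K} (hα : Keep P α) (w : WP P) : cs.length (fW P α w) = cs.length w := by
  apply le_antisymm (length_fW_le e cs hcs hα w)
  conv_lhs => rw [← fW_inv_fW hα w]
  exact length_fW_le e cs hcs hα.inv _

/-- `w₀` is fixed. -/
theorem fW_w0 [Cox cs] {α : MulAut K} (hα : Keep P α) : fW P α (w0 cs) = w0 cs := by
  have hC : Cox cs := inferInstance
  refine Tits.OppRes.Cox.longest_unique (J := Set.univ) ⟨?_, ?_⟩ (hC.longest Set.univ)
  · rw [Tits.OppRes.WJ_univ]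
    exact Subgroup.mem_top _
  · intro v _
    have hv : fW P α (fW P α⁻¹ v) = v := by
      have := fW_inv_fW hα.inv v
      rwa [inv_inv] at this
    obtain ⟨h1, h2⟩ := (hC.longest Set.univ).2 (fW P α⁻¹ v) (by
      rw [Tits.OppRes.WJ_univ]; exact Subgroup.mem_top _)
    have h3 : cs.length (fW P α⁻¹ v) = cs.length v := length_fW e cs hcs hα.inv v
    rw [h3] at h1 h2
    have h4 : fW P α (wJ cs Set.univ) * v = fW P α (wJ cs Set.univ * fW P α⁻¹ v) := by
      rw [fW_mul α hα e cs hcs, hv]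
    have h5 : v * fW P α (wJ cs Set.univ) = fW P α (fW P α⁻¹ v * wJ cs Set.univ) := by
      rw [fW_mul α hα e cs hcs, hv]
    constructor
    · show cs.length (fW P α (wJ cs Set.univ) * v) + cs.length v = cs.length (fW P α (wJ cs Set.univ))
      rw [h4, length_fW e cs hcs hα, length_fW e cs hcs hα, h1]
    · show cs.length (v * fW P α (wJ cs Set.univ)) + cs.length v = cs.length (fW P α (wJ cs Set.univ))
      rw [h5, length_fW e cs hcs hα, length_fW e cs hcs hα, h2]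

/-- An automorphism preserving `B` can be corrected by an element of `U` so that it fixes a given chamber opposite
to the base chamber. -/
theorem exists_fix_opp' [Cox cs] {p : ℕ} {U : Subgroup K} (S : Split P p U) {α : MulAut K} (hα : Keep P α)
    {d : K ⧸ P.B} (hcd : (bldg P e cs hcs).δ (QuotientGroup.mk 1) d = w0 cs) :
    ∃ u ∈ U, act α hα d = u • d := by
  have h1 : dist P (QuotientGroup.mk 1) d = dist P (QuotientGroup.mk 1) (act α hα d) := by
    have h2 := δ_act e cs hcs hα (QuotientGroup.mk 1) d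
    rw [act_mk, map_one, hcd, fW_w0 e cs hcs hα, ← hcd] at h2
    exact h2.symm
  obtain ⟨u, hu, h2⟩ := OfBN.trans S h1
  refine ⟨u, ?_, h2.symm⟩
  have := (OfBN.mem_UU S).1 hu
  simpa using this

end

end Cfsg.Agent.OddHalf.Table.AutBldg

namespace Cfsg.Agent.OddHalf.Table.AutNorm

open CoxeterSystem Cfsg.Agent.ChevalleyStructure.CoxeterGeom Cfsg.Agent.Tits.Roots Cfsg.Agent.Tits.Core
  Cfsg.Agent.Tits.RootComb Cfsg.Agent.Nodes.Comb Cfsg.Agent.Nodes.Reps Cfsg.Agent.Nodes.BNOf Cfsg.Agent.Nodes.BNOf.RGD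
  Cfsg.Agent.FixBN Cfsg.Agent.Tits.OfBN Cfsg.Agent.Tits.OppRes Cfsg.Agent.LieExceptional.BNPairCore
  Cfsg.Agent.OddHalf.Table.AutBldg Cfsg.Agent.OddHalf.Table.AutRGD Cfsg.Agent.FixBN.TwOfBN

variable {I W Y : Type*} [Fintype I] [DecidableEq I] [Group W] [Group Y] {M : CoxeterMatrix I}
  {cs : CoxeterSystem M W} {A : I → I → ℤ} {h : IsCartan M A} {p : ℕ} {T : Subgroup Y} {n : I → Y}
  {X : (I → ℤ) → Subgroup Y} [Finite W]

variable (R : RGD cs h p T n X) (hgen : B cs h T X ⊔ NN cs R.nsys = ⊤)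
  [hN : (((R.bnPair hgen).B ⊓ (R.bnPair hgen).N).subgroupOf (R.bnPair hgen).N).Normal]
  (cs' : CoxeterSystem M (WP (R.bnPair hgen)))
  (hcs : ∀ i, cs'.simple i = QuotientGroup.mk
    (⟨(eS R hgen i : Y), (R.bnPair hgen).subset (eS R hgen i).2⟩ : (R.bnPair hgen).N))

/-- The building. -/
noncomputable abbrev Bl : Bldg cs' (Y ⧸ (R.bnPair hgen).B) := bldg (R.bnPair hgen) (eS R hgen) cs' hcs

/-- A representative of `w₀`. -/
theorem exists_g0 : ∃ g₀ : (R.bnPair hgen).N, (QuotientGroup.mk g₀ : WP (R.bnPair hgen)) = w0 cs' :=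
  QuotientGroup.mk_surjective _

/-- A normalised automorphism. -/
structure Nrm (g₀ : (R.bnPair hgen).N) (β : MulAut Y) : Prop where
  keep : Keep (R.bnPair hgen) β
  fix : (g₀ : Y)⁻¹ * β (g₀ : Y) ∈ (R.bnPair hgen).B

variable {R hgen cs'} {g₀ : (R.bnPair hgen).N}

omit hN in
theorem nrm_iff {β : MulAut Y} (hβ : Keep (R.bnPair hgen) β) :
    Nrm R hgen g₀ β ↔ act β hβ (QuotientGroup.mk (g₀ : Y)) = QuotientGroup.mk (g₀ : Y) := by
  rw [act_mk, eq_comm, FixBN.OfBN.mk_eq]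
  exact ⟨fun h => h.fix, fun h => ⟨hβ, h⟩⟩

omit hN in
theorem Nrm.act_d {β : MulAut Y} (hβ : Nrm R hgen g₀ β) :
    act β hβ.keep (QuotientGroup.mk (g₀ : Y)) = QuotientGroup.mk (g₀ : Y) := (nrm_iff hβ.keep).1 hβ

omit hN in
theorem Nrm.mul {β γ : MulAut Y} (hβ : Nrm R hgen g₀ β) (hγ : Nrm R hgen g₀ γ) : Nrm R hgen g₀ (β * γ) := by
  refine ⟨hβ.keep.mul hγ.keep, ?_⟩
  have h1 : (g₀ : Y)⁻¹ * (β * γ) (g₀ : Y) = (g₀ : Y)⁻¹ * β (g₀ : Y) * β ((g₀ : Y)⁻¹ * γ (g₀ : Y)) := by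
    rw [MulAut.mul_apply, map_mul, map_inv]; group
  rw [h1]
  exact mul_mem hβ.fix ((hβ.keep _).2 hγ.fix)

omit hN in
theorem Nrm.inv {β : MulAut Y} (hβ : Nrm R hgen g₀ β) : Nrm R hgen g₀ β⁻¹ := by
  refine ⟨hβ.keep.inv, ?_⟩
  rw [← hβ.keep, map_mul, map_inv, MulAut.apply_inv_self]
  have h1 := inv_mem hβ.fix
  rwa [mul_inv_rev, inv_inv] at h1

theorem δ_d (hg₀ : (QuotientGroup.mk g₀ : WP (R.bnPair hgen)) = w0 cs') :
    (Bl R hgen cs' hcs).δ (QuotientGroup.mk 1) (QuotientGroup.mk (g₀ : Y)) = w0 cs' := by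
  rw [bldg_δ_mk, ← hg₀]
  apply wt_of_mem
  rw [inv_one, one_mul]
  exact self_mem_C _

include hcs in
/-- Every automorphism is inner times a normalised one. -/
theorem exists_nrm [Finite Y] [Fact p.Prime] (hcore : (B cs h T X).normalCore = ⊥)
    (hg₀ : (QuotientGroup.mk g₀ : WP (R.bnPair hgen)) = w0 cs') (α : MulAut Y) :
    ∃ g : Y, Nrm R hgen g₀ (MulAut.conj g * α) := by
  have S : Split (R.bnPair hgen) p (Sup X (Pos cs h)) := SplitRGD.split_of_rgd (Fact.out) R hgen hcore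
  have hI : Finite I := inferInstance
  have hW : Finite (WP (R.bnPair hgen)) := inferInstance
  have hC : Cox cs' := inferInstance
  obtain ⟨g, hg⟩ := exists_conj_keep S α
  obtain ⟨u, hu, hd⟩ := exists_fix_opp' (eS R hgen) cs' hcs S hg (δ_d hcs hg₀)
  refine ⟨u⁻¹ * g, ?_⟩
  have huB : u⁻¹ ∈ (R.bnPair hgen).B := inv_mem (S.le hu)
  rw [map_mul, mul_assoc]
  refine ⟨(Keep.conj huB).mul hg, ?_⟩
  rw [act_mk, FixBN.OfBN.smul_mk, FixBN.OfBN.mk_eq] at hd
  rw [MulAut.mul_apply, MulAut.conj_apply, inv_inv]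
  have h1 : (g₀ : Y)⁻¹ * (u⁻¹ * (MulAut.conj g * α) (g₀ : Y) * u) =
      (((MulAut.conj g * α) (g₀ : Y))⁻¹ * (u * g₀))⁻¹ * u := by group
  rw [h1]
  exact mul_mem (inv_mem hd) (S.le hu)

include hcs in
/-- `B ∩ g₀ B g₀⁻¹ = T`. -/
theorem mem_T_iff [Finite Y] [Fact p.Prime] (hcore : (B cs h T X).normalCore = ⊥)
    (hg₀ : (QuotientGroup.mk g₀ : WP (R.bnPair hgen)) = w0 cs') {t : Y} :
    t ∈ T ↔ t ∈ (R.bnPair hgen).B ∧ (g₀ : Y)⁻¹ * t * g₀ ∈ (R.bnPair hgen).B := by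
  have S : Split (R.bnPair hgen) p (Sup X (Pos cs h)) := SplitRGD.split_of_rgd (Fact.out) R hgen hcore
  have hI : Finite I := inferInstance
  have hTd : ∀ t ∈ T, (g₀ : Y)⁻¹ * t * g₀ ∈ (R.bnPair hgen).B := by
    intro t ht
    have h1 := (R.bnPair hgen).conj_mem (g₀ : Y)⁻¹ (inv_mem g₀.2) t (by
      rw [← R.B_inf_NN] at ht; exact ht)
    rwa [inv_inv] at h1
  constructor
  · exact fun ht => ⟨T_le_B ht, hTd t ht⟩
  · rintro ⟨h1, h2⟩
    obtain ⟨s, hs, u, hu, rfl⟩ := R.mem_B.1 (show t ∈ B cs h T X from h1)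
    have h3 : (g₀ : Y)⁻¹ * u * g₀ ∈ (R.bnPair hgen).B := by
      have h4 : (g₀ : Y)⁻¹ * u * g₀ = ((g₀ : Y)⁻¹ * s * g₀)⁻¹ * ((g₀ : Y)⁻¹ * (s * u) * g₀) := by group
      rw [h4]
      exact mul_mem (inv_mem (hTd s hs)) h2
    have h5 : u = 1 := by
      refine FixBN.OfBN.free (eS R hgen) cs' hcs S (x := QuotientGroup.mk 1) (y := QuotientGroup.mk (g₀ : Y))
        (δ_d hcs hg₀) ?_ ?_
      · rw [FixBN.OfBN.mem_UU S, inv_one, one_mul, mul_one]
        exact hu
      · rw [FixBN.OfBN.smul_mk_eq]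
        exact h3
    rw [h5, mul_one]
    exact hs

include hcs in
theorem Nrm.mem_T [Finite Y] [Fact p.Prime] (hcore : (B cs h T X).normalCore = ⊥)
    (hg₀ : (QuotientGroup.mk g₀ : WP (R.bnPair hgen)) = w0 cs') {β : MulAut Y} (hβ : Nrm R hgen g₀ β) {t : Y}
    (ht : t ∈ T) : β t ∈ T := by
  rw [mem_T_iff hcs hcore hg₀] at ht ⊢
  refine ⟨(hβ.keep t).2 ht.1, ?_⟩
  have h1 : (g₀ : Y)⁻¹ * β t * g₀ =
      ((g₀ : Y)⁻¹ * β (g₀ : Y)) * β ((g₀ : Y)⁻¹ * t * g₀) * ((g₀ : Y)⁻¹ * β (g₀ : Y))⁻¹ := by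
    rw [map_mul, map_mul, map_inv]; group
  rw [h1]
  exact mul_mem (mul_mem hβ.fix ((hβ.keep _).2 ht.2)) (inv_mem hβ.fix)

/-- A normalised automorphism permutes the chambers `n_j B`. -/
theorem Nrm.act_n [Finite Y] (hg₀ : (QuotientGroup.mk g₀ : WP (R.bnPair hgen)) = w0 cs') {β : MulAut Y}
    (hβ : Nrm R hgen g₀ β) (j : I) :
    act β hβ.keep (QuotientGroup.mk (n j)) =
      QuotientGroup.mk (n (sg (eS R hgen) cs' hcs hβ.keep j)) := by
  have hI : Finite I := inferInstance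
  have hW : Finite (WP (R.bnPair hgen)) := inferInstance
  have hC : Cox cs' := inferInstance
  set Δ := Bl R hgen cs' hcs with hΔ
  set c : Y ⧸ (R.bnPair hgen).B := QuotientGroup.mk 1 with hc
  set d : Y ⧸ (R.bnPair hgen).B := QuotientGroup.mk (g₀ : Y) with hd
  set k := sg (eS R hgen) cs' hcs hβ.keep j with hk
  have hδ : ∀ x y, Δ.δ (act β hβ.keep x) (act β hβ.keep y) = fW _ β (Δ.δ x y) := fun x y => by
    rw [hΔ]; exact δ_act _ _ _ _ _ _
  have hn : ∀ i, Δ.δ c (QuotientGroup.mk (n i)) = cs'.simple i := by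
    intro i
    rw [hΔ, hc, bldg_δ_mk, hcs]
    apply wt_of_mem
    rw [inv_one, one_mul]
    exact self_mem_C _
  have hdn : ∀ i, Δ.δ d (QuotientGroup.mk (n i)) = w0 cs' * cs'.simple i := by
    intro i
    have h1 : (w0 cs' * cs'.simple i : WP (R.bnPair hgen)) =
        QuotientGroup.mk (g₀⁻¹ * (⟨(eS R hgen i : Y), (R.bnPair hgen).subset (eS R hgen i).2⟩ :
          (R.bnPair hgen).N)) := by
      rw [QuotientGroup.mk_mul, QuotientGroup.mk_inv, hg₀, hC.w0_inv, hcs]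
    rw [hΔ, hd, bldg_δ_mk, h1]
    apply wt_of_mem
    exact self_mem_C _
  have hφc : act β hβ.keep c = c := by rw [hc, act_mk, map_one]
  have h1 : Δ.δ c (act β hβ.keep (QuotientGroup.mk (n j))) = cs'.simple k := by
    conv_lhs => rw [← hφc]
    rw [hδ, hn, fW_simple' (eS R hgen) cs' hcs hβ.keep]
  have h2 : Δ.δ d (act β hβ.keep (QuotientGroup.mk (n j))) = w0 cs' * cs'.simple k := by
    have h3 := hβ.act_d
    conv_lhs => rw [hd, ← h3]
    rw [hδ, hdn, fW_mul _ hβ.keep (eS R hgen) cs' hcs, fW_w0 (eS R hgen) cs' hcs hβ.keep,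
      fW_simple' (eS R hgen) cs' hcs hβ.keep]
  refine Tits.Rigid.eq_of_short (Δ := Δ) (j := k) h2 (hdn k) ?_ ?_
  · rw [mul_assoc, cs'.simple_mul_simple_self, mul_one]
    have h5 := hC.len_w0_mul (cs'.simple k)
    rw [cs'.length_simple] at h5
    omega
  · have h6 : act β hβ.keep (QuotientGroup.mk (n j)) ∈ Δ.Pan k c := Or.inr h1
    have h7 : (QuotientGroup.mk (n k) : Y ⧸ (R.bnPair hgen).B) ∈ Δ.Pan k c := Or.inr (hn k)
    exact Tits.Rigid.mem_Pan_Res (Δ.mem_Pan_trans (Δ.mem_Pan_symm h6) h7)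

/-- `t ∈ T` fixes the chambers `x n_i B`, `x ∈ X (sr i)`, iff it centralises `X (sr i)`. -/
theorem smul_x_iff {t : Y} (ht : t ∈ T) {i : I} {x : Y} (hx : x ∈ X (sr i)) :
    (t • (QuotientGroup.mk (x * n i) : Y ⧸ (R.bnPair hgen).B) = QuotientGroup.mk (x * n i)) ↔ t * x = x * t := by
  have hneg : ∀ x ∈ X (-sr i), x ∈ B cs h T X → x = 1 := by
    intro x hx hxB
    by_contra hne
    obtain ⟨a, ha, t, ht, b, hb, e⟩ := R.rk1 i x hx hne
    have h1 : n i = (a * t)⁻¹ * x * b⁻¹ := by rw [e]; group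
    have h2 : n i ∈ B cs h T X := by
      rw [h1]
      exact mul_mem (mul_mem (inv_mem (mul_mem (X_le_B (isRoot_sr cs h i) (sr_nonneg i) ha) (T_le_B ht))) hxB)
        (inv_mem (X_le_B (isRoot_sr cs h i) (sr_nonneg i) hb))
    have h3 := R.eq_one_of_mem_B (rp_simple cs R.nsys i) h2
    have h4 := rep_simple_sr cs h i
    rw [h3, map_one, Module.End.one_apply] at h4
    have h5 := congrFun h4 i
    rw [Pi.neg_apply, sr_self] at h5
    exact absurd h5 (by decide)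
  have hTn : ∀ s ∈ T, (n i)⁻¹ * s * n i ∈ (R.bnPair hgen).B := by
    intro s hs
    have h7 := mem_normalizer_iff_cj.1 (R.nsys.norm i)
    have h8 : s ∈ cj (n i) T := by rw [h7]; exact hs
    exact T_le_B (mem_cj.1 h8)
  have hcom : t * x * t⁻¹ ∈ X (sr i) := by
    have := R.tor (sr i) (isRoot_sr cs h i) t ht
    rw [← this]
    exact conj_mem_cj.2 hx
  rw [FixBN.OfBN.smul_mk_eq]
  have e1 : (x * n i)⁻¹ * t * (x * n i) = ((n i)⁻¹ * (x⁻¹ * (t * x * t⁻¹)) * n i) * ((n i)⁻¹ * t * n i) := by group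
  constructor
  · intro h1
    have h2 : (n i)⁻¹ * (x⁻¹ * (t * x * t⁻¹)) * n i ∈ (R.bnPair hgen).B := by
      have h3 := mul_mem h1 (inv_mem (hTn t ht))
      rw [e1, mul_assoc, mul_inv_cancel, mul_one] at h3
      exact h3
    have h4 : (n i)⁻¹ * (x⁻¹ * (t * x * t⁻¹)) * n i ∈ X (-sr i) := by
      have := R.conj_mem' (rp_simple cs R.nsys i) (isRoot_sr cs h i) (mul_mem (inv_mem hx) hcom)
      rwa [inv_simple, rep_simple_sr] at this
    have h5 := hneg _ h4 h2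
    have h6 : x⁻¹ * (t * x * t⁻¹) = 1 := by
      have : x⁻¹ * (t * x * t⁻¹) = n i * ((n i)⁻¹ * (x⁻¹ * (t * x * t⁻¹)) * n i) * (n i)⁻¹ := by group
      rw [this, h5]; group
    have h7 : t * x * t⁻¹ = x := by
      have := eq_of_inv_mul_eq_one h6
      exact this.symm
    calc t * x = (t * x * t⁻¹) * t := by group
      _ = x * t := by rw [h7]
  · intro h1
    rw [e1, h1]
    have : x⁻¹ * (x * t * t⁻¹) = 1 := by group
    rw [this, mul_one, inv_mul_cancel, one_mul]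
    exact hTn t ht

/-- The chambers `i`-adjacent to `g B` are the `g x n_i B`. -/
theorem mem_pan_iff (i : I) (g : Y) {z : Y ⧸ (R.bnPair hgen).B} :
    z ∈ (Bl R hgen cs' hcs).Pan i (QuotientGroup.mk g) ↔
      z = QuotientGroup.mk g ∨ ∃ x ∈ X (sr i), z = QuotientGroup.mk (g * (x * n i)) := by
  show (z = QuotientGroup.mk g ∨ (Bl R hgen cs' hcs).δ (QuotientGroup.mk g) z = cs'.simple i) ↔ _
  refine or_congr Iff.rfl ?_
  constructor
  · intro hz
    have h1 : (Bl R hgen cs' hcs).δ (QuotientGroup.mk 1) (g⁻¹ • z) = cs'.simple i := by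
      rw [← hz]
      have h2 : (QuotientGroup.mk 1 : Y ⧸ (R.bnPair hgen).B) = g⁻¹ • QuotientGroup.mk g := by
        rw [FixBN.OfBN.smul_mk, inv_mul_cancel]
      rw [h2]
      exact dist_smul _ _ _ _
    obtain ⟨x, hx, h3⟩ := pan_eq R hgen cs' hcs i h1
    refine ⟨x, hx, ?_⟩
    rw [inv_smul_eq_iff] at h3
    rw [h3, FixBN.OfBN.smul_mk]
  · rintro ⟨x, hx, rfl⟩
    rw [bldg_δ_mk, hcs]
    apply wt_of_mem
    have h1 : g⁻¹ * (g * (x * n i)) = x * n i := by group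
    rw [h1]
    exact mul_mem_C_left (X_le_B (isRoot_sr cs h i) (sr_nonneg i) hx) (self_mem_C _)

/-- `t ∈ T` fixes all chambers of the `i`-panel of `g B`, `g ∈ N`, iff `g⁻¹ t g` centralises `X (sr i)`. -/
theorem fix_pan_iff {g : Y} (hg : g ∈ NN cs R.nsys) {t : Y} (ht : t ∈ T) (i : I) :
    (∀ z ∈ (Bl R hgen cs' hcs).Pan i (QuotientGroup.mk g), t • z = z) ↔
      ∀ x ∈ X (sr i), (g⁻¹ * t * g) * x = x * (g⁻¹ * t * g) := by
  have hgt : g⁻¹ * t * g ∈ T := by
    obtain ⟨w, hw⟩ := hg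
    have h7 := mem_normalizer_iff_cj.1 hw.mem_normalizer
    have h8 : t ∈ cj g T := by rw [h7]; exact ht
    exact mem_cj.1 h8
  have key : ∀ x, (t • (QuotientGroup.mk (g * (x * n i)) : Y ⧸ (R.bnPair hgen).B) =
      QuotientGroup.mk (g * (x * n i))) ↔ ((g⁻¹ * t * g) • (QuotientGroup.mk (x * n i) : Y ⧸ (R.bnPair hgen).B) =
      QuotientGroup.mk (x * n i)) := by
    intro x
    rw [FixBN.OfBN.smul_mk_eq, FixBN.OfBN.smul_mk_eq]
    have : (g * (x * n i))⁻¹ * t * (g * (x * n i)) = (x * n i)⁻¹ * (g⁻¹ * t * g) * (x * n i) := by group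
    rw [this]
  constructor
  · intro hf x hx
    rw [← smul_x_iff (R := R) (hgen := hgen) hgt hx, ← key]
    exact hf _ ((mem_pan_iff hcs i g).2 (Or.inr ⟨x, hx, rfl⟩))
  · intro hf z hz
    rcases (mem_pan_iff hcs i g).1 hz with rfl | ⟨x, hx, rfl⟩
    · rw [FixBN.OfBN.smul_mk_eq]
      exact T_le_B hgt
    · rw [key, smul_x_iff (R := R) (hgen := hgen) hgt hx]
      exact hf x hx

theorem Nrm.fix_pan [Finite Y] (hg₀ : (QuotientGroup.mk g₀ : WP (R.bnPair hgen)) = w0 cs') {β : MulAut Y}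
    (hβ : Nrm R hgen g₀ β) {t : Y} {i : I} {x : Y ⧸ (R.bnPair hgen).B}
    (hf : ∀ z ∈ (Bl R hgen cs' hcs).Pan i x, t • z = z) :
    ∀ z ∈ (Bl R hgen cs' hcs).Pan (sg (eS R hgen) cs' hcs hβ.keep i) (act β hβ.keep x), β t • z = z := by
  have hI : Finite I := inferInstance
  have hW : Finite (WP (R.bnPair hgen)) := inferInstance
  have hC : Cox cs' := inferInstance
  intro z hz
  -- `z = β z'`
  set z' := act β⁻¹ hβ.keep.inv z with hz'
  have hzz : act β hβ.keep z' = z := by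
    rw [hz']
    induction z using QuotientGroup.induction_on with
    | _ a => rw [act_mk, act_mk, MulAut.apply_inv_self]
  have hmem : z' ∈ (Bl R hgen cs' hcs).Pan i x := by
    rw [← hzz] at hz
    rcases hz with hz | hz
    · left
      have h1 : (Bl R hgen cs' hcs).δ z' x = 1 := by
        have h2 := δ_act (eS R hgen) cs' hcs hβ.keep z' x
        rw [hz, ((Bl R hgen cs' hcs).eq_one _ _).2 rfl] at h2
        have h3 := fW_one β hβ.keep
        exact fW_injective β hβ.keep (h2.symm.trans h3.symm)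
      exact ((Bl R hgen cs' hcs).eq_one _ _).1 h1
    · right
      rw [δ_act, ← fW_simple' (eS R hgen) cs' hcs hβ.keep] at hz
      exact fW_injective β hβ.keep hz
  have h1 := hf z' hmem
  rw [← hzz]
  conv_rhs => rw [← h1]
  induction z' using QuotientGroup.induction_on with
  | _ a => rw [act_mk, FixBN.OfBN.smul_mk, FixBN.OfBN.smul_mk, act_mk, map_mul]

/-- `t` centralises `X (sr i)` implies `β t` centralises `X (sr (σ i))`. -/
theorem Nrm.cen (hcore : (B cs h T X).normalCore = ⊥) [Finite Y] [Fact p.Prime]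
    (hg₀ : (QuotientGroup.mk g₀ : WP (R.bnPair hgen)) = w0 cs') {β : MulAut Y}
    (hβ : Nrm R hgen g₀ β) {t : Y} (ht : t ∈ T) {i : I} (hc : ∀ x ∈ X (sr i), t * x = x * t) :
    ∀ x ∈ X (sr (sg (eS R hgen) cs' hcs hβ.keep i)), β t * x = x * β t := by
  have h1 := (fix_pan_iff (R := R) (hgen := hgen) hcs (g := 1) (one_mem _) ht i).2 (by simpa using hc)
  have h2 := hβ.fix_pan hcs hg₀ h1
  rw [act_mk, map_one] at h2
  have h3 := (fix_pan_iff (R := R) (hgen := hgen) hcs (g := 1) (one_mem _) (hβ.mem_T hcs hcore hg₀ ht) _).1 h2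
  simpa using h3

/-- `t` centralises `X (s_j (sr i))` implies `β t` centralises `X (s_{σ j} (sr (σ i)))`. -/
theorem Nrm.cen_rep (hcore : (B cs h T X).normalCore = ⊥) [Finite Y] [Fact p.Prime]
    (hg₀ : (QuotientGroup.mk g₀ : WP (R.bnPair hgen)) = w0 cs') {β : MulAut Y}
    (hβ : Nrm R hgen g₀ β) {t : Y} (ht : t ∈ T) {i j : I}
    (hc : ∀ x ∈ X (rep cs h (cs.simple j) (sr i)), t * x = x * t) :
    ∀ x ∈ X (rep cs h (cs.simple (sg (eS R hgen) cs' hcs hβ.keep j)) (sr (sg (eS R hgen) cs' hcs hβ.keep i))),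
      β t * x = x * β t := by
  have hnN : ∀ j, n j ∈ NN cs R.nsys := fun j => ⟨_, rp_simple cs R.nsys j⟩
  have key : ∀ (t : Y) (i j : I), (∀ x ∈ X (sr i), ((n j)⁻¹ * t * n j) * x = x * ((n j)⁻¹ * t * n j)) ↔
      ∀ x ∈ X (rep cs h (cs.simple j) (sr i)), t * x = x * t := by
    intro t i j
    have h0 := R.conj j (sr i) (isRoot_sr cs h i)
    constructor
    · intro hx x hxX
      rw [← h0] at hxX
      have h1 := hx _ (mem_cj.1 hxX)
      have h2 : ((n j)⁻¹ * t * n j) * ((n j)⁻¹ * x * n j) = (n j)⁻¹ * (t * x) * n j := by group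
      have h3 : ((n j)⁻¹ * x * n j) * ((n j)⁻¹ * t * n j) = (n j)⁻¹ * (x * t) * n j := by group
      rw [h2, h3] at h1
      exact mul_left_cancel (mul_right_cancel h1)
    · intro hx x hxX
      have h1 : n j * x * (n j)⁻¹ ∈ X (rep cs h (cs.simple j) (sr i)) := by
        rw [← h0]; exact conj_mem_cj.2 hxX
      have h2 := hx _ h1
      calc ((n j)⁻¹ * t * n j) * x = (n j)⁻¹ * (t * (n j * x * (n j)⁻¹)) * n j := by group
        _ = x * ((n j)⁻¹ * t * n j) := by rw [h2]; group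
  have h1 := (fix_pan_iff (R := R) (hgen := hgen) hcs (hnN j) ht i).2 ((key t i j).2 hc)
  have h2 := hβ.fix_pan hcs hg₀ h1
  rw [hβ.act_n hcs hg₀] at h2
  have h3 := (fix_pan_iff (R := R) (hgen := hgen) hcs (hnN _) (hβ.mem_T hcs hcore hg₀ ht) _).1 h2
  exact (key _ _ _).1 h3

/-- **Rigidity** for normalised type preserving automorphisms. -/
theorem Nrm.eq_conj (hcore : (B cs h T X).normalCore = ⊥) [Finite Y] [Fact p.Prime]
    (hg₀ : (QuotientGroup.mk g₀ : WP (R.bnPair hgen)) = w0 cs') {β : MulAut Y} (hβ : Nrm R hgen g₀ β)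
    (hs : ∀ i, sg (eS R hgen) cs' hcs hβ.keep i = i) {t : Y} (ht : t ∈ T)
    (hx : ∀ i, ∀ x ∈ X (sr i), act β hβ.keep (QuotientGroup.mk (x * n i)) =
      t • (QuotientGroup.mk (x * n i) : Y ⧸ (R.bnPair hgen).B)) : β = MulAut.conj t := by
  have hI : Finite I := inferInstance
  have hW : Finite (WP (R.bnPair hgen)) := inferInstance
  have hC : Cox cs' := inferInstance
  refine eq_conj_of_agree (eS R hgen) cs' hcs hcore hβ.keep hs (δ_d hcs hg₀) ?_ ?_
  · intro i y hy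
    rcases (mem_pan_iff hcs i 1).1 hy with rfl | ⟨x, hx', rfl⟩
    · rw [act_mk, map_one, eq_comm, FixBN.OfBN.smul_mk_eq, inv_one, one_mul, mul_one]
      exact T_le_B ht
    · rw [one_mul]
      exact hx i x hx'
  · rw [hβ.act_d, eq_comm, FixBN.OfBN.smul_mk_eq]
    exact ((mem_T_iff hcs hcore hg₀).1 ht).2

end Cfsg.Agent.OddHalf.Table.AutNorm
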