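import Cfsg.Agent.OddHalf.Table.AutBldg
import Cfsg.Agent.OddHalf.Table.Iface17

/-!
# Automorphisms of groups with root group data

helper328, for TABLE-17 of S1765.

* `exists_sys` : the Coxeter system of the (B, N)-pair of a root group datum;
* `pan_eq` : the panels of the base chamber;
* `exists_eq_conj` : root groups `X (sr i)` of order two: type preserving automorphisms are inner;
* `outSign_of_types` : `OutSign` when the diagram has at most one nontrivial automorphism (up to the product).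
-/

set_option autoImplicit false
set_option linter.unusedSectionVars false

namespace Cfsg.Agent.OddHalf.Table.AutRGD

open CoxeterSystem Cfsg.Agent.ChevalleyStructure.CoxeterGeom Cfsg.Agent.Tits.Roots Cfsg.Agent.Tits.Core
  Cfsg.Agent.Tits.RootComb Cfsg.Agent.Nodes.Comb Cfsg.Agent.Nodes.Reps Cfsg.Agent.Nodes.BNOf Cfsg.Agent.Nodes.BNOf.RGD
  Cfsg.Agent.FixBN Cfsg.Agent.Tits.OfBN Cfsg.Agent.Tits.OppRes Cfsg.Agent.LieExceptional.BNPairCore
  Cfsg.Agent.OddHalf.Table.AutBldg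

variable {I W Y : Type*} [Fintype I] [DecidableEq I] [Group W] [Group Y] {M : CoxeterMatrix I}
  {cs : CoxeterSystem M W} {A : I → I → ℤ} {h : IsCartan M A} {p : ℕ} {T : Subgroup Y} {n : I → Y}
  {X : (I → ℤ) → Subgroup Y} [Finite W]

section

variable (R : RGD cs h p T n X) (hgen : B cs h T X ⊔ NN cs R.nsys = ⊤)

/-- The Coxeter system of the (B, N)-pair. -/
theorem exists_sys [hN : (((R.bnPair hgen).B ⊓ (R.bnPair hgen).N).subgroupOf (R.bnPair hgen).N).Normal] :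
    ∃ cs' : CoxeterSystem M (WP (R.bnPair hgen)), ∀ i, cs'.simple i =
      QuotientGroup.mk (⟨n i, (R.bnPair hgen).subset ⟨i, rfl⟩⟩ : (R.bnPair hgen).N) := by
  have hlift : M.IsLiftable (fun i => (QuotientGroup.mk
      (⟨n i, (R.bnPair hgen).subset ⟨i, rfl⟩⟩ : (R.bnPair hgen).N) : WP (R.bnPair hgen))) := by
    intro i j
    rw [← QuotientGroup.mk_mul, ← QuotientGroup.mk_pow, QuotientGroup.eq_one_iff, Subgroup.mem_subgroupOf]
    refine ⟨?_, SetLike.coe_mem _⟩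
    rw [SubgroupClass.coe_pow]
    exact T_le_B (R.nsys.rel i j)
  set f : W →* WP (R.bnPair hgen) := cs.lift ⟨_, hlift⟩ with hf
  have hfs : ∀ i, f (cs.simple i) =
      QuotientGroup.mk (⟨n i, (R.bnPair hgen).subset ⟨i, rfl⟩⟩ : (R.bnPair hgen).N) :=
    fun i => cs.lift_apply_simple hlift i
  have key : ∀ w : W, ∃ g : (R.bnPair hgen).N, Rp cs R.nsys w (g : Y) ∧ f w = QuotientGroup.mk g := by
    intro w
    obtain ⟨ω, rfl⟩ := cs.wordProd_surjective w
    induction ω with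
    | nil => exact ⟨1, by rw [cs.wordProd_nil]; exact rp_one, by rw [cs.wordProd_nil, map_one]; rfl⟩
    | cons i ω ih =>
      obtain ⟨g, hg, hg'⟩ := ih
      refine ⟨⟨n i, (R.bnPair hgen).subset ⟨i, rfl⟩⟩ * g, ?_, ?_⟩
      · rw [cs.wordProd_cons]
        exact (rp_simple cs R.nsys i).mul hg
      · rw [cs.wordProd_cons, map_mul, hg', hfs]
        rfl
  have hinj : Function.Injective f := by
    rw [injective_iff_map_eq_one]
    intro w hw
    obtain ⟨g, hg, hg'⟩ := key w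
    rw [hw, eq_comm, QuotientGroup.eq_one_iff, Subgroup.mem_subgroupOf] at hg'
    exact R.eq_one_of_mem_B hg hg'.1
  have hsurj : Function.Surjective f := by
    intro x
    obtain ⟨m, rfl⟩ := QuotientGroup.mk_surjective x
    obtain ⟨w, hw⟩ := (mem_NN.1 m.2 : ∃ w, Rp cs R.nsys w (m : Y))
    obtain ⟨g, hg, hg'⟩ := key w
    refine ⟨w, ?_⟩
    rw [hg', mk_eq_iff]
    exact T_le_B (hg.unique hw)
  exact ⟨cs.map (MulEquiv.ofBijective f ⟨hinj, hsurj⟩), fun i => hfs i⟩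

/-- The index bijection. -/
noncomputable def eS : I ≃ (R.bnPair hgen).S := Equiv.ofInjective n R.n_injective

theorem eS_coe (i : I) : ((eS R hgen i : (R.bnPair hgen).S) : Y) = n i := rfl

/-- The chambers `i`-adjacent to the base chamber. -/
theorem pan_eq [hN : (((R.bnPair hgen).B ⊓ (R.bnPair hgen).N).subgroupOf (R.bnPair hgen).N).Normal]
    (cs' : CoxeterSystem M (WP (R.bnPair hgen)))
    (hcs : ∀ i, cs'.simple i = QuotientGroup.mk
      (⟨(eS R hgen i : Y), (R.bnPair hgen).subset (eS R hgen i).2⟩ : (R.bnPair hgen).N)) (i : I)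
    {z : Y ⧸ (R.bnPair hgen).B}
    (hz : (bldg (R.bnPair hgen) (eS R hgen) cs' hcs).δ (QuotientGroup.mk 1) z = cs'.simple i) :
    ∃ x ∈ X (sr i), z = QuotientGroup.mk (x * n i) := by
  induction z using QuotientGroup.induction_on with
  | _ b =>
  rw [bldg_δ_mk, hcs] at hz
  obtain ⟨b₁, hb₁, b₂, hb₂, h1⟩ := mem_C.1 (mem_C_of_wt _ hz)
  obtain ⟨v, hv, u, hu, t, ht, rfl⟩ := R.mem_B' i (show b₁ ∈ B cs h T X from hb₁)
  refine ⟨u, hu, ?_⟩
  rw [FixBN.OfBN.mk_eq]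
  have h2 : b = v * u * t * n i * b₂ := by
    have : (1 : Y)⁻¹ * b = v * u * t * n i * b₂ := h1
    simpa using this
  -- `u⁻¹ v u ∈ V`, `n⁻¹ V n = V`
  have h3 : u⁻¹ * v * u ∈ Sup X (PosNe cs h i) := by
    have := (Subgroup.mem_normalizer_iff.1 (R.X_le_normalizer_V i (inv_mem hu)) v).1 hv
    rwa [inv_inv] at this
  have h4 : (n i)⁻¹ * (u⁻¹ * v * u) * n i ∈ Sup X (PosNe cs h i) := by
    rw [← R.cj_n_V i] at h3
    exact mem_cj.1 h3
  have h5 : (n i)⁻¹ * (u⁻¹ * v * u) * n i ∈ B cs h T X :=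
    U_le_B (Sup_mono (S := PosNe cs h i) (S' := Pos cs h) (fun z hz => ⟨hz.1, hz.2.1⟩) h4)
  have h6 : (n i)⁻¹ * t * n i ∈ B cs h T X := by
    have h7 := mem_normalizer_iff_cj.1 (R.nsys.norm i)
    have h8 : t ∈ cj (n i) T := by rw [h7]; exact ht
    exact T_le_B (mem_cj.1 h8)
  have h9 : b⁻¹ * (u * n i) = b₂⁻¹ * ((n i)⁻¹ * t * n i)⁻¹ * ((n i)⁻¹ * (u⁻¹ * v * u) * n i)⁻¹ := by
    rw [h2]; group
  rw [h9]
  exact mul_mem (mul_mem (inv_mem hb₂) (inv_mem h6)) (inv_mem h5)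

/-- The Coxeter system, the pair and the splitting, all at once. -/
theorem exists_setup [Finite Y] [Fact p.Prime] (hcore : (B cs h T X).normalCore = ⊥) :
    ∃ (_ : (((R.bnPair hgen).B ⊓ (R.bnPair hgen).N).subgroupOf (R.bnPair hgen).N).Normal)
      (cs' : CoxeterSystem M (WP (R.bnPair hgen)))
      (_ : ∀ i, cs'.simple i = QuotientGroup.mk
        (⟨(eS R hgen i : Y), (R.bnPair hgen).subset (eS R hgen i).2⟩ : (R.bnPair hgen).N)),
      Finite (WP (R.bnPair hgen)) ∧ Split (R.bnPair hgen) p (Sup X (Pos cs h)) := by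
  have hN := Cfsg.Agent.Tits.OfBN.normal_subgroupOf (R.bnPair hgen)
  obtain ⟨cs', hcs⟩ := exists_sys R hgen
  exact ⟨hN, cs', hcs, inferInstance, SplitRGD.split_of_rgd (Fact.out) R hgen hcore⟩

include R hgen in
/-- **`q = 2`**: the automorphisms of a group with root groups of order two are determined, up to inner ones, by the
diagram automorphism. -/
theorem outSign_of_types [Finite Y] [Fact p.Prime] (hcore : (B cs h T X).normalCore = ⊥)
    (hX : ∀ i, ∃ r, ∀ x ∈ X (sr i), x = 1 ∨ x = r)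
    (hM : ∀ σ τ : I → I, Function.Injective σ → Function.Injective τ → (∀ i j, M (σ i) (σ j) = M i j) →
      (∀ i j, M (τ i) (τ j) = M i j) → (∃ i, σ i ≠ i) → (∃ i, τ i ≠ i) → ∀ i, σ (τ i) = i) :
    OutSign Y := by
  obtain ⟨hN, cs', hcs, hW, S⟩ := exists_setup R hgen hcore
  have hC : Cox cs' := inferInstance
  have h3 : ∀ i, ∀ x y z,
      (bldg (R.bnPair hgen) (eS R hgen) cs' hcs).δ (QuotientGroup.mk 1) x = cs'.simple i →
      (bldg (R.bnPair hgen) (eS R hgen) cs' hcs).δ (QuotientGroup.mk 1) y = cs'.simple i →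
      (bldg (R.bnPair hgen) (eS R hgen) cs' hcs).δ (QuotientGroup.mk 1) z = cs'.simple i →
      x = y ∨ x = z ∨ y = z := by
    intro i x y z hx hy hz
    obtain ⟨a, ha, rfl⟩ := pan_eq R hgen cs' hcs i hx
    obtain ⟨b, hb, rfl⟩ := pan_eq R hgen cs' hcs i hy
    obtain ⟨c, hc, rfl⟩ := pan_eq R hgen cs' hcs i hz
    obtain ⟨r, hr⟩ := hX i
    rcases hr a ha with rfl | rfl <;> rcases hr b hb with rfl | rfl <;> rcases hr c hc with rfl | rfl <;> simp
  -- the type of an automorphism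
  have key : ∀ α : MulAut Y, (∀ x, α ≠ MulAut.conj x) → ∃ (g : Y) (hα : Keep (R.bnPair hgen) (MulAut.conj g * α)),
      ∃ i, sg (eS R hgen) cs' hcs hα i ≠ i := by
    intro α hout
    obtain ⟨g, hg⟩ := exists_conj_keep S α
    refine ⟨g, hg, ?_⟩
    by_contra hcon
    push Not at hcon
    obtain ⟨u, -, hu⟩ := AutBldg.exists_eq_conj (eS R hgen) cs' hcs S h3 hg hcon
    apply hout (g⁻¹ * u)
    rw [map_mul, ← hu, map_inv]
    group
  refine OutSign.of_mul_inner fun α β hα hβ => ?_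
  obtain ⟨g, hg, i, hi⟩ := key α hα
  obtain ⟨k, hk, j, hj⟩ := key β hβ
  obtain ⟨u, -, hu⟩ := AutBldg.exists_eq_conj (eS R hgen) cs' hcs S h3 (hg.mul hk) (fun l => by
    rw [sg_mul]
    exact hM _ _ (sg_injective _ _ _ hg) (sg_injective _ _ _ hk) (sg_M _ _ _ hg) (sg_M _ _ _ hk) ⟨i, hi⟩ ⟨j, hj⟩ l)
  refine ⟨(α k)⁻¹ * g⁻¹ * u, ?_⟩
  apply MulEquiv.ext
  intro x
  have h5 : g * (α (k * β x * k⁻¹)) * g⁻¹ = u * x * u⁻¹ := DFunLike.congr_fun hu x
  rw [map_mul, map_mul, map_inv] at h5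
  show α (β x) = (α k)⁻¹ * g⁻¹ * u * x * ((α k)⁻¹ * g⁻¹ * u)⁻¹
  calc α (β x) = (α k)⁻¹ * g⁻¹ * (g * (α k * α (β x) * (α k)⁻¹) * g⁻¹) * g * α k := by group
    _ = (α k)⁻¹ * g⁻¹ * u * x * ((α k)⁻¹ * g⁻¹ * u)⁻¹ := by rw [h5]; group

end

end Cfsg.Agent.OddHalf.Table.AutRGD
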