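import Cfsg.Agent.Lib.BitNetSimple
import Cfsg.Agent.SporRec.R3.Kernel

/-!
Centralisers in the automorphism group of a graph given by rows: if `g` commutes with `E` and maps `p` to `q`, then
`g` maps `E^i p` to `E^i q`, so the adjacencies of `p, E^i p` and of `q, E^i q` agree, and the points with given
adjacencies to the points `E^i p` are mapped to those with the same adjacencies to the points `E^i q`.
-/

set_option autoImplicit false

namespace Cfsg.Agent.OddHalf.Table.NetCent

open Cfsg.Agent.Lib Cfsg.Agent.Lib.BitNet Cfsg.Agent.Lib.BitNetSimple Cfsg.Agent.SporRec.R3.Kernel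

/-- the permutation `σ` is given by `e` -/
def Acts {n : ℕ} (σ : Equiv.Perm (Fin n)) (e : ℕ → ℕ) : Prop := ∀ i : Fin n, ((σ i : Fin n) : ℕ) = e i

/-- bit `i` of `m`, as a number -/
def bitN (m i : ℕ) : ℕ := Nat.land (Nat.shiftRight m i) 1

theorem bitN_eq (m i : ℕ) : bitN m i = (m.testBit i).toNat := by
  have e : bitN m i = (m >>> i) &&& 1 := rfl
  rw [e, Nat.and_one_is_mod, Nat.toNat_testBit, Nat.shiftRight_eq_div_pow]

theorem testBit_eq_of_bitN {m i m' i' : ℕ} (h : bitN m i = bitN m' i') : m.testBit i = m'.testBit i' := by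
  rw [bitN_eq, bitN_eq] at h
  cases h1 : m.testBit i <;> cases h2 : m'.testBit i' <;> simp_all

/-! ### adjacency patterns -/

/-- the adjacency patterns of the two points differ -/
noncomputable def patNe (e : ℕ → ℕ) (r0 r1 : ℕ) (k : ℕ) : ℕ → ℕ → Bool :=
  Nat.rec (motive := fun _ => ℕ → ℕ → Bool) (fun _ _ => false)
    (fun _ ih a b => Bool.rec (motive := fun _ => Bool) true (force (e a) fun a' => force (e b) fun b' => ih a' b')
      (Nat.beq (bitN r0 a) (bitN r1 b))) k

/-- the points adjacent to the same members of the sequence -/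
noncomputable def colM (row e : ℕ → ℕ) (b : ℕ) (k : ℕ) : ℕ → ℕ → ℕ → ℕ :=
  Nat.rec (motive := fun _ => ℕ → ℕ → ℕ → ℕ) (fun _ _ m => m)
    (fun _ ih x x' m => force (Nat.land (row x') m) fun z =>
      force (Bool.rec (motive := fun _ => ℕ) (Nat.xor m z) z (tb (row x) b)) fun m' =>
        force (e x) fun a => force (e x') fun a' => ih a a' m') k

section

variable {n : ℕ} {row e : ℕ → ℕ} {g E : Equiv.Perm (Fin n)}

theorem patNe_sound (hg : g ∈ Aut n row) (hE : Acts E e) (hc : g * E = E * g) {p : Fin n} :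
    ∀ (k : ℕ) (a : Fin n), patNe e (row p) (row (g p)) k a (g a) = false
  | 0, _ => rfl
  | k + 1, a => by
    have e1 : patNe e (row p) (row (g p)) (k + 1) a (g a) =
      Bool.rec (motive := fun _ => Bool) true
        (force (e a) fun a' => force (e (g a)) fun b' => patNe e (row p) (row (g p)) k a' b')
        (Nat.beq (bitN (row p) a) (bitN (row (g p)) (g a))) := rfl
    have e2 : Nat.beq (bitN (row p) a) (bitN (row (g p)) (g a)) = true := by
      rw [bitN_eq, bitN_eq, (mem_Aut.1 hg) p a]
      exact Nat.beq_refl _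
    have e3 : g (E a) = E (g a) := DFunLike.congr_fun hc a
    rw [e1, e2]
    change (force (e a) fun a' => force (e (g a)) fun b' => patNe e (row p) (row (g p)) k a' b') = false
    rw [force_eq, force_eq, ← hE a, ← hE (g a), ← e3]
    exact patNe_sound hg hE hc k (E a)

theorem colM_sound (hg : g ∈ Aut n row) (hE : Acts E e) (hc : g * E = E * g) (b : Fin n) :
    ∀ (k : ℕ) (x : Fin n) (m : ℕ), m.testBit (g b) = true → (colM row e b k x (g x) m).testBit (g b) = true
  | 0, _, _, hm => hm
  | k + 1, x, m, hm => by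
    have e1 : colM row e b (k + 1) x (g x) m = force (Nat.land (row (g x)) m) fun z =>
      force (Bool.rec (motive := fun _ => ℕ) (Nat.xor m z) z (tb (row x) b)) fun m' =>
        force (e x) fun a => force (e (g x)) fun a' => colM row e b k a a' m' := rfl
    have e3 : g (E x) = E (g x) := DFunLike.congr_fun hc x
    rw [e1, force_eq, force_eq, force_eq, force_eq, ← hE x, ← hE (g x), ← e3]
    apply colM_sound hg hE hc b k (E x)
    have h1 : (row (g x)).testBit (g b) = (row x).testBit b := (mem_Aut.1 hg) x b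
    have h2 : (Nat.land (row (g x)) m).testBit (g b) = (row x).testBit b := by
      change (row (g x) &&& m).testBit (g b) = _
      rw [Nat.testBit_and, hm, Bool.and_true, h1]
    rw [tb_eq]
    cases h3 : (row x).testBit b
    · change (m ^^^ Nat.land (row (g x)) m).testBit (g b) = true
      rw [Nat.testBit_xor, h2, h3, hm]
      rfl
    · change (Nat.land (row (g x)) m).testBit (g b) = true
      rw [h2, h3]

/-- `g` fixes `b` -/
theorem fix_of_colM (hg : g ∈ Aut n row) (hE : Acts E e) (hc : g * E = E * g) {p b : Fin n} (hp : g p = p) {k : ℕ}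
    (h : Nat.beq (colM row e b k p p (Nat.sub (Nat.pow 2 n) 1)) (Nat.pow 2 b) = true) : g b = b := by
  have h0 : (2 ^ n - 1).testBit (g b) = true := by
    rw [Nat.testBit_two_pow_sub_one]
    simp
  have h1 := colM_sound hg hE hc b k p _ h0
  rw [hp] at h1
  have h2 : colM row e b k p p (2 ^ n - 1) = 2 ^ (b : ℕ) := Nat.eq_of_beq_eq_true h
  rw [h2, Nat.testBit_two_pow] at h1
  have h3 : (b : ℕ) = (g b : ℕ) := by simpa using h1
  exact (Fin.ext h3).symm

/-- `g p = q` is impossible -/
theorem ne_of_colM (hg : g ∈ Aut n row) (hE : Acts E e) (hc : g * E = E * g) {p q b : Fin n} {k : ℕ}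
    (h : Nat.beq (colM row e b k p q (Nat.sub (Nat.pow 2 n) 1)) 0 = true) : g p ≠ q := by
  intro hp
  have h0 : (2 ^ n - 1).testBit (g b) = true := by
    rw [Nat.testBit_two_pow_sub_one]
    simp
  have h1 := colM_sound hg hE hc b k p _ h0
  rw [hp] at h1
  have h2 : colM row e b k p q (2 ^ n - 1) = 0 := Nat.eq_of_beq_eq_true h
  rw [h2] at h1
  simp at h1

end

/-! ### representatives of the orbits -/

/-- the mask of a list -/
noncomputable def maskOf (l : List ℕ) : ℕ :=
  List.rec (motive := fun _ => ℕ) 0 (fun r _ ih => Nat.lor (Nat.pow 2 r) ih) l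

theorem testBit_maskOf (i : ℕ) : ∀ l : List ℕ, (maskOf l).testBit i = true → i ∈ l
  | [], h => by
    have e : maskOf [] = 0 := rfl
    rw [e] at h
    simp at h
  | r :: l, h => by
    have e : maskOf (r :: l) = 2 ^ r ||| maskOf l := rfl
    rw [e, Nat.testBit_or, Bool.or_eq_true] at h
    rcases h with h | h
    · rw [Nat.testBit_two_pow] at h
      have : r = i := by simpa using h
      rw [this]
      exact List.mem_cons_self
    · exact List.mem_cons_of_mem _ (testBit_maskOf i l h)

/-- every point of the mask is `E^k r` with `r` in the list -/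
def Rch {n : ℕ} (E : Equiv.Perm (Fin n)) (l : List ℕ) (x : ℕ) : Prop :=
  ∀ i : ℕ, x.testBit i = true → ∃ h : i < n, ∃ r : Fin n, (r : ℕ) ∈ l ∧ ∃ k : ℕ, (E ^ k) r = ⟨i, h⟩

theorem Rch.iter {n : ℕ} {E : Equiv.Perm (Fin n)} {net : List (ℕ × ℕ)} (ok : OkNet n net) (hE : Acts E (app net))
    {l : List ℕ} : ∀ (k : ℕ) {x : ℕ}, Rch E l x → Rch E l (iter [net] k x)
  | 0, _, hx => hx
  | k + 1, x, hx => by
    apply Rch.iter ok hE k
    intro i hi
    have hi' : (x ||| appM net x).testBit i = true := hi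
    rw [Nat.testBit_or, Bool.or_eq_true] at hi'
    rcases hi' with hi' | hi'
    · exact hx i hi'
    · rw [testBit_appM' ok.valid] at hi'
      obtain ⟨hlt, r, hr, j, hj⟩ := hx _ hi'
      have hin : i < n := (ok.inv_lt i).1 hlt
      refine ⟨hin, r, hr, j + 1, ?_⟩
      rw [pow_succ', Equiv.Perm.mul_apply, hj]
      apply Fin.ext
      rw [hE]
      exact app_appInv ok.valid i

/-- the orbits of the list cover everything -/
theorem exists_rep {n : ℕ} {E : Equiv.Perm (Fin n)} {net : List (ℕ × ℕ)} (ok : OkNet n net) (hE : Acts E (app net))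
    {l : List ℕ} {k : ℕ} (hl : allL (fun r => Nat.blt r n) l = true)
    (h : Nat.beq (iterF [net] k (maskOf l)) (Nat.sub (Nat.pow 2 n) 1) = true) (q : Fin n) :
    ∃ r : Fin n, (r : ℕ) ∈ l ∧ ∃ k : ℕ, (E ^ k) r = q := by
  have h0 : Rch E l (maskOf l) := by
    intro i hi
    have hm := testBit_maskOf i l hi
    have hlt : i < n := by
      have := (allL_iff _ _).1 hl i hm
      exact Nat.le_of_ble_eq_true this
    exact ⟨hlt, ⟨i, hlt⟩, hm, 0, rfl⟩
  have h1 := Rch.iter ok hE k h0
  rw [← iterF_eq, Nat.eq_of_beq_eq_true h] at h1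
  have h2 : (2 ^ n - 1).testBit q = true := by
    rw [Nat.testBit_two_pow_sub_one]
    simp
  obtain ⟨_, r, hr, j, hj⟩ := h1 q h2
  exact ⟨r, hr, j, hj⟩

/-- the adjacency pattern of every point of the list except `p`, `p'` differs from that of `p` -/
noncomputable def chkReps (row e : ℕ → ℕ) (k p p' : ℕ) (l : List ℕ) : Bool :=
  allL (fun r => Bool.rec (motive := fun _ => Bool)
    (Bool.rec (motive := fun _ => Bool) (force (row p) fun r0 => force (row r) fun r1 => patNe e r0 r1 k p r) true
      (Nat.beq r p')) true (Nat.beq r p)) l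

/-- **the centraliser of `E`** up to `⟨E⟩` -/
theorem cent_cases {n : ℕ} {row e : ℕ → ℕ} {E : Equiv.Perm (Fin n)} {net : List (ℕ × ℕ)} (ok : OkNet n net)
    (hE : Acts E (app net)) (hE' : Acts E e) {l : List ℕ} {k j : ℕ} (hl : allL (fun r => Nat.blt r n) l = true)
    (h : Nat.beq (iterF [net] k (maskOf l)) (Nat.sub (Nat.pow 2 n) 1) = true) (hEA : E ∈ Aut n row)
    {p : Fin n} {p' : ℕ} (hp : chkReps row e j p p' l = true) {g : Equiv.Perm (Fin n)} (hg : g ∈ Aut n row)
    (hc : g * E = E * g) :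
    ∃ i : ℕ, ((E ^ i)⁻¹ * g) p = p ∨ (((((E ^ i)⁻¹ * g) p : Fin n)) : ℕ) = p' := by
  obtain ⟨r, hr, i, hi⟩ := exists_rep ok hE hl h (g p)
  refine ⟨i, ?_⟩
  have e1 : ((E ^ i)⁻¹ * g) p = r := by
    rw [Equiv.Perm.mul_apply, ← hi]
    exact Equiv.symm_apply_apply _ _
  rw [e1]
  have h1 := (allL_iff _ _).1 hp r hr
  by_cases h2 : (r : ℕ) = p
  · exact Or.inl (Fin.ext h2)
  by_cases h3 : (r : ℕ) = p'
  · exact Or.inr h3
  exfalso
  have e2 : Nat.beq (r : ℕ) p = false := by
    cases h4 : Nat.beq (r : ℕ) p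
    · rfl
    · exact absurd (Nat.eq_of_beq_eq_true h4) h2
  have e3 : Nat.beq (r : ℕ) p' = false := by
    cases h4 : Nat.beq (r : ℕ) p'
    · rfl
    · exact absurd (Nat.eq_of_beq_eq_true h4) h3
  rw [e2, e3] at h1
  change (force (row p) fun r0 => force (row r) fun r1 => patNe e r0 r1 j p r) = true at h1
  rw [force_eq, force_eq] at h1
  have hc' : ((E ^ i)⁻¹ * g) * E = E * ((E ^ i)⁻¹ * g) := by
    have h5 : Commute g E := hc
    have h6 : Commute (E ^ i)⁻¹ E := ((Commute.refl E).pow_left i).inv_left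
    exact h6.mul_left h5
  have hg' : (E ^ i)⁻¹ * g ∈ Aut n row := mul_mem (inv_mem (pow_mem hEA i)) hg
  have h7 := patNe_sound hg' hE' hc' (p := p) j p
  rw [e1, h1] at h7
  exact absurd h7 (by decide)

end Cfsg.Agent.OddHalf.Table.NetCent
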