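import Cfsg.Agent.OddHalf.Table.NetCent

/-!
Centralisers in the automorphism group of a graph given by rows, up to a list of known elements.

* `triv_of_chain`: an automorphism which commutes with `E` and fixes `p` is trivial (kernel check: a chain of points,
  each determined by its adjacencies to the `E`-orbits of the previous ones).
* `cent_list`: every automorphism commuting with `E` is `E ^ i * s`, `s` in the list.
-/

set_option autoImplicit false

namespace Cfsg.Agent.OddHalf.Table.NetChain

open Cfsg.Agent.Lib Cfsg.Agent.Lib.BitNet Cfsg.Agent.Lib.BitNetSimple Cfsg.Agent.SporRec.R3.Kernel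
  Cfsg.Agent.OddHalf.Table.NetCent

/-- the points with the same membership in the sets of the list as `v` -/
noncomputable def isol (st : List ℕ) (v : ℕ) : ℕ → ℕ :=
  List.rec (motive := fun _ => ℕ → ℕ) (fun m => m)
    (fun x _ ih m => force (Nat.land m x) fun z =>
      force (Bool.rec (motive := fun _ => ℕ) (Nat.xor m z) z (tb x v)) ih) st

/-- add the rows of the orbit -/
noncomputable def addOrb (row e : ℕ → ℕ) (cont : List ℕ → Bool) (k : ℕ) : ℕ → List ℕ → Bool :=
  Nat.rec (motive := fun _ => ℕ → List ℕ → Bool) (fun _ st => cont st)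
    (fun _ ih a st => force (row a) fun x => force (e a) fun a' => ih a' (x :: st)) k

/-- each point of the list is determined by the rows of the orbits of the previous ones; at the end all points are
separated -/
noncomputable def chain (n : ℕ) (row e : ℕ → ℕ) (k : ℕ) (l : List ℕ) : List ℕ → Bool :=
  List.rec (motive := fun _ => List ℕ → Bool) (fun st => sep st (Nat.sub (Nat.pow 2 n) 1))
    (fun v _ ih st => Bool.rec (motive := fun _ => Bool) false (addOrb row e ih k v st)
      (Nat.beq (isol st v (Nat.sub (Nat.pow 2 n) 1)) (Nat.pow 2 v))) l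

section

variable {n : ℕ} {row e : ℕ → ℕ} {g E : Equiv.Perm (Fin n)}

theorem isol_sound {v : Fin n} : ∀ (st : List ℕ) (m : ℕ), (∀ x ∈ st, Inv g x) → m.testBit (g v) = true →
    (isol st v m).testBit (g v) = true
  | [], _, _, hm => hm
  | x :: st, m, hst, hm => by
    have e1 : isol (x :: st) v m = force (Nat.land m x) (fun z =>
      force (Bool.rec (motive := fun _ => ℕ) (Nat.xor m z) z (tb x v)) (isol st v)) := rfl
    rw [e1, force_eq, force_eq, tb_eq]
    apply isol_sound st _ (fun y hy => hst y (List.mem_cons_of_mem _ hy))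
    have h1 : x.testBit (g v) = x.testBit v := hst x List.mem_cons_self v
    cases h3 : x.testBit v
    · change (m ^^^ (m &&& x)).testBit (g v) = true
      rw [Nat.testBit_xor, Nat.testBit_and, hm, h1, h3]
      rfl
    · change (m &&& x).testBit (g v) = true
      rw [Nat.testBit_and, hm, h1, h3]
      rfl

theorem addOrb_sound (hg : g ∈ Aut n row) (hE : Acts E e) (hc : g * E = E * g) {P : Prop} {cont : List ℕ → Bool}
    (hcont : ∀ st, (∀ x ∈ st, Inv g x) → cont st = true → P) :
    ∀ (k : ℕ) (a : Fin n) (st : List ℕ), g a = a → (∀ x ∈ st, Inv g x) → addOrb row e cont k a st = true → P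
  | 0, _, st, _, hst, h => hcont st hst h
  | k + 1, a, st, ha, hst, h => by
    have e1 : addOrb row e cont (k + 1) a st = force (row a) (fun x => force (e a) fun a' =>
      addOrb row e cont k a' (x :: st)) := rfl
    rw [e1, force_eq, force_eq, ← hE a] at h
    refine addOrb_sound hg hE hc hcont k (E a) (row a :: st) ?_ ?_ h
    · have h1 : g (E a) = E (g a) := DFunLike.congr_fun hc a
      rw [h1, ha]
    · intro x hx
      rcases List.mem_cons.1 hx with rfl | hx
      · exact Inv.row hg ha
      · exact hst x hx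

theorem chain_sound (hg : g ∈ Aut n row) (hE : Acts E e) (hc : g * E = E * g) {k : ℕ} :
    ∀ (l : List ℕ), (∀ v ∈ l, v < n) → ∀ st : List ℕ, (∀ x ∈ st, Inv g x) → chain n row e k l st = true → g = 1
  | [], _, st, hst, h => by
    ext1 i
    have hU : ∀ j : Fin n, (Nat.sub (Nat.pow 2 n) 1).testBit j = true := by
      intro j
      change (2 ^ n - 1).testBit (j : ℕ) = true
      rw [Nat.testBit_two_pow_sub_one]
      simp
    apply Fin.ext
    exact sep_sound (l := st) h (hU _) (hU _) (fun x hx => hst x hx i)
  | v :: l, hl, st, hst, h => by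
    have e1 : chain n row e k (v :: l) st = Bool.rec (motive := fun _ => Bool) false
      (addOrb row e (chain n row e k l) k v st)
      (Nat.beq (isol st v (Nat.sub (Nat.pow 2 n) 1)) (Nat.pow 2 v)) := rfl
    rw [e1] at h
    have hv := hl v List.mem_cons_self
    cases h1 : Nat.beq (isol st v (Nat.sub (Nat.pow 2 n) 1)) (Nat.pow 2 v)
    · rw [h1] at h
      exact absurd h Bool.false_ne_true
    · rw [h1] at h
      refine addOrb_sound hg hE hc (chain_sound hg hE hc l fun w hw => hl w (List.mem_cons_of_mem _ hw)) k ⟨v, hv⟩ st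
        ?_ hst h
      have h2 := isol_sound (g := g) (v := ⟨v, hv⟩) st (2 ^ n - 1) hst (by
        rw [Nat.testBit_two_pow_sub_one]
        simp)
      have h3 : isol st v (2 ^ n - 1) = 2 ^ v := Nat.eq_of_beq_eq_true h1
      change (isol st v (2 ^ n - 1)).testBit _ = true at h2
      rw [h3, Nat.testBit_two_pow] at h2
      have h4 : v = (g ⟨v, hv⟩ : ℕ) := by simpa using h2
      exact (Fin.ext h4).symm

/-- an automorphism commuting with `E` and fixing `p` is trivial -/
theorem triv_of_chain (hg : g ∈ Aut n row) (hE : Acts E e) (hc : g * E = E * g) {k : ℕ} {p : Fin n} (hp : g p = p)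
    {l : List ℕ} (hl : allL (fun v => Nat.blt v n) l = true)
    (h : addOrb row e (chain n row e k l) k p [] = true) : g = 1 :=
  addOrb_sound hg hE hc (chain_sound hg hE hc l fun v hv => by
    have := (allL_iff _ _).1 hl v hv
    exact Nat.le_of_ble_eq_true this) k p [] hp (fun _ h => absurd h List.not_mem_nil) h

end

/-- no automorphism commuting with `E` maps `p` to `r`: the adjacency patterns of the two points differ, or no point
has the pattern of `w` -/
noncomputable def kill (n : ℕ) (row e : ℕ → ℕ) (k p w r : ℕ) : Bool :=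
  Bool.rec (motive := fun _ => Bool) (Nat.beq (colM row e w k p r (Nat.sub (Nat.pow 2 n) 1)) 0) true
    (force (row p) fun r0 => force (row r) fun r1 => patNe e r0 r1 k p r)

theorem kill_sound {n : ℕ} {row e : ℕ → ℕ} {g E : Equiv.Perm (Fin n)} (hg : g ∈ Aut n row) (hE : Acts E e)
    (hc : g * E = E * g) {k : ℕ} {p w r : Fin n} (h : kill n row e k p w r = true) : g p ≠ r := by
  intro hp
  unfold kill at h
  cases h1 : (force (row p) fun r0 => force (row r) fun r1 => patNe e r0 r1 k p r : Bool)
  · rw [h1] at h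
    exact ne_of_colM hg hE hc h hp
  · rw [force_eq, force_eq] at h1
    have h7 := patNe_sound hg hE hc (p := p) k p
    rw [hp, h1] at h7
    exact absurd h7 (by decide)

/-- **the centraliser of `E`** up to a list of elements -/
theorem cent_list {n : ℕ} {row e : ℕ → ℕ} {E : Equiv.Perm (Fin n)} {net : List (ℕ × ℕ)} (ok : OkNet n net)
    (hE : Acts E (app net)) (hE' : Acts E e) (hEA : E ∈ Aut n row) {seeds : List (Equiv.Perm (Fin n))}
    (hS : ∀ s ∈ seeds, s ∈ Aut n row ∧ s * E = E * s) {l0 l : List ℕ} {m k : ℕ} {p w : Fin n}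
    (hl0 : ∀ r ∈ l0, ∃ s ∈ seeds, ((s p : Fin n) : ℕ) = r) (hl : allL (fun r => Nat.blt r n) (l0 ++ l) = true)
    (hcov : Nat.beq (iterF [net] m (maskOf (l0 ++ l))) (Nat.sub (Nat.pow 2 n) 1) = true)
    (hkill : allL (fun r => kill n row e k p w r) l = true)
    (htriv : ∀ g ∈ Aut n row, g * E = E * g → g p = p → g = 1) {g : Equiv.Perm (Fin n)} (hg : g ∈ Aut n row)
    (hc : g * E = E * g) : ∃ i : ℕ, ∃ s ∈ seeds, g = E ^ i * s := by
  obtain ⟨r, hr, i, hi⟩ := exists_rep ok hE hl hcov (g p)
  have e1 : ((E ^ i)⁻¹ * g) p = r := by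
    rw [Equiv.Perm.mul_apply, ← hi]
    exact Equiv.symm_apply_apply _ _
  have hc' : ((E ^ i)⁻¹ * g) * E = E * ((E ^ i)⁻¹ * g) := by
    have h5 : Commute g E := hc
    have h6 : Commute (E ^ i)⁻¹ E := ((Commute.refl E).pow_left i).inv_left
    exact h6.mul_left h5
  have hg' : (E ^ i)⁻¹ * g ∈ Aut n row := mul_mem (inv_mem (pow_mem hEA i)) hg
  rcases List.mem_append.1 hr with h0 | h0
  · obtain ⟨s, hs, hsp⟩ := hl0 _ h0
    refine ⟨i, s, hs, ?_⟩
    have h1 : s p = r := Fin.ext hsp
    have h2 : s⁻¹ * ((E ^ i)⁻¹ * g) = 1 := by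
      apply htriv _ (mul_mem (inv_mem (hS s hs).1) hg')
      · have h5 : Commute s E := (hS s hs).2
        have h6 : Commute ((E ^ i)⁻¹ * g) E := hc'
        exact h5.inv_left.mul_left h6
      · rw [Equiv.Perm.mul_apply, e1, ← h1]
        exact Equiv.symm_apply_apply _ _
    have h3 : (E ^ i)⁻¹ * g = s := by
      rw [← mul_one s, ← h2]
      group
    rw [← h3]
    group
  · exfalso
    exact kill_sound hg' hE' hc' ((allL_iff _ _).1 hkill _ h0) e1

end Cfsg.Agent.OddHalf.Table.NetChain
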