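import Mathlib
import Cfsg.Agent.OddHalf.Table.Iface17

/-!
Signs from the index: if `N` is normal in `G` and `4` does not divide `|G : N|`, then every `g` outside `N` with
`g * g ∈ N` is mapped to `-1` by a homomorphism `G →* ℤˣ` which is trivial on `N`.
-/

set_option autoImplicit false

namespace Cfsg.Agent.OddHalf.Table.OutIndex

open Equiv.Perm

/-- The sign of the left multiplication. -/
theorem sign_leftMul {Q : Type*} [Group Q] [Fintype Q] [DecidableEq Q] {g : Q} (h1 : g ≠ 1)
    (h2 : g * g = 1) (h4 : ¬ 4 ∣ Fintype.card Q) :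
    sign (MulAction.toPerm g : Equiv.Perm Q) = -1 := by
  set σ : Equiv.Perm Q := MulAction.toPerm g with hσ
  have hs : σ.support = Finset.univ := by
    ext x
    simp [hσ, h1]
  have hp : σ ^ 2 = 1 := by
    ext x
    simp [hσ, pow_two, ← mul_assoc, h2]
  have hc : ∀ c ∈ σ.cycleType, c = 2 := by
    intro c hc
    have := Equiv.Perm.dvd_of_mem_cycleType hc
    have h3 : orderOf σ ∣ 2 := orderOf_dvd_of_pow_eq_one hp
    have h5 : 2 ≤ c := Equiv.Perm.two_le_of_mem_cycleType hc
    exact le_antisymm (Nat.le_of_dvd (by norm_num) (this.trans h3)) h5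
  have hr : σ.cycleType = Multiset.replicate (Multiset.card σ.cycleType) 2 :=
    Multiset.eq_replicate_card.2 hc
  have hsum : σ.cycleType.sum = 2 * Multiset.card σ.cycleType := by
    conv_lhs => rw [hr]
    rw [Multiset.sum_replicate, smul_eq_mul, mul_comm]
  have hcard : 2 * Multiset.card σ.cycleType = Fintype.card Q := by
    rw [← hsum, sum_cycleType, hs, Finset.card_univ]
  rw [sign_of_cycleType, hsum]
  have hodd : Odd (Multiset.card σ.cycleType) := by
    rcases Nat.even_or_odd (Multiset.card σ.cycleType) with h | h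
    · exfalso
      obtain ⟨k, hk⟩ := h
      exact h4 ⟨k, by omega⟩
    · exact h
  rw [pow_add, pow_mul]
  simp [hodd.neg_one_pow]

/-- **Signs.** -/
theorem exists_sign {G : Type*} [Group G] (N : Subgroup G) [N.Normal] (h0 : N.index ≠ 0)
    (h4 : ¬ 4 ∣ N.index) {g : G} (hg : g ∉ N) (hgg : g * g ∈ N) :
    ∃ lam : G →* ℤˣ, (∀ n ∈ N, lam n = 1) ∧ lam g = -1 := by
  classical
  have : Finite (G ⧸ N) := Nat.finite_of_card_ne_zero (by simpa [Subgroup.index] using h0)
  have : Fintype (G ⧸ N) := Fintype.ofFinite _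
  refine ⟨(sign.comp (MulAction.toPermHom (G ⧸ N) (G ⧸ N))).comp (QuotientGroup.mk' N), ?_, ?_⟩
  · intro n hn
    have : QuotientGroup.mk' N n = 1 := by simpa using hn
    rw [MonoidHom.comp_apply, this, map_one]
  · rw [MonoidHom.comp_apply, MonoidHom.comp_apply]
    refine sign_leftMul (g := (QuotientGroup.mk' N g)) ?_ ?_ ?_
    · simpa using hg
    · rw [← map_mul]; exact (QuotientGroup.eq_one_iff _).2 hgg
    · rwa [← Nat.card_eq_fintype_card]

variable {X : Type*} [Group X]

/-- The index of the inner automorphisms. -/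
theorem index_range_conj [Finite X] (hZ : Subgroup.center X = ⊥) {n : ℕ}
    (h : Nat.card (MulAut X) = n * Nat.card X) : (MulAut.conj : X →* MulAut X).range.index = n := by
  have hinj : Function.Injective (MulAut.conj : X →* MulAut X) := by
    rw [← MonoidHom.ker_eq_bot_iff, eq_bot_iff, ← hZ]
    intro x hx
    rw [Subgroup.mem_center_iff]
    intro y
    have h1 := DFunLike.congr_fun (MonoidHom.mem_ker.1 hx) y
    rw [MulAut.conj_apply, MulAut.one_apply] at h1
    calc y * x = (x * y * x⁻¹) * x := by rw [h1]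
      _ = x * y := by group
  have h1 := Subgroup.card_mul_index (MulAut.conj : X →* MulAut X).range
  have h2 : Nat.card (MulAut.conj : X →* MulAut X).range = Nat.card X :=
    (Nat.card_congr (MonoidHom.ofInjective hinj).toEquiv).symm
  rw [h2, h, mul_comm] at h1
  exact Nat.eq_of_mul_eq_mul_right Nat.card_pos h1

/-- Outer involutory automorphisms are detected by signs when `|Out X|` is not divisible by `4`. -/
theorem exists_lam (h0 : (MulAut.conj : X →* MulAut X).range.index ≠ 0)
    (h4 : ¬ 4 ∣ (MulAut.conj : X →* MulAut X).range.index) {α : MulAut X} (h2 : α * α = 1)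
    (hα : ∀ x : X, MulAut.conj x ≠ α) :
    ∃ lam : MulAut X →* ℤˣ, (∀ x : X, lam (MulAut.conj x) = 1) ∧ lam α = -1 := by
  have : (MulAut.conj : X →* MulAut X).range.Normal := by
    refine ⟨?_⟩
    rintro _ ⟨x, rfl⟩ β
    exact ⟨β x, by ext y; simp [MulAut.conj_apply]⟩
  obtain ⟨lam, h, h'⟩ := exists_sign (MulAut.conj : X →* MulAut X).range h0 h4 (g := α)
    (by rintro ⟨x, hx⟩; exact hα x hx) (by rw [h2]; exact Subgroup.one_mem _)
  exact ⟨lam, fun x => h _ ⟨x, rfl⟩, h'⟩

/-- The form for the rows: `|Aut X| = n |X|` with `4 ∤ n`. -/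
theorem exists_lam_of_card {X' : Type*} [Group X'] [Finite X] (e : X' ≃* X)
    (hZ : Subgroup.center X = ⊥) {n : ℕ} (h : Nat.card (MulAut X) = n * Nat.card X) (hn : n ≠ 0)
    (h4 : ¬ 4 ∣ n) {α : MulAut X'} (h2 : α * α = 1) (hα : ∀ x : X', MulAut.conj x ≠ α) :
    ∃ lam : MulAut X' →* ℤˣ, (∀ x : X', lam (MulAut.conj x) = 1) ∧ lam α = -1 := by
  have hcong : ∀ x : X', MulAut.congr e (MulAut.conj x) = MulAut.conj (e x) := by
    intro x
    ext y
    simp [MulAut.congr, MulAut.conj_apply]
  have hi := index_range_conj hZ h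
  obtain ⟨lam, hl, hl'⟩ := exists_lam (X := X) (by rw [hi]; exact hn) (by rw [hi]; exact h4)
    (α := MulAut.congr e α) (by rw [← map_mul, h2, map_one]) (by
      intro x hx
      refine hα (e.symm x) ((MulAut.congr e).injective ?_)
      rw [hcong, e.apply_symm_apply, hx])
  refine ⟨lam.comp (MulAut.congr e).toMonoidHom, fun x => ?_, hl'⟩
  change lam (MulAut.congr e (MulAut.conj x)) = 1
  rw [hcong]
  exact hl _

/-- **`OutSign` from the index of the inner automorphisms.** -/
theorem outSign_of_not_four_dvd (h0 : (MulAut.conj : X →* MulAut X).range.index ≠ 0)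
    (h4 : ¬ 4 ∣ (MulAut.conj : X →* MulAut X).range.index) : OutSign X :=
  fun _ h2 hα => exists_lam h0 h4 h2 fun x hx => hα x hx.symm

/-- `OutSign` from `|Aut X| = n |X|`, `4 ∤ n`. -/
theorem outSign_of_card [Finite X] (hZ : Subgroup.center X = ⊥) {n : ℕ}
    (h : Nat.card (MulAut X) = n * Nat.card X) (hn : n ≠ 0) (h4 : ¬ 4 ∣ n) : OutSign X := by
  have hi := index_range_conj hZ h
  exact outSign_of_not_four_dvd (by rwa [hi]) (by rwa [hi])

/-- A finite simple group with more automorphisms than elements has trivial centre. -/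
theorem center_eq_bot_of_card [Finite X] [IsSimpleGroup X] (h : Nat.card X < Nat.card (MulAut X)) :
    Subgroup.center X = ⊥ := by
  rcases (inferInstance : (Subgroup.center X).Normal).eq_bot_or_eq_top with h1 | h1
  · exact h1
  · exfalso
    have hc : ∀ x y : X, x * y = y * x := fun x y =>
      (Subgroup.mem_center_iff.1 (h1 ▸ Subgroup.mem_top x : x ∈ Subgroup.center X) y).symm
    let _ : CommGroup X := { (inferInstance : Group X) with mul_comm := hc }
    have : IsCyclic X := inferInstance
    obtain ⟨g, hg⟩ := IsCyclic.exists_generator (α := X)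
    have hinj : Function.Injective (fun α : MulAut X => α g) := by
      intro α β hαβ
      ext x
      obtain ⟨k, rfl⟩ := hg x
      have h2 : α g = β g := hαβ
      change α (g ^ k) = β (g ^ k)
      rw [map_zpow, map_zpow, h2]
    exact absurd (Nat.card_le_card_of_injective _ hinj) (not_le.2 h)

/-- `OutSign` for finite simple groups from `|Aut X| = n |X|`, `2 ≤ n`, `4 ∤ n`. -/
theorem outSign_of_card_simple [Finite X] [IsSimpleGroup X] {n : ℕ}
    (h : Nat.card (MulAut X) = n * Nat.card X) (hn : 2 ≤ n) (h4 : ¬ 4 ∣ n) : OutSign X := by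
  have h0 : 0 < Nat.card X := Nat.card_pos
  refine outSign_of_card (center_eq_bot_of_card ?_) h (by omega) h4
  rw [h]
  nlinarith

end Cfsg.Agent.OddHalf.Table.OutIndex
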