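import Mathlib
import Cfsg.Agent.OddHalf.Table.OutIndex

/-!
Signs by the Frattini argument: let `⟨y⟩` be a Sylow `p`-subgroup of order `p` of a finite group `K` with trivial
centre, `8 ∤ p - 1`, which is normalised by an involution. If no involutory automorphism of `K` fixes `y`, then `K`
has `OutSign`.
-/

set_option autoImplicit false

namespace Cfsg.Agent.OddHalf.Table.OutFrat

open Subgroup

variable {K : Type*} [Group K]

theorem conj_injective (hZ : Subgroup.center K = ⊥) : Function.Injective (MulAut.conj : K →* MulAut K) := by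
  rw [← MonoidHom.ker_eq_bot_iff, eq_bot_iff, ← hZ]
  intro x hx
  rw [Subgroup.mem_center_iff]
  intro y
  have h1 := DFunLike.congr_fun (MonoidHom.mem_ker.1 hx) y
  rw [MulAut.conj_apply, MulAut.one_apply] at h1
  calc y * x = (x * y * x⁻¹) * x := by rw [h1]
    _ = x * y := by group

theorem mul_conj (α : MulAut K) (x : K) : α * MulAut.conj x * α⁻¹ = MulAut.conj (α x) := by
  ext z
  simp [MulAut.conj_apply]

theorem normal_range : (MulAut.conj : K →* MulAut K).range.Normal := by
  refine ⟨?_⟩
  rintro _ ⟨x, rfl⟩ β
  exact ⟨β x, by ext y; simp [MulAut.conj_apply]⟩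

/-- **signs by the Frattini argument** -/
theorem outSign_of_sylow [Finite K] (hZ : Subgroup.center K = ⊥) {p : ℕ} [hp : Fact p.Prime] {y t : K} (hy : orderOf y = p)
    (hc : (Nat.card K).factorization p = 1) (h8 : ¬ 8 ∣ p - 1) (ht : t ≠ 1) (ht2 : t * t = 1)
    (hty : t * y * t⁻¹ ∈ zpowers y) (hα : ∀ α : MulAut K, α * α = 1 → α y = y → α = 1) : OutSign K := by
  classical
  have inj := conj_injective hZ
  have : Finite (MulAut K) := Finite.of_injective (fun α : MulAut K => (α : K → K)) DFunLike.coe_injective
  set N : Subgroup (MulAut K) := (MulAut.conj : K →* MulAut K).range with hN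
  have : N.Normal := normal_range
  have cN : Nat.card N = Nat.card K := (Nat.card_congr (MonoidHom.ofInjective inj).toEquiv).symm
  set z : MulAut K := MulAut.conj y with hz
  have zN : z ∈ N := ⟨y, rfl⟩
  have oz : orderOf z = p := by rw [hz, orderOf_injective _ inj, hy]
  have hle : zpowers z ≤ N := by rw [zpowers_le]; exact zN
  -- the Sylow subgroup
  let P : Sylow p N := Sylow.ofCard ((zpowers z).subgroupOf N) (by
    rw [cN, hc, pow_one, Nat.card_congr (subgroupOfEquivOfLe hle).toEquiv, Nat.card_zpowers, oz])
  have hmap : (P : Subgroup N).map N.subtype = zpowers z := by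
    change ((zpowers z).subgroupOf N).map N.subtype = zpowers z
    rw [subgroupOf_map_subtype, inf_eq_left.2 hle]
  have hfr := Sylow.normalizer_sup_eq_top P
  rw [hmap] at hfr
  set M : Subgroup (MulAut K) := normalizer (zpowers z : Set (MulAut K)) with hM
  have hidx : N.index = (N.subgroupOf M).index := by
    have h := relIndex_sup_right M N
    rw [hfr, relIndex_top_right] at h
    exact h
  -- the kernel has odd order
  set φ := (zpowers z).normalizerMonoidHom with hφ
  have hodd : ¬ 2 ∣ Nat.card φ.ker := by
    intro h2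
    have : Fact (Nat.Prime 2) := ⟨Nat.prime_two⟩
    obtain ⟨β, hβ⟩ := exists_prime_orderOf_dvd_card' 2 h2
    have key : ∀ m : M, m ∈ φ.ker → (m : MulAut K) ∈ centralizer (zpowers z : Set (MulAut K)) := by
      intro m hm
      rw [hφ, normalizerMonoidHom_ker] at hm
      exact hm
    have hβk := key β β.2
    set α : MulAut K := ((β : M) : MulAut K) with hαd
    have hc1 : z * α = α * z := mem_centralizer_iff.1 hβk z (mem_zpowers z)
    have h1 : α y = y := by
      apply inj
      rw [← mul_conj, ← hz, ← hc1, mul_inv_cancel_right]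
    have h3 : β * β = 1 := by rw [← pow_two, ← hβ]; exact pow_orderOf_eq_one β
    have h4 : α * α = 1 := by
      have := congrArg (fun x : φ.ker => ((x : M) : MulAut K)) h3
      exact this
    have h5 := hα α h4 h1
    have h6 : β = 1 := Subtype.ext (Subtype.ext h5)
    rw [h6, orderOf_one] at hβ
    exact absurd hβ (by norm_num)
  have hcM : Nat.card φ.ker * Nat.card φ.range = Nat.card M := by
    rw [← index_ker, card_mul_index]
  have hdiv : Nat.card φ.range ∣ p - 1 := by
    have h := Subgroup.card_subgroup_dvd_card φ.range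
    rw [IsCyclic.card_mulAut, Nat.card_zpowers, oz, Nat.totient_prime hp.out] at h
    exact h
  -- the involution
  have htM : MulAut.conj t ∈ M := by
    have hyt : ∃ k : ℤ, y ^ k = t * y * t⁻¹ := hty
    obtain ⟨k, hk⟩ := hyt
    have e : MulAut.conj t * z * (MulAut.conj t)⁻¹ = z ^ k := by
      rw [hz, mul_conj, MulAut.conj_apply, ← hk, map_zpow]
    rw [hM]
    apply mem_normalizer_fintype
    rintro _ ⟨j, rfl⟩
    change MulAut.conj t * z ^ j * (MulAut.conj t)⁻¹ ∈ zpowers z
    rw [← conj_zpow, e, ← zpow_mul]
    exact ⟨k * j, rfl⟩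
  have h2N : 2 ∣ Nat.card (N.subgroupOf M) := by
    have hh : orderOf (⟨⟨MulAut.conj t, htM⟩, ⟨t, rfl⟩⟩ : N.subgroupOf M) = 2 := by
      apply orderOf_eq_prime
      · apply Subtype.ext
        apply Subtype.ext
        change MulAut.conj t ^ 2 = 1
        rw [pow_two, ← map_mul, ht2, map_one]
      · intro h
        have h' : MulAut.conj t = 1 := congrArg (fun x : N.subgroupOf M => ((x : M) : MulAut K)) h
        exact ht (inj (by rw [h', map_one]))
    rw [← hh]
    exact orderOf_dvd_natCard _
  refine OutIndex.outSign_of_not_four_dvd ?_ ?_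
  · exact FiniteIndex.index_ne_zero
  · intro h4
    rw [hidx] at h4
    have h8' : 8 ∣ Nat.card M := by
      rw [← card_mul_index (N.subgroupOf M)]
      exact mul_dvd_mul h2N h4
    rw [← hcM] at h8'
    have hcop : Nat.Coprime 8 (Nat.card φ.ker) := by
      have : Nat.Coprime 2 (Nat.card φ.ker) := (Nat.Prime.coprime_iff_not_dvd Nat.prime_two).2 hodd
      exact Nat.Coprime.pow_left 3 this
    exact h8 ((hcop.dvd_of_dvd_mul_left h8').trans hdiv)

end Cfsg.Agent.OddHalf.Table.OutFrat
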