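import Cfsg.Agent.OddHalf.Table.AutNorm

/-!
# `OutSign` for a root group datum of rank two over the field with four elements

helper328 (TABLE-17 of S1765). `Dat`: the torus `T` is elementary abelian of order nine, generated by `k0`, `k1`; `k0`
(`k1`) centralises `X (sr 0)` (`X (sr 1)`), `k1` (`k0`) is transitive on its nonidentity elements; `k0 k1` and not `k0`
centralises `X (s_1 (sr 0))`; `k1` centralises `X (s_0 (sr 1))`. This is the situation in `G2(4)`.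

`outSign_of_dat`: the group of outer automorphisms has order at most two.
-/

set_option autoImplicit false
set_option linter.unusedSectionVars false

namespace Cfsg.Agent.OddHalf.Table.OutRankTwo

theorem dvd_of_pow_mem {G : Type*} [Group G] {C : Subgroup G} {g : G} (h3 : g ^ 3 = 1) (hg : g ∉ C) {b : ℕ}
    (hb : g ^ b ∈ C) : 3 ∣ b := by
  have h1 : g ^ b = g ^ (b % 3) := pow_eq_pow_mod b h3
  rw [h1] at hb
  have h2 : b % 3 < 3 := Nat.mod_lt _ (by norm_num)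
  interval_cases hr : b % 3
  · exact Nat.dvd_of_mod_eq_zero hr
  · exact absurd (by simpa using hb) hg
  · exfalso
    apply hg
    have h4 := mul_mem hb hb
    have e : g ^ 2 * g ^ 2 = g := by
      calc g ^ 2 * g ^ 2 = g ^ 3 * g := by group
        _ = g := by rw [h3, one_mul]
    rwa [e] at h4

/-- The situation in `G2(4)`. -/
structure Dat {Y : Type*} [Group Y] (T X0 X1 X01 X10 : Subgroup Y) (k0 k1 : Y) : Prop where
  m0 : k0 ∈ T
  m1 : k1 ∈ T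
  o0 : k0 ^ 3 = 1
  o1 : k1 ^ 3 = 1
  com : k0 * k1 = k1 * k0
  gen : ∀ t ∈ T, ∃ a b : ℕ, t = k0 ^ a * k1 ^ b
  c0 : k0 ∈ Subgroup.centralizer (X0 : Set Y)
  c1 : k1 ∈ Subgroup.centralizer (X1 : Set Y)
  tr0 : ∀ x ∈ X0, ∀ y ∈ X0, x ≠ 1 → y ≠ 1 → ∃ a : ℕ, k1 ^ a * x * (k1 ^ a)⁻¹ = y
  tr1 : ∀ x ∈ X1, ∀ y ∈ X1, x ≠ 1 → y ≠ 1 → ∃ a : ℕ, k0 ^ a * x * (k0 ^ a)⁻¹ = y
  n0 : k1 ∉ Subgroup.centralizer (X0 : Set Y)
  n1 : k0 ∉ Subgroup.centralizer (X1 : Set Y)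
  r1 : k0 * k1 ∈ Subgroup.centralizer (X01 : Set Y)
  r1' : k0 ∉ Subgroup.centralizer (X01 : Set Y)
  r0 : k1 ∈ Subgroup.centralizer (X10 : Set Y)

namespace Dat

variable {Y : Type*} [Group Y] {T X0 X1 X01 X10 : Subgroup Y} {k0 k1 : Y} (D : Dat T X0 X1 X01 X10 k0 k1)

include D

theorem cen0 {t : Y} (ht : t ∈ T) (hc : t ∈ Subgroup.centralizer (X0 : Set Y)) : ∃ a : ℕ, t = k0 ^ a := by
  obtain ⟨a, b, rfl⟩ := D.gen t ht
  have h1 : k1 ^ b ∈ Subgroup.centralizer (X0 : Set Y) := by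
    have := mul_mem (inv_mem (pow_mem D.c0 a)) hc
    rwa [inv_mul_cancel_left] at this
  obtain ⟨c, rfl⟩ := dvd_of_pow_mem D.o1 D.n0 h1
  exact ⟨a, by rw [pow_mul, D.o1, one_pow, mul_one]⟩

theorem cen1 {t : Y} (ht : t ∈ T) (hc : t ∈ Subgroup.centralizer (X1 : Set Y)) : ∃ b : ℕ, t = k1 ^ b := by
  obtain ⟨a, b, rfl⟩ := D.gen t ht
  have h1 : k0 ^ a ∈ Subgroup.centralizer (X1 : Set Y) := by
    have := mul_mem hc (inv_mem (pow_mem D.c1 b))
    rwa [mul_inv_cancel_right] at this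
  obtain ⟨c, rfl⟩ := dvd_of_pow_mem D.o0 D.n1 h1
  exact ⟨b, by rw [pow_mul, D.o0, one_pow, one_mul]⟩

theorem cen01 {t : Y} (ht : t ∈ T) (hc : t ∈ Subgroup.centralizer (X0 : Set Y))
    (hc' : t ∈ Subgroup.centralizer (X01 : Set Y)) : t = 1 := by
  obtain ⟨a, rfl⟩ := D.cen0 ht hc
  obtain ⟨c, rfl⟩ := dvd_of_pow_mem D.o0 D.r1' hc'
  rw [pow_mul, D.o0, one_pow]

theorem comm {s t : Y} (hs : s ∈ T) (ht : t ∈ T) : s * t = t * s := by
  obtain ⟨a, b, rfl⟩ := D.gen s hs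
  obtain ⟨c, d, rfl⟩ := D.gen t ht
  have h1 : Commute k0 k1 := D.com
  have h2 : Commute (k0 ^ a * k1 ^ b) (k0 ^ c * k1 ^ d) := by
    refine Commute.mul_left ?_ ?_ <;> refine Commute.mul_right ?_ ?_
    · exact Commute.pow_pow_self _ _ _
    · exact h1.pow_pow _ _
    · exact h1.symm.pow_pow _ _
    · exact Commute.pow_pow_self _ _ _
  exact h2

theorem k1_ne : k1 ≠ 1 := by
  rintro rfl
  exact D.n0 (one_mem _)

theorem pow_three {t : Y} (ht : t ∈ T) : t ^ 3 = 1 := by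
  obtain ⟨a, b, rfl⟩ := D.gen t ht
  have h1 : Commute (k0 ^ a) (k1 ^ b) := (show Commute k0 k1 from D.com).pow_pow _ _
  rw [h1.mul_pow, ← pow_mul, ← pow_mul, mul_comm a, mul_comm b, pow_mul, pow_mul, D.o0, D.o1, one_pow, one_pow,
    one_mul]

end Dat

open CoxeterSystem Cfsg.Agent.ChevalleyStructure.CoxeterGeom Cfsg.Agent.Tits.Roots Cfsg.Agent.Tits.Core
  Cfsg.Agent.Tits.RootComb Cfsg.Agent.Nodes.Comb Cfsg.Agent.Nodes.Reps Cfsg.Agent.Nodes.BNOf Cfsg.Agent.Nodes.BNOf.RGD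
  Cfsg.Agent.FixBN Cfsg.Agent.Tits.OfBN Cfsg.Agent.Tits.OppRes Cfsg.Agent.LieExceptional.BNPairCore
  Cfsg.Agent.OddHalf.Table.AutBldg Cfsg.Agent.OddHalf.Table.AutRGD Cfsg.Agent.OddHalf.Table.AutNorm
  Cfsg.Agent.FixBN.TwOfBN

variable {W Y : Type*} [Group W] [Group Y] {M : CoxeterMatrix (Fin 2)}
  {cs : CoxeterSystem M W} {A : Fin 2 → Fin 2 → ℤ} {h : IsCartan M A} {p : ℕ} {T : Subgroup Y} {n : Fin 2 → Y}
  {X : (Fin 2 → ℤ) → Subgroup Y} [Finite W]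

section

variable {R : RGD cs h p T n X} {hgen : B cs h T X ⊔ NN cs R.nsys = ⊤}
  [hN : (((R.bnPair hgen).B ⊓ (R.bnPair hgen).N).subgroupOf (R.bnPair hgen).N).Normal]
  {cs' : CoxeterSystem M (WP (R.bnPair hgen))}
  (hcs : ∀ i, cs'.simple i = QuotientGroup.mk
    (⟨(eS R hgen i : Y), (R.bnPair hgen).subset (eS R hgen i).2⟩ : (R.bnPair hgen).N))
  {g₀ : (R.bnPair hgen).N} (hg₀ : (QuotientGroup.mk g₀ : WP (R.bnPair hgen)) = w0 cs')
  [Finite Y] [Fact p.Prime] (hcore : (B cs h T X).normalCore = ⊥) {k0 k1 : Y}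
  (D : Dat T (X (sr 0)) (X (sr 1)) (X (rep cs h (cs.simple 1) (sr 0))) (X (rep cs h (cs.simple 0) (sr 1))) k0 k1)

include hcs hg₀ hcore D

/-- The type permutation is trivial. -/
theorem sg_eq {β : MulAut Y} (hβ : Nrm R hgen g₀ β) : ∀ i, sg (eS R hgen) cs' hcs hβ.keep i = i := by
  set σ := sg (eS R hgen) cs' hcs hβ.keep with hσ
  have hinj : Function.Injective σ := sg_injective _ _ _ hβ.keep
  have key : σ 1 ≠ 0 := by
    intro h1
    have h0 : σ 0 = 1 := by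
      have h2 : σ 0 ≠ 0 := fun h2 => absurd (hinj (h2.trans h1.symm)) (by decide)
      omega
    have hk : β k1 = 1 := by
      apply D.cen01 (hβ.mem_T hcs hcore hg₀ D.m1)
      · rw [Subgroup.mem_centralizer_iff]
        intro x hx
        have h3 := hβ.cen hcs hcore hg₀ D.m1 (i := 1) (fun x hx => ((Subgroup.mem_centralizer_iff.1 D.c1) x hx).symm)
        rw [← hσ, h1] at h3
        exact (h3 x hx).symm
      · rw [Subgroup.mem_centralizer_iff]
        intro x hx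
        have h3 := hβ.cen_rep hcs hcore hg₀ D.m1 (i := 1) (j := 0)
          (fun x hx => ((Subgroup.mem_centralizer_iff.1 D.r0) x hx).symm)
        rw [← hσ, h1, h0] at h3
        exact (h3 x hx).symm
    apply D.k1_ne
    rw [← map_one β] at hk
    exact β.injective hk
  have h11 : σ 1 = 1 := by omega
  have h00 : σ 0 = 0 := by
    have h2 : σ 0 ≠ 1 := fun h2 => absurd (hinj (h2.trans h11.symm)) (by decide)
    omega
  intro i
  fin_cases i
  · exact h00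
  · exact h11

/-- A normalised automorphism acts on `T` as a power. -/
theorem exists_pow {β : MulAut Y} (hβ : Nrm R hgen g₀ β) : ∃ a : ℕ, ∀ t ∈ T, β t = t ^ a := by
  have hσ := sg_eq hcs hg₀ hcore D hβ
  have hc : ∀ {t : Y} (_ : t ∈ T) {i : Fin 2}, t ∈ Subgroup.centralizer (X (sr i) : Set Y) →
      β t ∈ Subgroup.centralizer (X (sr i) : Set Y) := by
    intro t ht i hti
    rw [Subgroup.mem_centralizer_iff] at hti ⊢
    intro x hx
    have h3 := hβ.cen hcs hcore hg₀ ht (i := i) (fun x hx => (hti x hx).symm)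
    rw [hσ] at h3
    exact (h3 x hx).symm
  have hr : ∀ {t : Y} (_ : t ∈ T) {i j : Fin 2},
      t ∈ Subgroup.centralizer (X (rep cs h (cs.simple j) (sr i)) : Set Y) →
      β t ∈ Subgroup.centralizer (X (rep cs h (cs.simple j) (sr i)) : Set Y) := by
    intro t ht i j hti
    rw [Subgroup.mem_centralizer_iff] at hti ⊢
    intro x hx
    have h3 := hβ.cen_rep hcs hcore hg₀ ht (i := i) (j := j) (fun x hx => (hti x hx).symm)
    rw [hσ, hσ] at h3
    exact (h3 x hx).symm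
  obtain ⟨a, ha⟩ := D.cen0 (hβ.mem_T hcs hcore hg₀ D.m0) (hc D.m0 D.c0)
  obtain ⟨b, hb⟩ := D.cen1 (hβ.mem_T hcs hcore hg₀ D.m1) (hc D.m1 D.c1)
  have h1 := hr (mul_mem D.m0 D.m1) D.r1
  rw [map_mul, ha, hb] at h1
  -- `k0 ^ a * k1 ^ b = (k0 k1) ^ b * k0 ^ (a - b)`
  have hcom : Commute k0 k1 := D.com
  have h2 : k0 ^ (a + 2 * b) ∈ Subgroup.centralizer (X (rep cs h (cs.simple 1) (sr 0)) : Set Y) := by
    have h3 := mul_mem h1 (pow_mem D.r1 (2 * b))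
    have e : k0 ^ a * k1 ^ b * (k0 * k1) ^ (2 * b) = k0 ^ (a + 2 * b) := by
      rw [hcom.mul_pow, pow_add]
      calc k0 ^ a * k1 ^ b * (k0 ^ (2 * b) * k1 ^ (2 * b)) = k0 ^ a * (k1 ^ b * k0 ^ (2 * b)) * k1 ^ (2 * b) := by
            group
        _ = k0 ^ a * k0 ^ (2 * b) * (k1 ^ b * k1 ^ (2 * b)) := by
            rw [((hcom.pow_pow (2 * b) b).eq).symm]; group
        _ = k0 ^ a * k0 ^ (2 * b) := by
            rw [← pow_add k1, show b + 2 * b = 3 * b by ring, pow_mul k1, D.o1, one_pow, mul_one]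
    rwa [e] at h3
  obtain ⟨c, hc'⟩ := dvd_of_pow_mem D.o0 D.r1' h2
  have hab : k1 ^ b = k1 ^ a := by
    have h5 : k1 ^ (3 * b) = 1 := by rw [pow_mul, D.o1, one_pow]
    have h6 : k1 ^ (3 * c) = 1 := by rw [pow_mul, D.o1, one_pow]
    have h7 : k1 ^ a * k1 ^ (2 * b) = 1 := by rw [← pow_add, hc', h6]
    have h8 : k1 ^ b * k1 ^ (2 * b) = 1 := by rw [← pow_add, show b + 2 * b = 3 * b by ring, h5]
    exact mul_right_cancel (h8.trans h7.symm)
  refine ⟨a, fun t ht => ?_⟩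
  obtain ⟨x, y, rfl⟩ := D.gen t ht
  rw [map_mul, map_pow, map_pow, ha, hb, hab, (hcom.pow_pow x y).mul_pow, ← pow_mul, ← pow_mul, ← pow_mul, ← pow_mul,
    mul_comm a x, mul_comm a y]

omit hg₀ hcore D in
theorem δ_x (i : Fin 2) {x : Y} (hx : x ∈ X (sr i)) :
    (Bl R hgen cs' hcs).δ (QuotientGroup.mk 1) (QuotientGroup.mk (x * n i)) = cs'.simple i := by
  rw [bldg_δ_mk, hcs]
  apply wt_of_mem
  rw [inv_one, one_mul]
  exact mul_mem_C_left (X_le_B (isRoot_sr cs h i) (sr_nonneg i) hx) (self_mem_C _)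

omit hcs hg₀ hcore D in
omit hN in
theorem act_inj {β : MulAut Y} (hβ : Keep (R.bnPair hgen) β) {x y : Y ⧸ (R.bnPair hgen).B}
    (he : act β hβ x = act β hβ y) : x = y := by
  induction x using QuotientGroup.induction_on with
  | _ a =>
  induction y using QuotientGroup.induction_on with
  | _ b =>
  rw [act_mk, act_mk, FixBN.OfBN.mk_eq, ← map_inv, ← map_mul] at he
  exact FixBN.OfBN.mk_eq.2 ((hβ _).1 he)

omit hcs hg₀ hcore D in
omit hN in
theorem x_eq_one {i : Fin 2} {x : Y} (hx : x ∈ X (sr i))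
    (he : (QuotientGroup.mk (x * n i) : Y ⧸ (R.bnPair hgen).B) = QuotientGroup.mk (n i)) : x = 1 := by
  rw [FixBN.OfBN.mk_eq] at he
  have h1 : (n i)⁻¹ * x⁻¹ * n i ∈ B cs h T X := by
    have e : (x * n i)⁻¹ * n i = (n i)⁻¹ * x⁻¹ * n i := by group
    rw [← e]; exact he
  have h2 : (n i)⁻¹ * x⁻¹ * n i ∈ X (-sr i) := by
    have := R.conj_mem' (rp_simple cs R.nsys i) (isRoot_sr cs h i) (inv_mem hx)
    rwa [inv_simple, rep_simple_sr] at this
  by_contra hne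
  have hne' : (n i)⁻¹ * x⁻¹ * n i ≠ 1 := by
    intro h3
    apply hne
    have e : x = ((n i) * ((n i)⁻¹ * x⁻¹ * n i) * (n i)⁻¹)⁻¹ := by group
    rw [e, h3]; group
  obtain ⟨a, ha, t, ht, b, hb, e⟩ := R.rk1 i _ h2 hne'
  have h3 : n i = (a * t)⁻¹ * ((n i)⁻¹ * x⁻¹ * n i) * b⁻¹ := by rw [e]; group
  have h4 : n i ∈ B cs h T X := by
    rw [h3]
    exact mul_mem (mul_mem (inv_mem (mul_mem (X_le_B (isRoot_sr cs h i) (sr_nonneg i) ha) (T_le_B ht))) h1)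
      (inv_mem (X_le_B (isRoot_sr cs h i) (sr_nonneg i) hb))
  have h5 := R.eq_one_of_mem_B (rp_simple cs R.nsys i) h4
  have h6 := rep_simple_sr cs h i
  rw [h5, map_one, Module.End.one_apply] at h6
  have h7 := congrFun h6 i
  rw [Pi.neg_apply, sr_self] at h7
  exact absurd h7 (by decide)

/-- A normalised automorphism which centralises `T` is inner. -/
theorem inner_of_id {β : MulAut Y} (hβ : Nrm R hgen g₀ β) (hid : ∀ t ∈ T, β t = t) :
    ∃ t : Y, β = MulAut.conj t := by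
  have hσ := sg_eq hcs hg₀ hcore D hβ
  have hTn : ∀ (i : Fin 2), ∀ s ∈ T, (n i)⁻¹ * s * n i ∈ (R.bnPair hgen).B := by
    intro i s hs
    have h7 := mem_normalizer_iff_cj.1 (R.nsys.norm i)
    have h8 : s ∈ cj (n i) T := by rw [h7]; exact hs
    exact T_le_B (mem_cj.1 h8)
  have hT : ∀ (i : Fin 2), ∀ s ∈ T, ∀ x : Y, (QuotientGroup.mk (s * x * s⁻¹ * n i) : Y ⧸ (R.bnPair hgen).B) =
      s • QuotientGroup.mk (x * n i) := by
    intro i s hs x
    rw [FixBN.OfBN.smul_mk, FixBN.OfBN.mk_eq]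
    have e : (s * x * s⁻¹ * n i)⁻¹ * (s * (x * n i)) = (n i)⁻¹ * s * n i := by group
    rw [e]
    exact hTn i s hs
  -- the value of `β` on a chamber
  have hval : ∀ i, ∀ x ∈ X (sr i), x ≠ 1 → ∃ y ∈ X (sr i), y ≠ 1 ∧
      act β hβ.keep (QuotientGroup.mk (x * n i)) = (QuotientGroup.mk (y * n i) : Y ⧸ (R.bnPair hgen).B) := by
    intro i x hx hx1
    have h2 : (Bl R hgen cs' hcs).δ (QuotientGroup.mk 1) (act β hβ.keep (QuotientGroup.mk (x * n i))) =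
        cs'.simple i := by
      have h3 := δ_act (eS R hgen) cs' hcs hβ.keep (QuotientGroup.mk 1) (QuotientGroup.mk (x * n i))
      rw [δ_x hcs i hx, fW_simple' (eS R hgen) cs' hcs hβ.keep, hσ, act_mk, map_one] at h3
      exact h3
    obtain ⟨y, hy, h3⟩ := pan_eq R hgen cs' hcs i h2
    refine ⟨y, hy, ?_, h3⟩
    rintro rfl
    rw [one_mul] at h3
    have h4 := hβ.act_n hcs hg₀ i
    rw [hσ] at h4
    exact hx1 (x_eq_one hx (act_inj hβ.keep (h3.trans h4.symm)))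
  -- the value of `β` on a panel
  have hpan : ∀ (i : Fin 2) (k : Y), k ∈ T → (∀ x ∈ X (sr i), ∀ y ∈ X (sr i), x ≠ 1 → y ≠ 1 →
      ∃ a : ℕ, k ^ a * x * (k ^ a)⁻¹ = y) → ∃ a : ℕ, ∀ x ∈ X (sr i), act β hβ.keep (QuotientGroup.mk (x * n i)) =
        (k ^ a) • (QuotientGroup.mk (x * n i) : Y ⧸ (R.bnPair hgen).B) := by
    intro i k hk htr
    have hfix : ∀ a : ℕ, act β hβ.keep (QuotientGroup.mk (1 * n i)) =
        (k ^ a) • (QuotientGroup.mk (1 * n i) : Y ⧸ (R.bnPair hgen).B) := by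
      intro a
      have h4 := hβ.act_n hcs hg₀ i
      rw [hσ] at h4
      rw [one_mul, h4, eq_comm, FixBN.OfBN.smul_mk_eq]
      exact hTn i _ (pow_mem hk a)
    by_cases hex : ∃ x ∈ X (sr i), x ≠ 1
    · obtain ⟨x₀, hx₀, hx₀1⟩ := hex
      obtain ⟨y₀, hy₀, hy₀1, he⟩ := hval i x₀ hx₀ hx₀1
      obtain ⟨a, ha⟩ := htr x₀ hx₀ y₀ hy₀ hx₀1 hy₀1
      refine ⟨a, fun x hx => ?_⟩
      by_cases hx1 : x = 1
      · rw [hx1]; exact hfix a
      · obtain ⟨b, hb⟩ := htr x₀ hx₀ x hx hx₀1 hx1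
        have hkb := pow_mem hk b
        have hka := pow_mem hk a
        rw [← hb, hT i _ hkb, FixBN.OfBN.smul_mk, act_mk, map_mul, hid _ hkb]
        have h5 : (QuotientGroup.mk (k ^ b * β (x₀ * n i)) : Y ⧸ (R.bnPair hgen).B) =
            (k ^ b) • act β hβ.keep (QuotientGroup.mk (x₀ * n i)) := by
          rw [act_mk, FixBN.OfBN.smul_mk]
        rw [h5, he, ← ha, hT i _ hka]
        simp only [FixBN.OfBN.smul_mk]
        congr 1
        calc k ^ b * (k ^ a * (x₀ * n i)) = k ^ (b + a) * (x₀ * n i) := by rw [pow_add, mul_assoc]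
          _ = k ^ a * (k ^ b * (x₀ * n i)) := by rw [add_comm, pow_add, mul_assoc]
    · push Not at hex
      refine ⟨0, fun x hx => ?_⟩
      rw [hex x hx]
      exact hfix 0
  obtain ⟨a, ha⟩ := hpan 0 k1 D.m1 D.tr0
  obtain ⟨b, hb⟩ := hpan 1 k0 D.m0 D.tr1
  have hTx : ∀ (i : Fin 2) (s k : Y), s ∈ T → k ∈ T → s ∈ Subgroup.centralizer (X (sr i) : Set Y) →
      ∀ x ∈ X (sr i), (s * k) • (QuotientGroup.mk (x * n i) : Y ⧸ (R.bnPair hgen).B) =
        k • QuotientGroup.mk (x * n i) := by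
    intro i s k hs hk hc x hx
    rw [D.comm hs hk, mul_smul, (smul_x_iff (R := R) (hgen := hgen) hs hx).2
      (((Subgroup.mem_centralizer_iff.1 hc) x hx).symm)]
  have ht : k0 ^ b * k1 ^ a ∈ T := mul_mem (pow_mem D.m0 b) (pow_mem D.m1 a)
  refine ⟨k0 ^ b * k1 ^ a, hβ.eq_conj hcs hcore hg₀ hσ ht ?_⟩
  intro i x hx
  have hi : i = 0 ∨ i = 1 := by omega
  rcases hi with rfl | rfl
  · rw [ha x hx, hTx 0 _ _ (pow_mem D.m0 b) (pow_mem D.m1 a) (pow_mem D.c0 b) x hx]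
  · rw [hb x hx, D.comm (pow_mem D.m0 b) (pow_mem D.m1 a),
      hTx 1 _ _ (pow_mem D.m1 a) (pow_mem D.m0 b) (pow_mem D.c1 a) x hx]

end

/-- **Rank two, `q = 4`.** -/
theorem outSign_of_dat (R : RGD cs h p T n X) (hgen : B cs h T X ⊔ NN cs R.nsys = ⊤) [Finite Y] [Fact p.Prime]
    (hcore : (B cs h T X).normalCore = ⊥) {k0 k1 : Y}
    (D : Dat T (X (sr 0)) (X (sr 1)) (X (rep cs h (cs.simple 1) (sr 0))) (X (rep cs h (cs.simple 0) (sr 1))) k0 k1) :
    OutSign Y := by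
  obtain ⟨hN, cs', hcs, hW, S⟩ := exists_setup R hgen hcore
  obtain ⟨g₀, hg₀⟩ := exists_g0 R hgen cs'
  -- a normalised noninner automorphism inverts `T`
  have key : ∀ α : MulAut Y, (∀ x, α ≠ MulAut.conj x) → ∃ g : Y, Nrm R hgen g₀ (MulAut.conj g * α) ∧
      ∀ t ∈ T, (MulAut.conj g * α) t = t⁻¹ := by
    intro α hout
    obtain ⟨g, hg⟩ := exists_nrm hcs hcore hg₀ α
    refine ⟨g, hg, ?_⟩
    obtain ⟨a, ha⟩ := exists_pow hcs hg₀ hcore D hg
    have h1 : ∀ t ∈ T, t ^ a = t ^ (a % 3) := fun t ht => pow_eq_pow_mod a (D.pow_three ht)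
    have h2 : a % 3 < 3 := Nat.mod_lt _ (by norm_num)
    have h3 : a % 3 = 0 ∨ a % 3 = 1 ∨ a % 3 = 2 := by omega
    rcases h3 with h3 | h3 | h3
    · exfalso
      apply D.k1_ne
      have h4 := ha k1 D.m1
      rw [h1 _ D.m1, h3, pow_zero, ← map_one (MulAut.conj g * α)] at h4
      exact (MulAut.conj g * α).injective h4
    · exfalso
      obtain ⟨t, ht⟩ := inner_of_id hcs hg₀ hcore D hg (fun t ht => by rw [ha t ht, h1 t ht, h3, pow_one])
      apply hout (g⁻¹ * t)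
      rw [map_mul, ← ht, map_inv]
      group
    · intro t ht
      rw [ha t ht, h1 t ht, h3, eq_inv_iff_mul_eq_one, ← pow_succ]
      exact D.pow_three ht
  refine OutSign.of_mul_inner fun α β hα hβ => ?_
  obtain ⟨g, hg, hgi⟩ := key α hα
  obtain ⟨k, hk, hki⟩ := key β hβ
  obtain ⟨u, hu⟩ := inner_of_id hcs hg₀ hcore D (hg.mul hk) (fun t ht => by
    rw [MulAut.mul_apply, hki t ht, hgi _ (inv_mem ht), inv_inv])
  refine ⟨(α k)⁻¹ * g⁻¹ * u, ?_⟩
  apply MulEquiv.ext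
  intro x
  have h5 : g * (α (k * β x * k⁻¹)) * g⁻¹ = u * x * u⁻¹ := DFunLike.congr_fun hu x
  rw [map_mul, map_mul, map_inv] at h5
  show α (β x) = (α k)⁻¹ * g⁻¹ * u * x * ((α k)⁻¹ * g⁻¹ * u)⁻¹
  calc α (β x) = (α k)⁻¹ * g⁻¹ * (g * (α k * α (β x) * (α k)⁻¹) * g⁻¹) * g * α k := by group
    _ = (α k)⁻¹ * g⁻¹ * u * x * ((α k)⁻¹ * g⁻¹ * u)⁻¹ := by rw [h5]; group

end Cfsg.Agent.OddHalf.Table.OutRankTwo
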