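import Cfsg.Agent.StdSz.CoverD
import Cfsg.Agent.OddHalf.Table.Iface17

/-!
# 2-automorphisms of the Suzuki groups are inner

`inner`: an automorphism of 2-power order of `Sz(2^(2m+1))` (`m ≥ 1`) is inner; `inner_eight`: the case `Sz(8)`.
-/

set_option autoImplicit false

open Subgroup

namespace Cfsg.Agent.OddHalf.Table.OutSz8

open Cfsg.Agent.LieRecognition Cfsg.Agent.StdSz

/-- An automorphism of 2-power order of `Sz(F)` is inner. -/
theorem inner {X : Type*} [Group X] {F : Type*} [Field F] [Fintype F] {m : ℕ} (hm : 1 ≤ m)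
    (hF : Fintype.card F = 2 ^ (2 * m + 1)) (e : X ≃* ↥(Cfsg.Lie.Sz F (2 ^ (m + 1)))) (α : MulAut X)
    (hα : ∃ k : ℕ, α ^ 2 ^ k = 1) : ∃ x : X, α = MulAut.conj x := by
  have := EquivMaps.charP_two hF
  have : Finite X := Finite.of_equiv _ e.symm.toEquiv
  let R0 : ThreePrime.SzRel.Rel ↥(Cfsg.Lie.Sz F (2 ^ (m + 1))) F :=
    ThreePrime.SzRel.ofGood (SzMatrix.good hF)
  let R : ThreePrime.SzRel.Rel X F := R0.map e.symm
  exact R.inner hm hF α hα

/-- `Sz(8)` has no outer involutory automorphisms. -/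
theorem inner_eight {X : Type*} [Group X] {F : Type*} [Field F] [Fintype F]
    (hF : Fintype.card F = 8) (e : X ≃* ↥(Cfsg.Lie.Sz F 4)) (α : MulAut X) (hα : α * α = 1) :
    ∃ x : X, α = MulAut.conj x :=
  inner (m := 1) le_rfl hF e α ⟨1, by rw [pow_one, pow_two, hα]⟩

/-- The row `Sz(8)`. -/
theorem outSign {X : Type*} [Group X] {F : Type*} [Field F] [Fintype F]
    (hF : Fintype.card F = 8) (e : X ≃* ↥(Cfsg.Lie.Sz F 4)) : OutSign X := by
  intro α hα hout
  obtain ⟨x, hx⟩ := inner_eight hF e α hα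
  exact absurd hx (hout x)

end Cfsg.Agent.OddHalf.Table.OutSz8
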