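import Cfsg.Agent.OddHalf.Table.AutNorm
import Cfsg.Agent.OddHalf.Table.OutChevTwo

/-!
# `OutSign` for a root group datum of type `F₄` with torus of order three: `2E6(2)`

helper328 (TABLE-17 of S1765).

* `outSign_of_subgroup` : `OutSign` from a subgroup `C` of index at most two of `Aut X` containing the inner
  automorphisms, all of whose involutions are inner;
* `Nrm.pan_pow` : a normalised automorphism commuting with a transitive torus element `k` acts on the panel as a power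
  of `k`;
* `outSign_of_dat` : type `F₄`, torus of order three, long root groups of order two.
-/

set_option autoImplicit false
set_option linter.unusedSectionVars false

namespace Cfsg.Agent.OddHalf.Table.OutTorus

open CoxeterSystem Cfsg.Agent.ChevalleyStructure.CoxeterGeom Cfsg.Agent.Tits.Roots Cfsg.Agent.Tits.Core
  Cfsg.Agent.Tits.RootComb Cfsg.Agent.Nodes.Comb Cfsg.Agent.Nodes.Reps Cfsg.Agent.Nodes.BNOf Cfsg.Agent.Nodes.BNOf.RGD
  Cfsg.Agent.FixBN Cfsg.Agent.Tits.OfBN Cfsg.Agent.Tits.OppRes Cfsg.Agent.LieExceptional.BNPairCore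
  Cfsg.Agent.OddHalf.Table.AutBldg Cfsg.Agent.OddHalf.Table.AutRGD Cfsg.Agent.OddHalf.Table.AutNorm
  Cfsg.Agent.FixBN.TwOfBN

theorem outSign_of_subgroup {X : Type*} [Group X] (C : Subgroup (MulAut X)) (hinn : ∀ x : X, MulAut.conj x ∈ C)
    (hmul : ∀ α β : MulAut X, α ∉ C → β ∉ C → α * β ∈ C)
    (hC : ∀ α ∈ C, α * α = 1 → ∃ x, α = MulAut.conj x) : OutSign X := by
  classical
  intro α hα hout
  have hmem : ∀ {β γ : MulAut X}, β ∈ C → (β * γ ∈ C ↔ γ ∈ C) := fun hβ => C.mul_mem_cancel_left hβ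
  have hmem' : ∀ {β γ : MulAut X}, γ ∈ C → (β * γ ∈ C ↔ β ∈ C) := fun hγ => C.mul_mem_cancel_right hγ
  let f : MulAut X → ℤˣ := fun β => if β ∈ C then 1 else -1
  have f1 : ∀ β, β ∈ C → f β = 1 := fun β hβ => if_pos hβ
  have f2 : ∀ β, β ∉ C → f β = -1 := fun β hβ => if_neg hβ
  let lam : MulAut X →* ℤˣ := MonoidHom.mk' f (fun β γ => by
    by_cases hβ : β ∈ C
    · rw [f1 β hβ, one_mul]
      by_cases hγ : γ ∈ C
      · rw [f1 γ hγ, f1 _ (mul_mem hβ hγ)]
      · rw [f2 γ hγ, f2 _ (fun h => hγ ((hmem hβ).1 h))]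
    · rw [f2 β hβ]
      by_cases hγ : γ ∈ C
      · rw [f1 γ hγ, mul_one, f2 _ (fun h => hβ ((hmem' hγ).1 h))]
      · rw [f2 γ hγ, f1 _ (hmul β γ hβ hγ)]
        decide)
  refine ⟨lam, fun x => f1 _ (hinn x), ?_⟩
  apply f2
  intro h
  obtain ⟨x, hx⟩ := hC α h hα
  exact hout x hx

variable {I W Y : Type*} [Fintype I] [DecidableEq I] [Group W] [Group Y] {M : CoxeterMatrix I}
  {cs : CoxeterSystem M W} {A : I → I → ℤ} {h : IsCartan M A} {p : ℕ} {T : Subgroup Y} {n : I → Y}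
  {X : (I → ℤ) → Subgroup Y} [Finite W]

section

variable {R : RGD cs h p T n X} {hgen : B cs h T X ⊔ NN cs R.nsys = ⊤}
  [hN : (((R.bnPair hgen).B ⊓ (R.bnPair hgen).N).subgroupOf (R.bnPair hgen).N).Normal]
  {cs' : CoxeterSystem M (WP (R.bnPair hgen))}
  (hcs : ∀ i, cs'.simple i = QuotientGroup.mk
    (⟨(eS R hgen i : Y), (R.bnPair hgen).subset (eS R hgen i).2⟩ : (R.bnPair hgen).N))

omit [Finite W] hN in
theorem simple_conj_T (R : RGD cs h p T n X) (i : I) {s : Y} (hs : s ∈ T) : (n i)⁻¹ * s * n i ∈ T := by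
  have h7 := mem_normalizer_iff_cj.1 (R.nsys.norm i)
  have h8 : s ∈ cj (n i) T := by rw [h7]; exact hs
  exact mem_cj.1 h8

theorem δ_x (i : I) {x : Y} (hx : x ∈ X (sr i)) :
    (Bl R hgen cs' hcs).δ (QuotientGroup.mk 1) (QuotientGroup.mk (x * n i)) = cs'.simple i := by
  rw [bldg_δ_mk, hcs]
  apply wt_of_mem
  rw [inv_one, one_mul]
  exact mul_mem_C_left (X_le_B (isRoot_sr cs h i) (sr_nonneg i) hx) (self_mem_C _)

omit hN in
theorem act_inj {β : MulAut Y} (hβ : Keep (R.bnPair hgen) β) {x y : Y ⧸ (R.bnPair hgen).B}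
    (he : act β hβ x = act β hβ y) : x = y := by
  induction x using QuotientGroup.induction_on with
  | _ a =>
  induction y using QuotientGroup.induction_on with
  | _ b =>
  rw [act_mk, act_mk, FixBN.OfBN.mk_eq, ← map_inv, ← map_mul] at he
  exact FixBN.OfBN.mk_eq.2 ((hβ _).1 he)

omit hN in
theorem x_eq_one {i : I} {x : Y} (hx : x ∈ X (sr i))
    (he : (QuotientGroup.mk (x * n i) : Y ⧸ (R.bnPair hgen).B) = QuotientGroup.mk (n i)) : x = 1 := by
  rw [FixBN.OfBN.mk_eq] at he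
  have h1 : (n i)⁻¹ * x⁻¹ * n i ∈ B cs h T X := by
    have e : (x * n i)⁻¹ * n i = (n i)⁻¹ * x⁻¹ * n i := by group
    rw [← e]; exact he
  have h2 : (n i)⁻¹ * x⁻¹ * n i ∈ X (-sr i) := by
    have := R.conj_mem' (rp_simple cs R.nsys i) (isRoot_sr cs h i) (inv_mem hx)
    rwa [inv_simple, rep_simple_sr] at this
  by_contra hne
  have hne' : (n i)⁻¹ * x⁻¹ * n i ≠ 1 := by
    intro h3
    apply hne
    have e : x = ((n i) * ((n i)⁻¹ * x⁻¹ * n i) * (n i)⁻¹)⁻¹ := by group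
    rw [e, h3]; group
  obtain ⟨a, ha, t, ht, b, hb, e⟩ := R.rk1 i _ h2 hne'
  have h3 : n i = (a * t)⁻¹ * ((n i)⁻¹ * x⁻¹ * n i) * b⁻¹ := by rw [e]; group
  have h4 : n i ∈ B cs h T X := by
    rw [h3]
    exact mul_mem (mul_mem (inv_mem (mul_mem (X_le_B (isRoot_sr cs h i) (sr_nonneg i) ha) (T_le_B ht))) h1)
      (inv_mem (X_le_B (isRoot_sr cs h i) (sr_nonneg i) hb))
  have h5 := R.eq_one_of_mem_B (rp_simple cs R.nsys i) h4
  have h6 := rep_simple_sr cs h i
  rw [h5, map_one, Module.End.one_apply] at h6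
  have h7 := congrFun h6 i
  rw [Pi.neg_apply, sr_self] at h7
  exact absurd h7 (by decide)

/-- `s x s⁻¹ n_i B = s x n_i B` -/
theorem mk_conj (i : I) {s : Y} (hs : s ∈ T) (x : Y) :
    (QuotientGroup.mk (s * x * s⁻¹ * n i) : Y ⧸ (R.bnPair hgen).B) = s • QuotientGroup.mk (x * n i) := by
  rw [FixBN.OfBN.smul_mk, FixBN.OfBN.mk_eq]
  have e : (s * x * s⁻¹ * n i)⁻¹ * (s * (x * n i)) = (n i)⁻¹ * s * n i := by group
  rw [e]
  exact T_le_B (simple_conj_T R i hs)

variable {g₀ : (R.bnPair hgen).N} (hg₀ : (QuotientGroup.mk g₀ : WP (R.bnPair hgen)) = w0 cs')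
  [Finite Y] [Fact p.Prime]

include hcs hg₀ in
/-- The value of a normalised automorphism on a chamber of the base panels. -/
theorem Nrm.val {β : MulAut Y} (hβ : Nrm R hgen g₀ β) {i : I} (hσ : sg (eS R hgen) cs' hcs hβ.keep i = i) {x : Y}
    (hx : x ∈ X (sr i)) (hx1 : x ≠ 1) : ∃ y ∈ X (sr i), y ≠ 1 ∧
      act β hβ.keep (QuotientGroup.mk (x * n i)) = (QuotientGroup.mk (y * n i) : Y ⧸ (R.bnPair hgen).B) := by
  have h2 : (Bl R hgen cs' hcs).δ (QuotientGroup.mk 1) (act β hβ.keep (QuotientGroup.mk (x * n i))) =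
      cs'.simple i := by
    have h3 := δ_act (eS R hgen) cs' hcs hβ.keep (QuotientGroup.mk 1) (QuotientGroup.mk (x * n i))
    rw [δ_x hcs i hx, fW_simple' (eS R hgen) cs' hcs hβ.keep, hσ, act_mk, map_one] at h3
    exact h3
  obtain ⟨y, hy, h3⟩ := pan_eq R hgen cs' hcs i h2
  refine ⟨y, hy, ?_, h3⟩
  rintro rfl
  rw [one_mul] at h3
  have h4 := hβ.act_n hcs hg₀ i
  rw [hσ] at h4
  exact hx1 (x_eq_one hx (act_inj hβ.keep (h3.trans h4.symm)))

include hcs hg₀ in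
/-- A normalised automorphism which centralises a torus element `k` transitive on `X (sr i) - 1` acts on the `i`-panel
as a power of `k`. -/
theorem Nrm.pan_pow {β : MulAut Y} (hβ : Nrm R hgen g₀ β) {i : I} (hσ : sg (eS R hgen) cs' hcs hβ.keep i = i)
    {k : Y} (hk : k ∈ T) (hid : β k = k)
    (htr : ∀ x ∈ X (sr i), ∀ y ∈ X (sr i), x ≠ 1 → y ≠ 1 → ∃ a : ℕ, k ^ a * x * (k ^ a)⁻¹ = y) :
    ∃ a : ℕ, ∀ x ∈ X (sr i), act β hβ.keep (QuotientGroup.mk (x * n i)) =
        (k ^ a) • (QuotientGroup.mk (x * n i) : Y ⧸ (R.bnPair hgen).B) := by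
  have hfix : ∀ a : ℕ, act β hβ.keep (QuotientGroup.mk (1 * n i)) =
      (k ^ a) • (QuotientGroup.mk (1 * n i) : Y ⧸ (R.bnPair hgen).B) := by
    intro a
    have h4 := hβ.act_n hcs hg₀ i
    rw [hσ] at h4
    rw [one_mul, h4, eq_comm, FixBN.OfBN.smul_mk_eq]
    exact T_le_B (simple_conj_T R i (pow_mem hk a))
  by_cases hex : ∃ x ∈ X (sr i), x ≠ 1
  · obtain ⟨x₀, hx₀, hx₀1⟩ := hex
    obtain ⟨y₀, hy₀, hy₀1, he⟩ := Nrm.val hcs hg₀ hβ hσ hx₀ hx₀1
    obtain ⟨a, ha⟩ := htr x₀ hx₀ y₀ hy₀ hx₀1 hy₀1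
    refine ⟨a, fun x hx => ?_⟩
    by_cases hx1 : x = 1
    · rw [hx1]; exact hfix a
    · obtain ⟨b, hb⟩ := htr x₀ hx₀ x hx hx₀1 hx1
      have hkb := pow_mem hk b
      have hka := pow_mem hk a
      rw [← hb, mk_conj i hkb, FixBN.OfBN.smul_mk, act_mk, map_mul, map_pow, hid]
      have h5 : (QuotientGroup.mk (k ^ b * β (x₀ * n i)) : Y ⧸ (R.bnPair hgen).B) =
          (k ^ b) • act β hβ.keep (QuotientGroup.mk (x₀ * n i)) := by
        rw [act_mk, FixBN.OfBN.smul_mk]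
      rw [h5, he, ← ha, mk_conj i hka]
      simp only [FixBN.OfBN.smul_mk]
      congr 1
      calc k ^ b * (k ^ a * (x₀ * n i)) = k ^ (b + a) * (x₀ * n i) := by rw [pow_add, mul_assoc]
        _ = k ^ a * (k ^ b * (x₀ * n i)) := by rw [add_comm, pow_add, mul_assoc]
  · push Not at hex
    refine ⟨0, fun x hx => ?_⟩
    rw [hex x hx]
    exact hfix 0

end

/-- The situation in `2E6(2)`: `X i = X (sr i)`, nodes `0, 1` long, nodes `2, 3` short. -/
structure Dat {Y : Type*} [Group Y] (T : Subgroup Y) (X : Fin 4 → Subgroup Y) (k : Y) : Prop where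
  m : k ∈ T
  o : k ^ 3 = 1
  ne : k ≠ 1
  gen : ∀ t ∈ T, ∃ a : ℕ, t = k ^ a
  long : ∀ i : Fin 4, (i = 0 ∨ i = 1) → ∃ r, ∀ x ∈ X i, x = 1 ∨ x = r
  cen : ∀ i : Fin 4, (i = 0 ∨ i = 1) → ∀ x ∈ X i, k * x = x * k
  tr : ∀ i : Fin 4, (i = 2 ∨ i = 3) → ∀ x ∈ X i, ∀ y ∈ X i, x ≠ 1 → y ≠ 1 → ∃ a : ℕ, k ^ a * x * (k ^ a)⁻¹ = y
  ncen : ∀ i : Fin 4, (i = 2 ∨ i = 3) → ¬ ∀ x ∈ X i, k * x = x * k

section Four

variable {W Y : Type*} [Group W] [Group Y] {cs : CoxeterSystem CoxeterMatrix.F₄ W} {A : Fin 4 → Fin 4 → ℤ}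
  {h : IsCartan CoxeterMatrix.F₄ A} {p : ℕ} {T : Subgroup Y} {n : Fin 4 → Y} {X : (Fin 4 → ℤ) → Subgroup Y} [Finite W]

section

variable {R : RGD cs h p T n X} {hgen : B cs h T X ⊔ NN cs R.nsys = ⊤}
  [hN : (((R.bnPair hgen).B ⊓ (R.bnPair hgen).N).subgroupOf (R.bnPair hgen).N).Normal]
  {cs' : CoxeterSystem CoxeterMatrix.F₄ (WP (R.bnPair hgen))}
  (hcs : ∀ i, cs'.simple i = QuotientGroup.mk
    (⟨(eS R hgen i : Y), (R.bnPair hgen).subset (eS R hgen i).2⟩ : (R.bnPair hgen).N))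
  {g₀ : (R.bnPair hgen).N} (hg₀ : (QuotientGroup.mk g₀ : WP (R.bnPair hgen)) = w0 cs')
  [Finite Y] [Fact p.Prime] (hcore : (B cs h T X).normalCore = ⊥) {k : Y} (D : Dat T (fun i => X (sr i)) k)

include hcs hg₀ hcore D

/-- A normalised automorphism maps `k` to `k` or `k ^ 2`. -/
theorem eq_or {β : MulAut Y} (hβ : Nrm R hgen g₀ β) : β k = k ∨ β k = k ^ 2 := by
  obtain ⟨a, ha⟩ := D.gen _ (hβ.mem_T hcs hcore hg₀ D.m)
  rw [ha, pow_eq_pow_mod a D.o]
  have h3 : a % 3 = 0 ∨ a % 3 = 1 ∨ a % 3 = 2 := by omega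
  rcases h3 with h3 | h3 | h3
  · exfalso
    rw [pow_eq_pow_mod a D.o, h3, pow_zero, ← map_one β] at ha
    exact D.ne (β.injective ha)
  · left; rw [h3, pow_one]
  · right; rw [h3]

/-- The type permutation is trivial. -/
theorem sg_eq {β : MulAut Y} (hβ : Nrm R hgen g₀ β) : ∀ i, sg (eS R hgen) cs' hcs hβ.keep i = i := by
  by_contra hcon
  push Not at hcon
  have h1 := OutChevTwo.diag_F4 _ (sg_M (eS R hgen) cs' hcs hβ.keep) hcon 0
  have h2 := hβ.cen hcs hcore hg₀ D.m (i := 0) (D.cen 0 (Or.inl rfl))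
  rw [h1] at h2
  apply D.ncen 3 (Or.inr rfl)
  intro x hx
  have h3 : β k * x = x * β k := h2 x hx
  rcases eq_or hcs hg₀ hcore D hβ with h4 | h4
  · rw [h4] at h3; exact h3
  · rw [h4] at h3
    have h5 : Commute (k ^ 2) x := h3
    have h6 := (h5.mul_left h5).eq
    have h7 : k ^ 2 * k ^ 2 = k := by
      calc k ^ 2 * k ^ 2 = k ^ 3 * k := by group
        _ = k := by rw [D.o, one_mul]
    rw [h7] at h6
    exact h6

/-- A normalised automorphism centralising `k` has an inner cube. -/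
theorem cube {β : MulAut Y} (hβ : Nrm R hgen g₀ β) (hid : β k = k) : β * β * β = 1 := by
  have hσ := sg_eq hcs hg₀ hcore D hβ
  have hpan : ∀ i : Fin 4, ∃ a : ℕ, ∀ x ∈ X (sr i), act β hβ.keep (QuotientGroup.mk (x * n i)) =
        (k ^ a) • (QuotientGroup.mk (x * n i) : Y ⧸ (R.bnPair hgen).B) := by
    intro i
    have hi : (i = 0 ∨ i = 1) ∨ (i = 2 ∨ i = 3) := by omega
    rcases hi with hi | hi
    · refine Nrm.pan_pow hcs hg₀ hβ (hσ i) D.m hid ?_
      obtain ⟨r, hr⟩ := D.long i hi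
      intro x hx y hy hx1 hy1
      refine ⟨0, ?_⟩
      rw [((hr x hx).resolve_left hx1), ((hr y hy).resolve_left hy1)]
      group
    · exact Nrm.pan_pow hcs hg₀ hβ (hσ i) D.m hid (D.tr i hi)
  have h3 : Nrm R hgen g₀ (β * β * β) := (hβ.mul hβ).mul hβ
  have h4 : β * β * β = MulAut.conj 1 := by
    refine h3.eq_conj hcs hcore hg₀ (sg_eq hcs hg₀ hcore D h3) (one_mem _) ?_
    intro i x hx
    obtain ⟨a, ha⟩ := hpan i
    have ha' := ha x hx
    have hba : β (k ^ a) = k ^ a := by rw [map_pow, hid]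
    rw [one_smul]
    rw [act_mk, FixBN.OfBN.smul_mk, FixBN.OfBN.mk_eq] at ha'
    rw [act_mk, FixBN.OfBN.mk_eq]
    -- `β (x n) B = k^a x n B`
    have e1 : ∀ z : Y, (QuotientGroup.mk z : Y ⧸ (R.bnPair hgen).B) = QuotientGroup.mk (k ^ a * (x * n i)) →
        True := fun _ _ => trivial
    have hs : ∀ z b : Y, z⁻¹ * b ∈ (R.bnPair hgen).B → (β z)⁻¹ * β b ∈ (R.bnPair hgen).B := by
      intro z b hzb
      have := (hβ.keep _).2 hzb
      rwa [map_mul, map_inv] at this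
    have q1 := ha'
    have q2 := hs _ _ q1
    rw [map_mul β (k ^ a), hba] at q2
    have q3 := hs _ _ q2
    rw [map_mul β (k ^ a), hba] at q3
    -- combine: β³(xn) ∈ β²(k^a x n) B = k^a β² (x n) B = k^2a β(xn) B = k^3a x n B
    have p1 : (β (β (x * n i)))⁻¹ * (k ^ a * (k ^ a * (x * n i))) ∈ (R.bnPair hgen).B := by
      have : (β (β (x * n i)))⁻¹ * (k ^ a * (k ^ a * (x * n i))) =
          ((β (β (x * n i)))⁻¹ * (k ^ a * β (x * n i))) * ((β (x * n i))⁻¹ * (k ^ a * (x * n i))) := by group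
      rw [this]
      exact mul_mem q2 q1
    have p2 : (β (β (β (x * n i))))⁻¹ * (k ^ a * (k ^ a * (k ^ a * (x * n i)))) ∈ (R.bnPair hgen).B := by
      have : (β (β (β (x * n i))))⁻¹ * (k ^ a * (k ^ a * (k ^ a * (x * n i)))) =
          ((β (β (β (x * n i))))⁻¹ * (k ^ a * β (β (x * n i)))) *
            ((β (β (x * n i)))⁻¹ * (k ^ a * (k ^ a * (x * n i)))) := by group
      rw [this]
      exact mul_mem q3 p1
    have hk3 : k ^ a * (k ^ a * (k ^ a * (x * n i))) = x * n i := by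
      calc k ^ a * (k ^ a * (k ^ a * (x * n i))) = (k ^ a) ^ 3 * (x * n i) := by
            rw [pow_succ, pow_two]; group
        _ = x * n i := by rw [← pow_mul, mul_comm, pow_mul, D.o, one_pow, one_mul]
    rw [hk3] at p2
    exact p2
  rw [h4, map_one]

end

/-- **`OutSign` for type `F₄`, torus of order three, long root groups of order two.** -/
theorem outSign_of_dat (R : RGD cs h p T n X) (hgen : B cs h T X ⊔ NN cs R.nsys = ⊤) [Finite Y] [Fact p.Prime]
    (hcore : (B cs h T X).normalCore = ⊥) {k : Y} (D : Dat T (fun i => X (sr i)) k) : OutSign Y := by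
  obtain ⟨hN, cs', hcs, hW, S⟩ := exists_setup R hgen hcore
  obtain ⟨g₀, hg₀⟩ := exists_g0 R hgen cs'
  let C : Subgroup (MulAut Y) :=
    { carrier := {α | ∃ g : Y, Nrm R hgen g₀ (MulAut.conj g * α) ∧ (MulAut.conj g * α) k = k}
      mul_mem' := by
        rintro α β ⟨g, hg, hgk⟩ ⟨l, hl, hlk⟩
        refine ⟨g * α l, ?_, ?_⟩
        all_goals
          have e : MulAut.conj (g * α l) * (α * β) = (MulAut.conj g * α) * (MulAut.conj l * β) := by
            apply MulEquiv.ext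
            intro x
            show g * α l * α (β x) * (g * α l)⁻¹ = g * α (l * β x * l⁻¹) * g⁻¹
            rw [map_mul, map_mul, map_inv]; group
          rw [e]
        · exact hg.mul hl
        · show (MulAut.conj g * α) ((MulAut.conj l * β) k) = k
          rw [hlk, hgk]
      one_mem' := by
        refine ⟨1, ?_, ?_⟩
        · rw [map_one, one_mul]
          refine ⟨fun x => Iff.rfl, ?_⟩
          rw [MulAut.one_apply, inv_mul_cancel]
          exact one_mem _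
        · rw [map_one, one_mul, MulAut.one_apply]
      inv_mem' := by
        rintro α ⟨g, hg, hgk⟩
        refine ⟨(α⁻¹ g)⁻¹, ?_, ?_⟩
        all_goals
          have e : MulAut.conj (α⁻¹ g)⁻¹ * α⁻¹ = (MulAut.conj g * α)⁻¹ := by
            apply MulEquiv.ext
            intro x
            rw [mul_inv_rev, ← map_inv MulAut.conj]
            show (α⁻¹ g)⁻¹ * α⁻¹ x * (α⁻¹ g)⁻¹⁻¹ = α⁻¹ (g⁻¹ * x * g⁻¹⁻¹)
            rw [map_mul, map_mul, map_inv, inv_inv, map_inv, map_inv, inv_inv]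
          rw [e]
        · exact hg.inv
        · rw [← hgk, MulAut.inv_apply_self, hgk] }
  have memC : ∀ α, α ∈ C ↔ ∃ g : Y, Nrm R hgen g₀ (MulAut.conj g * α) ∧ (MulAut.conj g * α) k = k := fun α => Iff.rfl
  refine outSign_of_subgroup C ?_ ?_ ?_
  · intro x
    rw [memC]
    refine ⟨x⁻¹, ?_⟩
    rw [← map_mul, inv_mul_cancel, map_one]
    refine ⟨⟨fun x => Iff.rfl, ?_⟩, rfl⟩
    rw [MulAut.one_apply, inv_mul_cancel]
    exact one_mem _
  · intro α β hα hβ
    obtain ⟨g, hg⟩ := exists_nrm hcs hcore hg₀ α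
    obtain ⟨l, hl⟩ := exists_nrm hcs hcore hg₀ β
    have h1 : (MulAut.conj g * α) k = k ^ 2 := (eq_or hcs hg₀ hcore D hg).resolve_left fun h' => hα ⟨g, hg, h'⟩
    have h2 : (MulAut.conj l * β) k = k ^ 2 := (eq_or hcs hg₀ hcore D hl).resolve_left fun h' => hβ ⟨l, hl, h'⟩
    have e : MulAut.conj (g * α l) * (α * β) = (MulAut.conj g * α) * (MulAut.conj l * β) := by
      apply MulEquiv.ext
      intro x
      show g * α l * α (β x) * (g * α l)⁻¹ = g * α (l * β x * l⁻¹) * g⁻¹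
      rw [map_mul, map_mul, map_inv]; group
    refine ⟨g * α l, ?_, ?_⟩
    · rw [e]; exact hg.mul hl
    · rw [e]
      show (MulAut.conj g * α) ((MulAut.conj l * β) k) = k
      rw [h2, map_pow, h1]
      calc (k ^ 2) ^ 2 = k ^ 3 * k := by group
        _ = k := by rw [D.o, one_mul]
  · rintro α ⟨g, hg, hgk⟩ hαα
    have h1 := cube hcs hg₀ hcore D hg hgk
    -- in `Out`: `α³ = 1`, `α² = 1`
    have h2 : ∀ x, α (α x) = x := fun x => DFunLike.congr_fun hαα x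
    refine ⟨(g * α g * g)⁻¹, ?_⟩
    apply MulEquiv.ext
    intro x
    have h3 : g * α (g * α (g * α x * g⁻¹) * g⁻¹) * g⁻¹ = x := DFunLike.congr_fun h1 x
    simp only [map_mul, map_inv, h2] at h3
    rw [MulAut.conj_apply, inv_inv]
    conv_rhs => rw [← h3]
    group

end Four

end Cfsg.Agent.OddHalf.Table.OutTorus
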