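import Cfsg.Agent.OddHalf.Table.RowsOf
import Cfsg.Agent.OddHalf.Table.OutLThreeFour
import Cfsg.Agent.OddHalf.Table.OutUSix
import Cfsg.Agent.OddHalf.Table.OutSpSix
import Cfsg.Agent.OddHalf.Table.OutOEight
import Cfsg.Agent.OddHalf.Table.OutGTwoFour
import Cfsg.Agent.OddHalf.Table.OutChevTwo
import Cfsg.Agent.OddHalf.Table.OutTwESix
import Cfsg.Agent.OddHalf.Table.OutMTwelve
import Cfsg.Agent.OddHalf.Table.OutJ2
import Cfsg.Agent.OddHalf.Table.OutHS
import Cfsg.Agent.OddHalf.Table.OutSuz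
import Cfsg.Agent.OddHalf.Table.OutRu
import Cfsg.Agent.OddHalf.Table.OutFi22
import Cfsg.Agent.OddHalf.Table.OutCo1
import Cfsg.Agent.OddHalf.Table.OutMTwentyTwo

/-!
# `CaseM.SignRows`: TABLE-17 (helper53)

`signRows`: all rows are proved except the Baby Monster, which is the hypothesis `hB`.
-/

set_option autoImplicit false

namespace Cfsg.Agent.OddHalf.Table.Rows

open Cfsg Cfsg.Agent.OddHalf.Table

universe u

theorem signRows (hB : ∀ (X : Type u) [Group X], (X ≃* Spor.BabyMonster) → OutSign X) : CaseM.SignRows.{u} :=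
  RowsOf.signRows_of
    { l34 := fun _ _ _ _ _ hF e => OutLThreeFour.outSign hF e
      u62 := fun _ _ _ _ _ hF e => OutUSix.outSign_USix hF e
      sp62 := fun _ _ _ _ _ hF e => OutSpSix.outSign_Sp6 hF e
      o82 := fun _ _ _ _ _ hF e => OutOEight.outSign_O8 hF e
      g24 := fun F _ hF => OutGTwoFour.outSign_G24 F hF
      f42 := fun F _ hF => OutChevTwo.outSign_F42 F hF
      e62 := fun F _ hF => OutTwESix.outSign_twE6 F hF
      m12 := fun _ _ e => OutMTwelve.outSign_M12 e
      j2 := fun _ _ e => OutJ2.outSign_J2 e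
      hs := fun _ _ e => OutHS.outSign_HS e
      suz := fun _ _ e => OutSuz.outSign_Suz e
      ru := fun _ _ e => OutRu.outSign_Ru e
      fi22 := fun _ _ e => OutFi22.outSign_Fi22 e
      co1 := fun _ _ e => OutCo1.outSign_of ⟨e⟩
      b := hB
      m22 := fun _ _ e => OutMTwentyTwo.outSign_M22 e }

end Cfsg.Agent.OddHalf.Table.Rows
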