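import Cfsg.Agent.OddHalf.CaseM.Sign
import Cfsg.Agent.OddHalf.Table.OutSz8

/-!
# `CaseM.SignRows` from the rows of TABLE-17 (helper53)

`signRows_of`: the rows `OutSign X` for the 17 quotients `X` with even Schur multiplier give `CaseM.SignRows`. The row of the
Suzuki groups is proved here (`Table.OutSz8.inner`).
-/

set_option autoImplicit false

namespace Cfsg.Agent.OddHalf.Table.RowsOf

open Cfsg Cfsg.Agent.OddHalf.D9.Cut Cfsg.Agent.OddHalf.Table

universe u

theorem sz (X : Type u) [Group X] (h : XSz X) : OutSign X := by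
  obtain ⟨F, _, _, m, hm, hF, ⟨e⟩⟩ := h
  intro α hα hout
  obtain ⟨x, hx⟩ := OutSz8.inner hm hF e α ⟨1, by rw [pow_one, pow_two, hα]⟩
  exact absurd hx (hout x)

/-- the rows, in the form in which they are proved -/
structure Given : Prop where
  l34 : ∀ (X : Type u) [Group X] (F : Type) [Field F] [Fintype F], Fintype.card F = 4 →
    (X ≃* Matrix.ProjectiveSpecialLinearGroup (Fin 3) F) → OutSign X
  u62 : ∀ (X : Type u) [Group X] (F : Type) [Field F] [Fintype F], Fintype.card F = 2 ^ 2 →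
    (X ≃* PSU 6 F 2) → OutSign X
  sp62 : ∀ (X : Type u) [Group X] (F : Type) [Field F] [Fintype F], Nat.card F = 2 → (X ≃* PSp 3 F) → OutSign X
  o82 : ∀ (X : Type u) [Group X] (F : Type) [Field F] [Fintype F], Fintype.card F = 2 →
    (X ≃* POmega F (quadFormPlus 4 F)) → OutSign X
  g24 : ∀ (F : Type) [Field F], Nat.card F = 4 → OutSign ↥(Lie.chevG2.group F)
  f42 : ∀ (F : Type) [Field F], Nat.card F = 2 → OutSign ↥(Lie.chevF4.group F)
  e62 : ∀ (F : Type) [Field F], Nat.card F = 4 → OutSign ↥(Lie.twistedE6 F 2)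
  m12 : ∀ (X : Type u) [Group X], (X ≃* Spor.M12) → OutSign X
  j2 : ∀ (X : Type u) [Group X], (X ≃* Spor.J2) → OutSign X
  hs : ∀ (X : Type u) [Group X], (X ≃* ↥Spor.HS) → OutSign X
  suz : ∀ (X : Type u) [Group X], (X ≃* Spor.Suz) → OutSign X
  ru : ∀ (X : Type u) [Group X], (X ≃* Spor.Ru) → OutSign X
  fi22 : ∀ (X : Type u) [Group X], (X ≃* Spor.Fi22) → OutSign X
  co1 : ∀ (X : Type u) [Group X], (X ≃* Spor.Co1) → OutSign X
  b : ∀ (X : Type u) [Group X], (X ≃* Spor.BabyMonster) → OutSign X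
  m22 : ∀ (X : Type u) [Group X], (X ≃* Spor.M22) → OutSign X

theorem signRows_of (H : Given.{u}) : CaseM.SignRows.{u} where
  exc2 X _ h := by
    rcases h with h | h | h | h | h | h | h | h | h | h | h | h | h | h
    · obtain ⟨F, _, _, h1, ⟨e⟩⟩ := h
      exact H.u62 X F (by rw [h1]; norm_num) e
    · obtain ⟨F, _, _, h1, ⟨e⟩⟩ := h
      exact H.sp62 X F (by rw [Nat.card_eq_fintype_card, h1]) e
    · obtain ⟨F, _, _, h1, ⟨e⟩⟩ := h
      exact H.o82 X F h1 e
    · obtain ⟨F, _, _, h1, ⟨e⟩⟩ := h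
      exact OutSign.of_equiv e.symm (H.g24 F (by rw [Nat.card_eq_fintype_card, h1]))
    · obtain ⟨F, _, _, h1, ⟨e⟩⟩ := h
      exact OutSign.of_equiv e.symm (H.f42 F (by rw [Nat.card_eq_fintype_card, h1]))
    · obtain ⟨F, _, _, h1, ⟨e⟩⟩ := h
      exact OutSign.of_equiv e.symm (H.e62 F (by rw [Nat.card_eq_fintype_card, h1]))
    · obtain ⟨e⟩ := h
      exact H.m12 X e
    · obtain ⟨e⟩ := h
      exact H.j2 X e
    · obtain ⟨e⟩ := h
      exact H.hs X e
    · obtain ⟨e⟩ := h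
      exact H.suz X e
    · obtain ⟨e⟩ := h
      exact H.ru X e
    · obtain ⟨e⟩ := h
      exact H.fi22 X e
    · obtain ⟨e⟩ := h
      exact H.co1 X e
    · obtain ⟨e⟩ := h
      exact H.b X e
  exc4 X _ h := by
    rcases h with h | h
    · obtain ⟨F, _, _, h1, ⟨e⟩⟩ := h
      exact H.l34 X F h1 e
    · obtain ⟨e⟩ := h
      exact H.m22 X e
  sz X _ h := sz X h

end Cfsg.Agent.OddHalf.Table.RowsOf
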