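import Cfsg.Agent.SporadicB.RuSimple
import Cfsg.Agent.OddHalf.Table.RuNetFY

/-!
# Two centralisers in the group of the Rudvalis graph

`x` (rotation of the blocks of 29 points) generates its own centraliser; the centraliser of `f` (order 14,
`f x f⁻¹ = x ^ 4`) is `⟨f⟩ × ⟨y⟩`, `y` an involution. Method: an automorphism commuting with `g` and mapping `a` to `b`
maps the points with given adjacencies to the `g`-orbit of `a` to the points with the same adjacencies to the `g`-orbit
of `b`.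
-/

set_option autoImplicit false
set_option maxRecDepth 100000
set_option exponentiation.threshold 5000

namespace Cfsg.Agent.OddHalf.Table.RuCent

open Cfsg.Agent.SporadicB Cfsg.Agent.SporadicB.RuData Cfsg.Agent.Lib.BitNet Cfsg.Agent.Lib.BitNetSimple
open Cfsg.Agent.OddHalf.Table.RuNetFY

/-! ### networks -/

theorem invf : invCheck 12 row nf = true := by decide +kernel
theorem invy : invCheck 12 row ny = true := by decide +kernel
theorem okNetf : okNet 4060 nf = true := by decide +kernel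
theorem okNety : okNet 4060 ny = true := by decide +kernel
theorem okf : OkNet 4060 nf := okNet_sound okNetf
theorem oky : OkNet 4060 ny := okNet_sound okNety
theorem memf : perm okf ∈ RuOrder.H := perm_mem_Aut (K := 12) (by norm_num) RuOrder.sym invf _
theorem memy : perm oky ∈ RuOrder.H := perm_mem_Aut (K := 12) (by norm_num) RuOrder.sym invy _

/-! ### adjacencies to orbits -/

/-- the points of `S` with the same adjacencies to `b, g b, ...` as `w` to `a, g a, ...` -/
noncomputable def cutO (row : ℕ → ℕ) (g : List (ℕ × ℕ)) (w k : ℕ) : ℕ → ℕ → ℕ → ℕ :=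
  Nat.rec (fun _ _ S => S) (fun _ ih a b S =>
    force (bif tb (row a) w then Nat.land S (row b) else Nat.xor S (Nat.land S (row b))) fun S' =>
      force (appF g a) fun a' => force (appF g b) fun b' => ih a' b' S') k

theorem cutO_succ (row : ℕ → ℕ) (g : List (ℕ × ℕ)) (w k a b S : ℕ) :
    cutO row g w (k + 1) a b S = cutO row g w k (appF g a) (appF g b)
      (bif tb (row a) w then Nat.land S (row b) else Nat.xor S (Nat.land S (row b))) := by
  have e : cutO row g w (k + 1) a b S =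
    force (bif tb (row a) w then Nat.land S (row b) else Nat.xor S (Nat.land S (row b))) (fun S' =>
      force (appF g a) fun a' => force (appF g b) fun b' => cutO row g w k a' b' S') := rfl
  rw [e, force_eq, force_eq, force_eq]

theorem cutO_sound {n : ℕ} {row : ℕ → ℕ} {σ : Equiv.Perm (Fin n)} (hσ : σ ∈ Aut n row) {g : List (ℕ × ℕ)}
    (ok : OkNet n g) (hc : ∀ p : Fin n, σ (perm ok p) = perm ok (σ p)) (w : Fin n) :
    ∀ (k : ℕ) (a b : Fin n) (S : ℕ), σ a = b → S.testBit (σ w) = true →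
      (cutO row g w k a b S).testBit (σ w) = true
  | 0, _, _, _, _, hS => hS
  | k + 1, a, b, S, hab, hS => by
    rw [cutO_succ, appF_eq, appF_eq]
    refine cutO_sound hσ ok hc w k (perm ok a) (perm ok b) _ (by rw [hc, hab]) ?_
    have h2 : (row b).testBit (σ w) = (row a).testBit w := by rw [← hab]; exact hσ a w
    rw [tb_eq]
    cases h3 : (row a).testBit w
    · rw [cond_false]
      change (S ^^^ (S &&& row b)).testBit (σ w) = true
      rw [Nat.testBit_xor, Nat.testBit_and, hS, h2, h3]; rfl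
    · rw [cond_true]
      change (S &&& row b).testBit (σ w) = true
      rw [Nat.testBit_and, hS, h2, h3]; rfl

/-- the set of all points -/
def U : ℕ := Nat.sub (Nat.pow 2 4060) 1

theorem testBit_U (p : Fin 4060) : U.testBit p = true := by
  change (2 ^ 4060 - 1).testBit (p : ℕ) = true
  rw [Nat.testBit_two_pow_sub_one]
  simp

/-- test that an automorphism commuting with `g` does not map `a` to `b` -/
noncomputable def kill (g : List (ℕ × ℕ)) (k a w1 w2 b : ℕ) : Bool :=
  bif Nat.beq (cutO row g w1 k a b U) 0 then true else Nat.beq (cutO row g w2 k a b U) 0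

theorem kill_sound {σ : Equiv.Perm (Fin 4060)} (hσ : σ ∈ RuOrder.H) {g : List (ℕ × ℕ)}
    (ok : OkNet 4060 g) (hc : ∀ p : Fin 4060, σ (perm ok p) = perm ok (σ p)) {k : ℕ} {a w1 w2 b : Fin 4060}
    (h : kill g k a w1 w2 b = true) : σ a ≠ b := by
  intro hab
  unfold kill at h
  have key : ∀ w : Fin 4060, Nat.beq (cutO row g w k a b U) 0 = false := by
    intro w
    by_contra hw
    rw [Bool.not_eq_false] at hw
    have h1 := cutO_sound hσ ok hc w k a b U hab (testBit_U _)
    rw [Nat.eq_of_beq_eq_true hw] at h1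
    simp at h1
  rw [key w1, cond_false, key w2] at h
  exact Bool.false_ne_true h

/-- the mask of a list -/
noncomputable def mask (l : List ℕ) : ℕ := List.rec 0 (fun r _ m => Nat.lor (Nat.pow 2 r) m) l

theorem mem_of_testBit_mask : ∀ (l : List ℕ) {i : ℕ}, (mask l).testBit i = true → i ∈ l
  | [], i, h => by
    have e : mask [] = 0 := rfl
    rw [e] at h
    simp at h
  | r :: l, i, h => by
    have e : mask (r :: l) = 2 ^ r ||| mask l := rfl
    rw [e, Nat.testBit_or, Bool.or_eq_true] at h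
    rcases h with h | h
    · rw [Nat.testBit_two_pow] at h
      have : r = i := by simpa using h
      rw [this]
      exact List.mem_cons_self
    · exact List.mem_cons_of_mem _ (mem_of_testBit_mask l h)

theorem exists_of_iter {g : List (ℕ × ℕ)} (hv : Valid g) : ∀ (k M i : ℕ), (iter [g] k M).testBit i = true →
    ∃ e r : ℕ, M.testBit r = true ∧ (app g)^[e] r = i
  | 0, M, i, h => ⟨0, i, h, rfl⟩
  | k + 1, M, i, h => by
    obtain ⟨e, r, h1, h2⟩ := exists_of_iter hv k (M ||| appM g M) i h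
    rw [Nat.testBit_or, Bool.or_eq_true] at h1
    rcases h1 with h1 | h1
    · exact ⟨e, r, h1, h2⟩
    · rw [testBit_appM' hv] at h1
      refine ⟨e + 1, appInv g r, h1, ?_⟩
      rw [Function.iterate_succ_apply, app_appInv hv, h2]

/-- Representatives: up to powers of `g` an automorphism maps `a` to one of the points of the list. -/
theorem exists_rep {g : List (ℕ × ℕ)} (ok : OkNet 4060 g) {k : ℕ} {l : List ℕ}
    (hl : Nat.beq (iterF [g] k (mask l)) U = true) (v : Fin 4060) :
    ∃ (e : ℕ) (r : Fin 4060), (r : ℕ) ∈ l ∧ (perm ok ^ e) r = v := by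
  rw [iterF_eq] at hl
  have h1 := testBit_U v
  rw [← Nat.eq_of_beq_eq_true hl] at h1
  obtain ⟨e, r, h2, h3⟩ := exists_of_iter ok.valid k _ _ h1
  have hr : r < 4060 := by
    have h4 : ∀ (e r : ℕ), (app g)^[e] r < 4060 → r < 4060 := by
      intro e
      induction e with
      | zero => intro r h; exact h
      | succ e ih =>
        intro r h
        rw [Function.iterate_succ_apply] at h
        exact (ok.lt_iff r).1 (ih _ h)
    exact h4 e r (h3 ▸ v.2)
  refine ⟨e, ⟨r, hr⟩, mem_of_testBit_mask l h2, ?_⟩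
  apply Fin.ext
  rw [perm_pow_apply]
  exact h3

/-- an automorphism is determined by the images of the base points -/
theorem eq_one_of_base {σ : Equiv.Perm (Fin 4060)} (hσ : σ ∈ RuOrder.H) (h1 : σ RuOrder.b1 = RuOrder.b1)
    (h2 : σ RuOrder.b2 = RuOrder.b2) (h3 : σ RuOrder.b3 = RuOrder.b3) (h4 : σ RuOrder.b4 = RuOrder.b4) : σ = 1 := by
  have hm : σ ∈ RuOrder.H4 := ⟨⟨⟨⟨hσ, h1⟩, h2⟩, h3⟩, h4⟩
  have h5 : RuOrder.H4 = ⊥ := Subgroup.eq_bot_of_card_eq _ RuOrder.card_H4
  rw [h5, Subgroup.mem_bot] at hm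
  exact hm

theorem fix_of_cut {σ : Equiv.Perm (Fin 4060)} (hσ : σ ∈ RuOrder.H) {g : List (ℕ × ℕ)}
    (ok : OkNet 4060 g) (hc : ∀ p : Fin 4060, σ (perm ok p) = perm ok (σ p)) {k : ℕ} {a w : Fin 4060} {S : ℕ}
    (ha : σ a = a) (hS : S.testBit (σ w) = true)
    (h : Nat.beq (cutO row g w k a a S) (Nat.pow 2 w) = true) : σ w = w := by
  have h1 := cutO_sound hσ ok hc w k a a S ha hS
  rw [Nat.eq_of_beq_eq_true h] at h1
  change (2 ^ (w : ℕ)).testBit (σ w) = true at h1
  rw [Nat.testBit_two_pow] at h1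
  apply Fin.ext
  have : (w : ℕ) = (σ w : ℕ) := by simpa using h1
  exact this.symm

/-! ### the centraliser of `x` -/

/-- the first points of the blocks -/
noncomputable def blocks (n : ℕ) : List ℕ := Nat.rec [] (fun j l => Nat.mul 29 (Nat.succ j) :: l) n

theorem covx : Nat.beq (iterF [net5] 28 (mask (0 :: blocks 139))) U = true := by decide +kernel

theorem killx : (blocks 139).all (fun b => kill net5 29 0 29 580 b) = true := by decide +kernel

theorem fixx1 : Nat.beq (cutO row net5 29 29 0 0 U) (Nat.pow 2 29) = true := by decide +kernel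
theorem fixx2 : Nat.beq (cutO row net5 580 29 0 0 U) (Nat.pow 2 580) = true := by decide +kernel
theorem fixx3 : Nat.beq (cutO row net5 577 29 0 0 U) (Nat.pow 2 577) = true := by decide +kernel

theorem eq_one_of_fix_x {σ : Equiv.Perm (Fin 4060)} (hσ : σ ∈ RuOrder.H)
    (hc : ∀ p : Fin 4060, σ (perm RuSimple.ok5' p) = perm RuSimple.ok5' (σ p)) (h0 : σ RuOrder.b1 = RuOrder.b1) :
    σ = 1 :=
  eq_one_of_base hσ h0
    (fix_of_cut hσ RuSimple.ok5' hc (a := RuOrder.b1) (w := RuOrder.b2) h0 (testBit_U _) fixx1)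
    (fix_of_cut hσ RuSimple.ok5' hc (a := RuOrder.b1) (w := RuOrder.b3) h0 (testBit_U _) fixx2)
    (fix_of_cut hσ RuSimple.ok5' hc (a := RuOrder.b1) (w := RuOrder.b4) h0 (testBit_U _) fixx3)

theorem inv_self (σ : Equiv.Perm (Fin 4060)) (p : Fin 4060) : σ⁻¹ (σ p) = p := σ.symm_apply_apply p

theorem self_inv (σ : Equiv.Perm (Fin 4060)) (p : Fin 4060) : σ (σ⁻¹ p) = p := σ.apply_symm_apply p

theorem commutes_mul {σ τ g : Equiv.Perm (Fin 4060)} (h1 : ∀ p, σ (g p) = g (σ p)) (h2 : ∀ p, τ (g p) = g (τ p)) :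
    ∀ p, (σ * τ) (g p) = g ((σ * τ) p) := fun p => by
  rw [Equiv.Perm.mul_apply, Equiv.Perm.mul_apply, h2, h1]

theorem commutes_inv {σ g : Equiv.Perm (Fin 4060)} (h1 : ∀ p, σ (g p) = g (σ p)) :
    ∀ p, σ⁻¹ (g p) = g (σ⁻¹ p) := fun p => by
  apply σ.injective
  rw [self_inv, h1, self_inv]

theorem commutes_pow {g : Equiv.Perm (Fin 4060)} (e : ℕ) : ∀ p, (g ^ e) (g p) = g ((g ^ e) p) := fun p => by
  rw [← Equiv.Perm.mul_apply, ← Equiv.Perm.mul_apply, (Commute.pow_self g e).eq]

theorem cent_x {σ : Equiv.Perm (Fin 4060)} (hσ : σ ∈ RuOrder.H)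
    (hc : ∀ p : Fin 4060, σ (perm RuSimple.ok5' p) = perm RuSimple.ok5' (σ p)) :
    ∃ e : ℕ, σ = perm RuSimple.ok5' ^ e := by
  obtain ⟨_, hx⟩ := RuOrder.mem5
  obtain ⟨e, r, hr, he⟩ := exists_rep RuSimple.ok5' covx (σ RuOrder.b1)
  have hτ : (perm RuSimple.ok5' ^ e)⁻¹ * σ ∈ RuOrder.H :=
    RuOrder.H.mul_mem (RuOrder.H.inv_mem (RuOrder.H.pow_mem hx e)) hσ
  have hc' := commutes_mul (commutes_inv (commutes_pow (g := perm RuSimple.ok5') e)) hc
  have h0 : ((perm RuSimple.ok5' ^ e)⁻¹ * σ) RuOrder.b1 = r := by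
    rw [Equiv.Perm.mul_apply, ← he, inv_self]
  rcases List.mem_cons.1 hr with hr | hr
  · have hr0 : r = RuOrder.b1 := Fin.ext hr
    rw [hr0] at h0
    exact ⟨e, (inv_mul_eq_one.1 (eq_one_of_fix_x hτ hc' h0)).symm⟩
  · exfalso
    have h1 := List.all_eq_true.1 killx _ hr
    exact kill_sound hτ RuSimple.ok5' hc' (a := RuOrder.b1) (w1 := RuOrder.b2) (w2 := RuOrder.b3) h1 h0

/-! ### the centraliser of `f` -/

theorem covf : Nat.beq (iterF [nf] 13 (mask (0 :: 372 :: reps))) U = true := by decide +kernel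

theorem killf : reps.all (fun b => kill nf 14 0 56 0 b) = true := by decide +kernel

theorem fixf0 : Nat.beq (cutO row nf 1 14 0 0 U) (Nat.pow 2 1) = true := by decide +kernel
theorem fixf1 : Nat.beq (cutO row nf 29 14 0 0 (cutO row nf 29 14 1 1 U)) (Nat.pow 2 29) = true := by decide +kernel
theorem fixf2 : Nat.beq (cutO row nf 580 14 0 0 (cutO row nf 580 14 1 1 U)) (Nat.pow 2 580) = true := by
  decide +kernel
theorem fixf3 : Nat.beq (cutO row nf 577 14 0 0 (cutO row nf 577 14 1 1 U)) (Nat.pow 2 577) = true := by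
  decide +kernel

theorem eq_one_of_fix_f {σ : Equiv.Perm (Fin 4060)} (hσ : σ ∈ RuOrder.H)
    (hc : ∀ p : Fin 4060, σ (perm okf p) = perm okf (σ p)) (h0 : σ RuOrder.b1 = RuOrder.b1) : σ = 1 := by
  let p1 : Fin 4060 := ⟨1, by norm_num⟩
  have h1 : σ p1 = p1 := fix_of_cut hσ okf hc (a := RuOrder.b1) (w := p1) h0 (testBit_U _) fixf0
  have key : ∀ w : Fin 4060, (cutO row nf w 14 1 1 U).testBit (σ w) = true := fun w =>
    cutO_sound hσ okf hc w 14 p1 p1 U h1 (testBit_U _)
  exact eq_one_of_base hσ h0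
    (fix_of_cut hσ okf hc (a := RuOrder.b1) (w := RuOrder.b2) h0 (key _) fixf1)
    (fix_of_cut hσ okf hc (a := RuOrder.b1) (w := RuOrder.b3) h0 (key _) fixf2)
    (fix_of_cut hσ okf hc (a := RuOrder.b1) (w := RuOrder.b4) h0 (key _) fixf3)

theorem y_zero : Nat.beq (appF ny 0) 372 = true := by decide +kernel

theorem cent_f {σ : Equiv.Perm (Fin 4060)} (hσ : σ ∈ RuOrder.H)
    (hc : ∀ p : Fin 4060, σ (perm okf p) = perm okf (σ p))
    (hy : ∀ p : Fin 4060, perm oky (perm okf p) = perm okf (perm oky p)) :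
    ∃ e : ℕ, σ = perm okf ^ e ∨ σ = perm okf ^ e * perm oky := by
  obtain ⟨e, r, hr, he⟩ := exists_rep okf covf (σ RuOrder.b1)
  have hτ : (perm okf ^ e)⁻¹ * σ ∈ RuOrder.H :=
    RuOrder.H.mul_mem (RuOrder.H.inv_mem (RuOrder.H.pow_mem memf e)) hσ
  have hc' := commutes_mul (commutes_inv (commutes_pow (g := perm okf) e)) hc
  have h0 : ((perm okf ^ e)⁻¹ * σ) RuOrder.b1 = r := by
    rw [Equiv.Perm.mul_apply, ← he, inv_self]
  refine ⟨e, ?_⟩
  rcases List.mem_cons.1 hr with hr | hr
  · left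
    have hr0 : r = RuOrder.b1 := Fin.ext hr
    rw [hr0] at h0
    exact (inv_mul_eq_one.1 (eq_one_of_fix_f hτ hc' h0)).symm
  rcases List.mem_cons.1 hr with hr | hr
  · right
    have hy0 : perm oky RuOrder.b1 = r := by
      apply Fin.ext
      rw [perm_apply, ← appF_eq, hr]
      exact Nat.eq_of_beq_eq_true y_zero
    have h1 : ((perm oky)⁻¹ * ((perm okf ^ e)⁻¹ * σ)) RuOrder.b1 = RuOrder.b1 := by
      rw [Equiv.Perm.mul_apply, h0, ← hy0, inv_self]
    have h2 := eq_one_of_fix_f (RuOrder.H.mul_mem (RuOrder.H.inv_mem memy) hτ)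
      (commutes_mul (commutes_inv hy) hc') h1
    have h3 := inv_mul_eq_one.1 h2
    rw [h3]
    group
  · exfalso
    have h1 := List.all_eq_true.1 killf _ hr
    exact kill_sound hτ okf hc' (a := RuOrder.b1) (w1 := (⟨56, by norm_num⟩ : Fin 4060)) (w2 := RuOrder.b1) h1 h0

end Cfsg.Agent.OddHalf.Table.RuCent
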