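import Cfsg.Agent.Schreier.RuTr
import Cfsg.Agent.OddHalf.Table.RuCent

/-!
# Conjugate involutions in the Rudvalis group

Words in `x, x⁻¹, f, f⁻¹, y` (`RuCent`) and the three generators of the Sylow 2-subgroup `T` (`Schreier.RuSyl`);
representatives of the fifteen classes of involutions of `T`, twelve of them conjugate to `g 13` (2A) and three to
`g 0` (2B).
-/

set_option autoImplicit false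
set_option maxRecDepth 100000
set_option exponentiation.threshold 5000

namespace Cfsg.Agent.OddHalf.Table.RuInvConj

open Cfsg.Agent.SporadicB Cfsg.Agent.SporadicB.RuData Cfsg.Agent.Lib.BitNet Cfsg.Agent.Lib.BitNetSimple
open Cfsg.Agent.OddHalf.Table.RuNetFY Cfsg.Agent.OddHalf.Table.RuCent
open Cfsg.Agent.Schreier Cfsg.Agent.Schreier.RuNet

/-! ### words -/

/-- the networks of the letters `x, x⁻¹, f, f⁻¹, y` and of the generators of `T` -/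
def net : ℕ → List (ℕ × ℕ)
  | 0 => net5
  | 1 => net5.reverse
  | 2 => nf
  | 3 => nf.reverse
  | 4 => ny
  | 5 => n0
  | 6 => n1
  | _ => n2

theorem mem_net : ∀ l, Mem RuOrder.H (net l)
  | 0 => RuOrder.mem5
  | 1 => Mem.reverse RuOrder.mem5
  | 2 => ⟨okf, memf⟩
  | 3 => Mem.reverse ⟨okf, memf⟩
  | 4 => ⟨oky, memy⟩
  | 5 => ⟨_, RuMem.mem0⟩
  | 6 => ⟨_, RuMem.mem1⟩
  | _ + 7 => ⟨_, RuMem.mem2⟩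

theorem ok_net (l : ℕ) : OkNet 4060 (net l) := (mem_net l).fst

/-- the letters -/
noncomputable def L (l : ℕ) : RuOrder.H := ⟨perm (ok_net l), (mem_net l).snd⟩

/-- value of a word at a point -/
noncomputable def ev : List ℕ → ℕ → ℕ
  | [], p => p
  | l :: w, p => force (ev w p) (appF (net l))

noncomputable def W (w : List ℕ) : RuOrder.H := (w.map L).prod

theorem W_append (u v : List ℕ) : W (u ++ v) = W u * W v := by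
  unfold W; rw [List.map_append, List.prod_append]

theorem W_cons (l : ℕ) (v : List ℕ) : W (l :: v) = L l * W v := by
  unfold W; rw [List.map_cons, List.prod_cons]

theorem W_nil : W [] = 1 := rfl

theorem W_apply (p : Fin 4060) : ∀ w : List ℕ, (((W w : RuOrder.H) : Equiv.Perm (Fin 4060)) p : ℕ) = ev w p
  | [] => rfl
  | l :: w => by
    rw [W_cons]
    change app (net l) (((W w : RuOrder.H) : Equiv.Perm (Fin 4060)) p : ℕ) = _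
    rw [W_apply p w, ev, force_eq, appF_eq]

/-- comparison of two words on the base points -/
noncomputable def eqw (u v : List ℕ) : Bool :=
  cond (Nat.beq (ev u 0) (ev v 0)) (cond (Nat.beq (ev u 29) (ev v 29)) (cond (Nat.beq (ev u 580) (ev v 580))
    (Nat.beq (ev u 577) (ev v 577)) false) false) false

theorem eqw_sound {u v : List ℕ} (h : eqw u v = true) : W u = W v := by
  unfold eqw at h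
  obtain ⟨h1, h⟩ := RuSyl.and_of_cond h
  obtain ⟨h2, h⟩ := RuSyl.and_of_cond h
  obtain ⟨h3, h4⟩ := RuSyl.and_of_cond h
  have key : ∀ b : Fin 4060, Nat.beq (ev u b) (ev v b) = true →
      ((W u : RuOrder.H) : Equiv.Perm (Fin 4060)) b = ((W v : RuOrder.H) : Equiv.Perm (Fin 4060)) b := by
    intro b hb
    apply Fin.ext
    rw [W_apply, W_apply]
    exact Nat.eq_of_beq_eq_true hb
  exact RuSyl.eq_of_base (key _ h1) (key _ h2) (key _ h3) (key _ h4)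

/-- words in the generators of `T` -/
def s5 (w : List ℕ) : List ℕ := w.map (fun l => Nat.add l 5)

theorem L_add_five : ∀ l : ℕ, L (Nat.add l 5) = RuSyl.L l
  | 0 => rfl
  | 1 => rfl
  | _ + 2 => rfl

theorem W_s5 : ∀ w : List ℕ, W (s5 w) = RuSyl.W w
  | [] => rfl
  | l :: w => by
    rw [RuSyl.W_cons, ← W_s5 w, ← L_add_five]
    exact W_cons _ _

/-! ### conjugate involutions -/

/-- `c` conjugates the element of `e` to `g i` -/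
theorem isConj_of_eqw {i : ℕ} {e c : List ℕ}
    (h : eqw (c ++ s5 (RuSyl.ex e)) (s5 (RuSyl.gwd i) ++ c) = true) :
    IsConj (RuSyl.g i) (RuSyl.W (RuSyl.ex e)) := by
  have h1 := eqw_sound h
  rw [W_append, W_append, W_s5, W_s5] at h1
  refine (isConj_iff.2 ⟨W c, ?_⟩ : IsConj (RuSyl.W (RuSyl.ex e)) (RuSyl.g i)).symm
  rw [h1, mul_inv_cancel_right]
  rfl

def c_12 : List ℕ := [
  5, 6, 5, 6, 5, 6, 5, 6, 2, 0, 4, 5, 6, 7, 5, 7, 6, 5, 6, 7, 5, 7, 6, 4, 1, 3, 5, 6, 5, 6, 5, 6, 5, 6, 2, 0,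
  4, 5, 6, 7, 5, 7, 6, 5, 6, 7, 5, 7, 6, 4, 1, 3, 2, 0, 4]
theorem isConj_12 : IsConj (RuSyl.g 13) (RuSyl.W (RuSyl.ex [12])) :=
  isConj_of_eqw (c := c_12) (by decide +kernel)

def c_11 : List ℕ := [
  5, 6, 5, 6, 5, 6, 5, 6, 4, 5, 7, 5, 7, 5, 7, 5, 7, 4, 5, 6, 5, 6, 5, 6, 5, 6, 4, 5, 7, 5, 7, 5, 7, 5, 7, 4,
  4]
theorem isConj_11 : IsConj (RuSyl.g 13) (RuSyl.W (RuSyl.ex [11])) :=
  isConj_of_eqw (c := c_11) (by decide +kernel)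

def c_10 : List ℕ := [
  5, 6, 5, 6, 5, 6, 5, 6, 3, 6, 7, 6, 7, 6, 7, 6, 7, 2, 5, 6, 5, 6, 5, 6, 5, 6, 3, 6, 7, 6, 7, 6, 7, 6, 7, 2,
  3]
theorem isConj_10 : IsConj (RuSyl.g 13) (RuSyl.W (RuSyl.ex [10])) :=
  isConj_of_eqw (c := c_10) (by decide +kernel)

def c_9 : List ℕ := [
  5, 6, 5, 6, 5, 6, 5, 6, 0, 0, 5, 6, 5, 7, 6, 7, 5, 6, 5, 7, 6, 7, 1, 1, 5, 6, 5, 6, 5, 6, 5, 6, 0, 0, 5, 6,
  5, 7, 6, 7, 5, 6, 5, 7, 6, 7, 1, 1, 0, 0]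
theorem isConj_9 : IsConj (RuSyl.g 13) (RuSyl.W (RuSyl.ex [9])) :=
  isConj_of_eqw (c := c_9) (by decide +kernel)

def c_8_9 : List ℕ := [
  5, 6, 5, 6, 5, 6, 5, 6, 2, 5, 6, 7, 5, 6, 7, 5, 6, 7, 5, 6, 7, 5, 6, 5, 7, 6, 7, 5, 6, 5, 7, 6, 7, 3, 5, 6,
  5, 6, 5, 6, 5, 6, 2, 5, 6, 7, 5, 6, 7, 5, 6, 7, 5, 6, 7, 5, 6, 5, 7, 6, 7, 5, 6, 5, 7, 6, 7, 3, 2]
theorem isConj_8_9 : IsConj (RuSyl.g 13) (RuSyl.W (RuSyl.ex [8, 9])) :=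
  isConj_of_eqw (c := c_8_9) (by decide +kernel)

def c_5_6_10 : List ℕ := [
  5, 6, 5, 6, 5, 6, 5, 6, 2, 5, 5, 6, 5, 6, 5, 6, 5, 7, 5, 7, 6, 7, 5, 7, 6, 7, 6, 7, 6, 7, 6, 7, 5, 3, 5, 6,
  5, 6, 5, 6, 5, 6, 2, 5, 5, 6, 5, 6, 5, 6, 5, 7, 5, 7, 6, 7, 5, 7, 6, 7, 6, 7, 6, 7, 6, 7, 5, 3, 2, 5]
theorem isConj_5_6_10 : IsConj (RuSyl.g 13) (RuSyl.W (RuSyl.ex [5, 6, 10])) :=
  isConj_of_eqw (c := c_5_6_10) (by decide +kernel)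

def c_4_7_10 : List ℕ := [
  5, 6, 5, 6, 5, 6, 5, 6, 0, 3, 5, 7, 5, 7, 5, 6, 5, 6, 7, 5, 6, 5, 6, 7, 6, 7, 6, 7, 6, 7, 6, 7, 2, 1, 5, 6,
  5, 6, 5, 6, 5, 6, 0, 3, 5, 7, 5, 7, 5, 6, 5, 6, 7, 5, 6, 5, 6, 7, 6, 7, 6, 7, 6, 7, 6, 7, 2, 1, 0, 3]
theorem isConj_4_7_10 : IsConj (RuSyl.g 13) (RuSyl.W (RuSyl.ex [4, 7, 10])) :=
  isConj_of_eqw (c := c_4_7_10) (by decide +kernel)

def c_3_7_11 : List ℕ := [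
  5, 6, 5, 6, 5, 6, 5, 6, 1, 5, 1, 6, 7, 6, 7, 5, 6, 5, 6, 7, 5, 6, 5, 6, 7, 5, 7, 5, 7, 5, 7, 5, 7, 0, 5, 0,
  5, 6, 5, 6, 5, 6, 5, 6, 1, 5, 1, 6, 7, 6, 7, 5, 6, 5, 6, 7, 5, 6, 5, 6, 7, 5, 7, 5, 7, 5, 7, 5, 7, 0, 5, 0,
  1, 5, 1]
theorem isConj_3_7_11 : IsConj (RuSyl.g 13) (RuSyl.W (RuSyl.ex [3, 7, 11])) :=
  isConj_of_eqw (c := c_3_7_11) (by decide +kernel)

def c_2 : List ℕ := [
  5, 6, 5, 6, 5, 6, 5, 6, 1, 5, 7, 5, 0, 5, 6, 5, 6, 5, 6, 5, 6, 1, 5, 7, 5, 0, 1, 5]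
theorem isConj_2 : IsConj (RuSyl.g 13) (RuSyl.W (RuSyl.ex [2])) :=
  isConj_of_eqw (c := c_2) (by decide +kernel)

def c_1 : List ℕ := [
  5, 6, 5, 6, 5, 6, 5, 6, 2, 6, 2, 6, 3, 6, 3, 5, 6, 5, 6, 5, 6, 5, 6, 2, 6, 2, 6, 3, 6, 3, 2, 6, 2]
theorem isConj_1 : IsConj (RuSyl.g 13) (RuSyl.W (RuSyl.ex [1])) :=
  isConj_of_eqw (c := c_1) (by decide +kernel)

def c_0_7_8_9 : List ℕ := [
  5, 6, 5, 6, 5, 6, 5, 6, 1, 2, 5, 5, 6, 5, 6, 7, 5, 6, 5, 6, 7, 5, 6, 7, 5, 6, 7, 5, 6, 7, 5, 6, 7, 5, 6, 5,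
  7, 6, 7, 5, 6, 5, 7, 6, 7, 3, 0, 5, 6, 5, 6, 5, 6, 5, 6, 1, 2, 5, 5, 6, 5, 6, 7, 5, 6, 5, 6, 7, 5, 6, 7, 5,
  6, 7, 5, 6, 7, 5, 6, 7, 5, 6, 5, 7, 6, 7, 5, 6, 5, 7, 6, 7, 3, 0, 1, 2]
theorem isConj_0_7_8_9 : IsConj (RuSyl.g 13) (RuSyl.W (RuSyl.ex [0, 7, 8, 9])) :=
  isConj_of_eqw (c := c_0_7_8_9) (by decide +kernel)

def c_0_4_5_8 : List ℕ := [
  5, 6, 5, 6, 5, 6, 5, 6, 0, 3, 3, 5, 5, 7, 5, 7, 5, 6, 5, 6, 5, 6, 7, 5, 6, 7, 5, 6, 7, 5, 6, 7, 2, 2, 1, 5,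
  6, 5, 6, 5, 6, 5, 6, 0, 3, 3, 5, 5, 7, 5, 7, 5, 6, 5, 6, 5, 6, 7, 5, 6, 7, 5, 6, 7, 5, 6, 7, 2, 2, 1, 0, 3,
  3]
theorem isConj_0_4_5_8 : IsConj (RuSyl.g 13) (RuSyl.W (RuSyl.ex [0, 4, 5, 8])) :=
  isConj_of_eqw (c := c_0_4_5_8) (by decide +kernel)

def c_3_7_8 : List ℕ := [
  5, 6, 5, 6, 5, 6, 5, 6, 0, 3, 3, 6, 7, 6, 7, 5, 6, 5, 6, 7, 5, 6, 5, 6, 7, 5, 6, 7, 5, 6, 7, 5, 6, 7, 5, 6,
  7, 2, 2, 1, 5, 6, 5, 6, 5, 6, 5, 6, 0, 3, 3, 6, 7, 6, 7, 5, 6, 5, 6, 7, 5, 6, 5, 6, 7, 5, 6, 7, 5, 6, 7, 5,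
  6, 7, 5, 6, 7, 2, 2, 1, 0, 3, 3]
theorem isConj_3_7_8 : IsConj (RuSyl.g 13) (RuSyl.W (RuSyl.ex [3, 7, 8])) :=
  isConj_of_eqw (c := c_3_7_8) (by decide +kernel)

def c_4_6_7_8 : List ℕ := [
  5, 6, 5, 6, 5, 6, 5, 6, 2, 0, 0, 5, 7, 5, 7, 5, 6, 5, 7, 5, 7, 6, 7, 5, 7, 5, 6, 5, 6, 7, 5, 6, 5, 6, 7, 5,
  6, 7, 5, 6, 7, 5, 6, 7, 5, 6, 7, 1, 1, 3, 5, 6, 5, 6, 5, 6, 5, 6, 2, 0, 0, 5, 7, 5, 7, 5, 6, 5, 7, 5, 7, 6,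
  7, 5, 7, 5, 6, 5, 6, 7, 5, 6, 5, 6, 7, 5, 6, 7, 5, 6, 7, 5, 6, 7, 5, 6, 7, 1, 1, 3, 2, 0, 0]
theorem isConj_4_6_7_8 : IsConj (RuSyl.g 13) (RuSyl.W (RuSyl.ex [4, 6, 7, 8])) :=
  isConj_of_eqw (c := c_4_6_7_8) (by decide +kernel)

def c_5_6_7_8 : List ℕ := [
  5, 6, 5, 6, 5, 6, 5, 6, 1, 3, 5, 6, 5, 6, 5, 6, 5, 7, 5, 7, 6, 7, 5, 7, 5, 6, 5, 6, 7, 5, 6, 5, 6, 7, 5, 6,
  7, 5, 6, 7, 5, 6, 7, 5, 6, 7, 2, 0, 5, 6, 5, 6, 5, 6, 5, 6, 1, 3, 5, 6, 5, 6, 5, 6, 5, 7, 5, 7, 6, 7, 5, 7,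
  5, 6, 5, 6, 7, 5, 6, 5, 6, 7, 5, 6, 7, 5, 6, 7, 5, 6, 7, 5, 6, 7, 2, 0, 1, 3]
theorem isConj_5_6_7_8 : IsConj (RuSyl.g 13) (RuSyl.W (RuSyl.ex [5, 6, 7, 8])) :=
  isConj_of_eqw (c := c_5_6_7_8) (by decide +kernel)

def c_4_5_10 : List ℕ := [
  5, 0, 7, 2, 5, 7, 5, 7, 5, 6, 5, 6, 6, 7, 6, 7, 6, 7, 6, 7, 3, 7, 1, 5, 0, 7, 2, 5, 7, 5, 7, 5, 6, 5, 6, 6,
  7, 6, 7, 6, 7, 6, 7, 3, 7, 1, 0, 7, 2]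
theorem isConj_4_5_10 : IsConj (RuSyl.g 0) (RuSyl.W (RuSyl.ex [4, 5, 10])) :=
  isConj_of_eqw (c := c_4_5_10) (by decide +kernel)

def c_0_7_9_10 : List ℕ := [
  5, 1, 1, 6, 0, 5, 5, 6, 5, 6, 7, 5, 6, 5, 6, 7, 5, 6, 5, 7, 6, 7, 5, 6, 5, 7, 6, 7, 6, 7, 6, 7, 6, 7, 6, 7,
  1, 6, 0, 0, 5, 1, 1, 6, 0, 5, 5, 6, 5, 6, 7, 5, 6, 5, 6, 7, 5, 6, 5, 7, 6, 7, 5, 6, 5, 7, 6, 7, 6, 7, 6, 7,
  6, 7, 6, 7, 1, 6, 0, 0, 1, 1, 6, 0]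
theorem isConj_0_7_9_10 : IsConj (RuSyl.g 0) (RuSyl.W (RuSyl.ex [0, 7, 9, 10])) :=
  isConj_of_eqw (c := c_0_7_9_10) (by decide +kernel)

def c_0_4_5_6_7 : List ℕ := [
  5, 1, 3, 7, 1, 5, 5, 7, 5, 7, 5, 6, 5, 6, 5, 6, 5, 7, 5, 7, 6, 7, 5, 7, 5, 6, 5, 6, 7, 5, 6, 5, 6, 7, 0, 7,
  2, 0, 5, 1, 3, 7, 1, 5, 5, 7, 5, 7, 5, 6, 5, 6, 5, 6, 5, 7, 5, 7, 6, 7, 5, 7, 5, 6, 5, 6, 7, 5, 6, 5, 6, 7,
  0, 7, 2, 0, 1, 3, 7, 1]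
theorem isConj_0_4_5_6_7 : IsConj (RuSyl.g 0) (RuSyl.W (RuSyl.ex [0, 4, 5, 6, 7])) :=
  isConj_of_eqw (c := c_0_4_5_6_7) (by decide +kernel)

def c_4_5_6_8 : List ℕ := [
  5, 0, 3, 5, 5, 7, 5, 7, 5, 6, 5, 6, 5, 6, 5, 7, 5, 7, 6, 7, 5, 7, 5, 6, 7, 5, 6, 7, 5, 6, 7, 5, 6, 7, 5, 2,
  1, 5, 0, 3, 5, 5, 7, 5, 7, 5, 6, 5, 6, 5, 6, 5, 7, 5, 7, 6, 7, 5, 7, 5, 6, 7, 5, 6, 7, 5, 6, 7, 5, 6, 7, 5,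
  2, 1, 0, 3, 5]
theorem isConj_4_5_6_8 : IsConj (RuSyl.g 0) (RuSyl.W (RuSyl.ex [4, 5, 6, 8])) :=
  isConj_of_eqw (c := c_4_5_6_8) (by decide +kernel)

theorem isConj_13 : IsConj (RuSyl.g 13) (RuSyl.W (RuSyl.ex [13])) := isConj_of_eqw (c := []) (by decide +kernel)

theorem isConj_0 : IsConj (RuSyl.g 0) (RuSyl.W (RuSyl.ex [0])) := isConj_of_eqw (c := []) (by decide +kernel)

end Cfsg.Agent.OddHalf.Table.RuInvConj
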