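import Cfsg.Agent.OddHalf.Table.NetChain
import Cfsg.Agent.OddHalf.Table.SuzNets
import Cfsg.Agent.OddHalf.Table.SuzRows

/-!
The Suzuki graph on 1782 points: invariance under the networks of `SuzNets` and the kernel checks for the centralisers
of `X` (order 11), `F` (order 10) and `R` (order 12).
-/

set_option autoImplicit false
set_option maxRecDepth 100000
set_option exponentiation.threshold 5000

namespace Cfsg.Agent.OddHalf.Table.SuzGraph

open Cfsg.Agent.Lib Cfsg.Agent.Lib.BitNet Cfsg.Agent.Lib.BitNetSimple Cfsg.Agent.SporRec.R3.Kernel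
  Cfsg.Agent.OddHalf.Table.SuzRows Cfsg.Agent.OddHalf.Table.SuzNets Cfsg.Agent.OddHalf.Table.NetCent
  Cfsg.Agent.OddHalf.Table.NetChain

/-- the blocks of 99 rows -/
def blk (q : ℕ) : ℕ :=
  bif Nat.ble q 8 then
    (bif Nat.ble q 4 then
      (bif Nat.ble q 2 then (bif Nat.beq q 0 then blk0 else bif Nat.beq q 1 then blk1 else blk2)
        else (bif Nat.beq q 3 then blk3 else blk4))
      else (bif Nat.ble q 6 then (bif Nat.beq q 5 then blk5 else blk6)
        else (bif Nat.beq q 7 then blk7 else blk8)))
  else
    (bif Nat.ble q 13 then
      (bif Nat.ble q 11 then (bif Nat.beq q 9 then blk9 else bif Nat.beq q 10 then blk10 else blk11)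
        else (bif Nat.beq q 12 then blk12 else blk13))
      else (bif Nat.ble q 15 then (bif Nat.beq q 14 then blk14 else blk15)
        else (bif Nat.beq q 16 then blk16 else bif Nat.beq q 17 then blk17 else 0)))

/-- the rows of the adjacency matrix -/
def row (i : ℕ) : ℕ :=
  Nat.land (Nat.shiftRight (blk (Nat.div i 99)) (Nat.mul 1782 (Nat.mod i 99))) (Nat.sub (Nat.pow 2 1782) 1)

theorem sym : symCheck 11 row = true := by decide +kernel

theorem okNetX : okNet 1782 nX = true := by decide +kernel
theorem okNetF : okNet 1782 nF = true := by decide +kernel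
theorem okNetY : okNet 1782 nY = true := by decide +kernel
theorem okNetW : okNet 1782 nW = true := by decide +kernel
theorem okNetR : okNet 1782 nR = true := by decide +kernel
theorem okNetT : okNet 1782 nT = true := by decide +kernel

theorem invX : invCheck 11 row nX = true := by decide +kernel
theorem invF : invCheck 11 row nF = true := by decide +kernel
theorem invY : invCheck 11 row nY = true := by decide +kernel
theorem invW : invCheck 11 row nW = true := by decide +kernel
theorem invR : invCheck 11 row nR = true := by decide +kernel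
theorem invT : invCheck 11 row nT = true := by decide +kernel

theorem okX : OkNet 1782 nX := okNet_sound okNetX
theorem okF : OkNet 1782 nF := okNet_sound okNetF
theorem okY : OkNet 1782 nY := okNet_sound okNetY
theorem okW : OkNet 1782 nW := okNet_sound okNetW
theorem okR : OkNet 1782 nR := okNet_sound okNetR
theorem okT : OkNet 1782 nT := okNet_sound okNetT

/-- order 11 -/
noncomputable def X : Equiv.Perm (Fin 1782) := perm okX
/-- order 10 -/
noncomputable def F : Equiv.Perm (Fin 1782) := perm okF
/-- an involution commuting with `F` -/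
noncomputable def Y : Equiv.Perm (Fin 1782) := perm okY
/-- an involution commuting with `R` -/
noncomputable def W : Equiv.Perm (Fin 1782) := perm okW
/-- order 12 -/
noncomputable def R : Equiv.Perm (Fin 1782) := perm okR
/-- an odd involution commuting with `X`, `F`, `Y`, `R` -/
noncomputable def T : Equiv.Perm (Fin 1782) := perm okT

theorem memX : X ∈ Aut 1782 row := perm_mem_Aut (K := 11) (by norm_num) sym invX _
theorem memF : F ∈ Aut 1782 row := perm_mem_Aut (K := 11) (by norm_num) sym invF _
theorem memY : Y ∈ Aut 1782 row := perm_mem_Aut (K := 11) (by norm_num) sym invY _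
theorem memW : W ∈ Aut 1782 row := perm_mem_Aut (K := 11) (by norm_num) sym invW _
theorem memR : R ∈ Aut 1782 row := perm_mem_Aut (K := 11) (by norm_num) sym invR _
theorem memT : T ∈ Aut 1782 row := perm_mem_Aut (K := 11) (by norm_num) sym invT _

theorem acts {l : List (ℕ × ℕ)} (ok : OkNet 1782 l) : Acts (perm ok) (app l) := fun _ => rfl
theorem actsF {l : List (ℕ × ℕ)} (ok : OkNet 1782 l) : Acts (perm ok) (appF l) := fun i => by
  rw [appF_eq]
  rfl

/-! ### triviality -/

theorem trivX : addOrb row (appF nX) (chain 1782 row (appF nX) 11 [216, 0]) 11 14 [] = true := by decide +kernel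
theorem trivF : addOrb row (appF nF) (chain 1782 row (appF nF) 10 [11, 5]) 10 2 [] = true := by decide +kernel
theorem trivR : addOrb row (appF nR) (chain 1782 row (appF nR) 12 [106, 0]) 12 5 [] = true := by decide +kernel

theorem covX : Nat.beq (iterF [nX] 10 (maskOf ([14, 867] ++ repsX))) (Nat.sub (Nat.pow 2 1782) 1) = true := by
  decide +kernel
theorem covF : Nat.beq (iterF [nF] 9 (maskOf ([2, 1022, 816, 683] ++ repsF))) (Nat.sub (Nat.pow 2 1782) 1) = true := by
  decide +kernel
theorem covR : Nat.beq (iterF [nR] 11 (maskOf ([5, 1365, 191, 843] ++ repsR))) (Nat.sub (Nat.pow 2 1782) 1) = true := by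
  decide +kernel

theorem killX : allL (fun r => kill 1782 row (appF nX) 11 14 456 r) repsX = true := by decide +kernel
theorem killF : allL (fun r => kill 1782 row (appF nF) 10 2 161 r) repsF = true := by decide +kernel
theorem killR : allL (fun r => kill 1782 row (appF nR) 12 5 68 r) repsR = true := by decide +kernel

end Cfsg.Agent.OddHalf.Table.SuzGraph
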