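import Cfsg.Agent.Schreier.SuzT
import Cfsg.Agent.OddHalf.Table.SuzGraph

/-!
The presented Suzuki group acts on the Suzuki graph: the homomorphism `ψ` to the permutations of `Fin 1782`, words in
`x, f, y, w, r` (given by the networks of `SuzNets`), relations, generation.
-/

set_option autoImplicit false
set_option maxRecDepth 100000
set_option exponentiation.threshold 5000

namespace Cfsg.Agent.OddHalf.Table.SuzRep

open Cfsg.Spor Cfsg.Agent.Lib.BitNet Cfsg.Agent.Lib.BitNetSimple Cfsg.Agent.SporadicRecognition.SuzPhi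
  Cfsg.Agent.SporadicRecognition.SuzOrder Cfsg.Agent.Schreier.SuzT Cfsg.Agent.OddHalf.Table.SuzNets
  Cfsg.Agent.OddHalf.Table.SuzGraph
open Cfsg.Agent.Lib.PermNet (Net stage WOk wperm ptWord ptWord_eq checkEq testBit_app wperm_eq_of_checkEq wperm_cons
  wperm_nil)

/-! ### networks in the other format -/

noncomputable def toNet (l : List (ℕ × ℕ)) : Net :=
  List.rec (motive := fun _ => Net) .nil (fun p _ ih => .cons p.2 p.1 ih) l

theorem stage_eq (d m x : ℕ) : stage m d x = dsw d m x := by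
  unfold stage dsw
  exact Nat.xor_assoc _ _ _

theorem toNet_app : ∀ (l : List (ℕ × ℕ)) (P : ℕ), (toNet l).app P = appM l P
  | [], _ => rfl
  | p :: l, P => by
    have e : toNet (p :: l) = .cons p.2 p.1 (toNet l) := rfl
    rw [e, Cfsg.Agent.Lib.PermNet.Net.app_cons, toNet_app l, stage_eq]
    rfl

theorem toNet_perm {l : List (ℕ × ℕ)} (hv : Valid l) (ok : (toNet l).ok (2 ^ 11) = true) (p : ℕ) :
    (toNet l).perm p = appInv l p := by
  have h1 := testBit_app ok (2 ^ (toNet l).perm p) p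
  rw [toNet_app, testBit_appM' hv, Nat.testBit_two_pow_self, Nat.testBit_two_pow] at h1
  simpa using h1

/-- the network with the point map `app l` -/
noncomputable def pn (l : List (ℕ × ℕ)) : Net := toNet l.reverse

theorem pn_perm {l : List (ℕ × ℕ)} (h : OkNet 1782 l) (ok : (pn l).ok (2 ^ 11) = true) (p : ℕ) :
    (pn l).perm p = app l p := by
  rw [pn, toNet_perm (okNet_reverse h).valid ok, ← app_reverse, List.reverse_reverse]

theorem oX : (pn nX).ok (2 ^ 11) = true := by decide +kernel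
theorem oF : (pn nF).ok (2 ^ 11) = true := by decide +kernel
theorem oY : (pn nY).ok (2 ^ 11) = true := by decide +kernel
theorem oW : (pn nW).ok (2 ^ 11) = true := by decide +kernel
theorem oR : (pn nR).ok (2 ^ 11) = true := by decide +kernel
theorem oT : (pn nT).ok (2 ^ 11) = true := by decide +kernel
theorem oX' : (toNet nX).ok (2 ^ 11) = true := by decide +kernel
theorem oF' : (toNet nF).ok (2 ^ 11) = true := by decide +kernel

/-! ### the action on the points -/

theorem φ_lt (g : Suz) {p : ℕ} (hp : p < 1782) : φ g p < 1782 := by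
  have key : ∀ q : ℕ, (∃ x ∈ Subgroup.closure S7, φ x 0 = q) ↔ q < 1782 := by
    intro q
    have h1 : q ∈ {p : ℕ | ∃ x ∈ Subgroup.closure S7, φ x 0 = p} ↔ q ∈ {p | U0.testBit p = true} := by rw [orb0]
    rw [Set.mem_ofPred_eq, Set.mem_ofPred_eq, U0_bits, decide_eq_true_eq] at h1
    exact h1
  obtain ⟨x, -, hx⟩ := (key p).2 hp
  refine (key _).1 ⟨g * x, ?_, ?_⟩
  · rw [closure_S7]; exact Subgroup.mem_top _
  · rw [map_mul, Equiv.Perm.mul_apply, hx]

/-- the action on the points -/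
noncomputable def ψ : Suz →* Equiv.Perm (Fin 1782) where
  toFun g :=
    { toFun := fun i => ⟨φ g i, φ_lt g i.2⟩
      invFun := fun i => ⟨φ g⁻¹ i, φ_lt g⁻¹ i.2⟩
      left_inv := fun i => Fin.ext (by
        change φ g⁻¹ (φ g i) = i
        rw [map_inv]
        exact (φ g).symm_apply_apply _)
      right_inv := fun i => Fin.ext (by
        change φ g (φ g⁻¹ i) = i
        rw [map_inv]
        exact (φ g).apply_symm_apply _) }
  map_one' := by
    ext i
    change φ 1 i = i
    rw [map_one]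
    rfl
  map_mul' g h := by
    ext i
    change φ (g * h) i = φ g (φ h i)
    rw [map_mul]
    rfl

theorem ψ_val (g : Suz) (i : Fin 1782) : ((ψ g i : Fin 1782) : ℕ) = φ g i := rfl

theorem ψ_injective : Function.Injective ψ := by
  rw [injective_iff_map_eq_one]
  intro g hg
  apply eq_one_of_fix
  intro q hq
  have hq' : q < 1782 := by
    simp only [List.mem_cons, List.not_mem_nil, or_false] at hq
    rcases hq with rfl | rfl | rfl | rfl | rfl <;> norm_num
  have h1 := ψ_val g ⟨q, hq'⟩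
  rw [hg] at h1
  exact h1.symm

theorem ψ_eq {g : Suz} {l : List (ℕ × ℕ)} (ok : OkNet 1782 l) (h : Rep g (pn l)) : ψ g = perm ok := by
  ext i
  rw [ψ_val, h.1, pn_perm ok h.2]
  rfl

/-! ### elements -/

theorem rep_el {w : List Suz.Gen} {n : Net} (h : n.ok (2 ^ 11) = true) (hw : checkEq 11 (wd w) [n] = true) :
    Rep (el w) n := ⟨by
  rw [φ_el, wperm_eq_of_checkEq (wd_ok _) (WOk.cons h (WOk.nil _)) hw]; simp, h⟩

noncomputable def x : Suz := el [.g, .f, .e, .d, .c, .b]
noncomputable def f : Suz := el [.a, .b, .f, .g, .b, .c, .d, .e, .a, .b, .c, .d, .c, .d, .b, .a, .b, .c, .e, .f, .g, .b,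
  .c, .d, .c, .e, .d, .c, .f, .b, .a, .b, .c, .d, .e, .f, .g]
noncomputable def y : Suz := el [.g, .c, .d, .c, .b, .f, .e, .d, .c, .b, .g, .d, .e, .d, .a, .b, .c, .d, .e, .f, .b, .c,
  .d, .c, .g]
noncomputable def w : Suz := el [.b, .g, .c, .d, .b, .c, .d, .e, .d, .b, .c, .d, .c, .b, .f, .b, .c, .b, .d, .c, .b, .d,
  .e, .d, .c, .b, .d, .c, .g, .b]
noncomputable def r : Suz := f ^ 3 * (y * x)

theorem rX : Rep x (pn nX) := rep_el oX (by decide +kernel)
theorem rF : Rep f (pn nF) := rep_el oF (by decide +kernel)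
theorem rY : Rep y (pn nY) := rep_el oY (by decide +kernel)
theorem rW : Rep w (pn nW) := rep_el oW (by decide +kernel)

theorem rep_inv {g : Suz} {l : List (ℕ × ℕ)} (ok : OkNet 1782 l) (h : Rep g (pn l))
    (h' : (toNet l).ok (2 ^ 11) = true) : Rep g⁻¹ (toNet l) := by
  refine ⟨?_, h'⟩
  rw [map_inv, inv_eq_iff_mul_eq_one]
  ext p
  rw [Equiv.Perm.mul_apply, toNet_perm ok.valid h', h.1, pn_perm ok h.2, app_appInv ok.valid]
  rfl

theorem rX' : Rep x⁻¹ (toNet nX) := rep_inv okX rX oX'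
theorem rF' : Rep f⁻¹ (toNet nF) := rep_inv okF rF oF'

/-- the letters -/
noncomputable def letter : ℕ → Suz
  | 0 => x
  | 1 => x⁻¹
  | 2 => f
  | 3 => f⁻¹
  | 4 => y
  | 5 => w
  | 6 => r
  | 7 => el [.a]
  | 8 => el [.b]
  | 9 => el [.c]
  | 10 => el [.d]
  | 11 => el [.e]
  | 12 => el [.f]
  | _ => el [.g]

/-- the networks of the letters -/
noncomputable def lnet : ℕ → Net
  | 0 => pn nX
  | 1 => toNet nX
  | 2 => pn nF
  | 3 => toNet nF
  | 4 => pn nY
  | 5 => pn nW
  | 6 => pn nR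
  | 7 => net .a
  | 8 => net .b
  | 9 => net .c
  | 10 => net .d
  | 11 => net .e
  | 12 => net .f
  | _ => net .g

theorem rR : Rep r (pn nR) := by
  refine ⟨?_, oR⟩
  have h : checkEq 11 [pn nF, pn nF, pn nF, pn nY, pn nX] [pn nR] = true := by decide +kernel
  have h1 := wperm_eq_of_checkEq (WOk.cons oF (WOk.cons oF (WOk.cons oF (WOk.cons oY (WOk.cons oX (WOk.nil _))))))
    (WOk.cons oR (WOk.nil _)) h
  simp only [wperm_cons, wperm_nil, mul_one] at h1
  rw [← h1, r, map_mul, map_mul, map_pow, rF.1, rY.1, rX.1]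
  simp only [pow_succ, pow_zero, one_mul, mul_assoc]

theorem rep_gen (s : Suz.Gen) : Rep (el [s]) (net s) := ⟨by rw [φ_el]; simp [wd], net_ok s⟩

theorem rep_letter : ∀ l, Rep (letter l) (lnet l)
  | 0 => rX
  | 1 => rX'
  | 2 => rF
  | 3 => rF'
  | 4 => rY
  | 5 => rW
  | 6 => rR
  | 7 => rep_gen .a
  | 8 => rep_gen .b
  | 9 => rep_gen .c
  | 10 => rep_gen .d
  | 11 => rep_gen .e
  | 12 => rep_gen .f
  | _ + 13 => rep_gen .g

noncomputable def Wd (u : List ℕ) : Suz := (u.map letter).prod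

theorem forall₂_map : ∀ u : List ℕ, List.Forall₂ Rep (u.map letter) (u.map lnet)
  | [] => List.Forall₂.nil
  | l :: u => List.Forall₂.cons (rep_letter l) (forall₂_map u)

theorem eqw {u v : List ℕ} (h : checkEq 11 (u.map lnet) (v.map lnet) = true) : Wd u = Wd v :=
  prod_eq (forall₂_map u) (forall₂_map v) h

theorem Wd_cons (l : ℕ) (u : List ℕ) : Wd (l :: u) = letter l * Wd u := by
  unfold Wd; rw [List.map_cons, List.prod_cons]

theorem Wd_nil : Wd [] = 1 := rfl

theorem Wd_append (u v : List ℕ) : Wd (u ++ v) = Wd u * Wd v := by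
  unfold Wd; rw [List.map_append, List.prod_append]

/-- repeat a word -/
def rep (n : ℕ) (u : List ℕ) : List ℕ := (List.replicate n u).flatten

theorem Wd_rep (u : List ℕ) : ∀ n, Wd (rep n u) = Wd u ^ n
  | 0 => by rw [pow_zero]; rfl
  | n + 1 => by
    have e : rep (n + 1) u = u ++ rep n u := by rw [rep, List.replicate_succ, List.flatten_cons]; rfl
    rw [e, Wd_append, Wd_rep u n, pow_succ']

theorem Wd_one (l : ℕ) : Wd [l] = letter l := by rw [Wd_cons, Wd_nil, mul_one]

/-- image of a point -/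
noncomputable def ev (u : List ℕ) (p : ℕ) : ℕ := ptWord (u.map lnet) p

theorem ev_eq (u : List ℕ) (p : ℕ) : ev u p = φ (Wd u) p := by
  rw [ev, ptWord_eq (rep_wok (forall₂_map u)), Wd, rep_prod (forall₂_map u)]

theorem ne_of_ev {u v : List ℕ} {p : ℕ} (h : Nat.beq (ev u p) (ev v p) = false) : Wd u ≠ Wd v := by
  intro e
  rw [ev_eq, ev_eq, e] at h
  have h3 : Nat.beq (φ (Wd v) p) (φ (Wd v) p) = true := by simp
  rw [h3] at h
  exact Bool.false_ne_true h.symm

/-! ### relations -/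

theorem x11 : x ^ 11 = 1 := by
  have h := eqw (u := rep 11 [0]) (v := []) (by decide +kernel)
  rwa [Wd_rep, Wd_one] at h

theorem f10 : f ^ 10 = 1 := by
  have h := eqw (u := rep 10 [2]) (v := []) (by decide +kernel)
  rwa [Wd_rep, Wd_one] at h

theorem r12 : r ^ 12 = 1 := by
  have h := eqw (u := rep 12 [6]) (v := []) (by decide +kernel)
  rwa [Wd_rep, Wd_one] at h

theorem y2 : y * y = 1 := by
  have h := eqw (u := [4, 4]) (v := []) (by decide +kernel)
  rwa [Wd_cons, Wd_one] at h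

theorem w2 : w * w = 1 := by
  have h := eqw (u := [5, 5]) (v := []) (by decide +kernel)
  rwa [Wd_cons, Wd_one] at h

theorem yf : y * f = f * y := by
  have h := eqw (u := [4, 2]) (v := [2, 4]) (by decide +kernel)
  rwa [Wd_cons, Wd_one, Wd_cons, Wd_one] at h

theorem wr : w * r = r * w := by
  have h := eqw (u := [5, 6]) (v := [6, 5]) (by decide +kernel)
  rwa [Wd_cons, Wd_one, Wd_cons, Wd_one] at h

theorem fx : f * x * f⁻¹ = x ^ 2 := by
  have h := eqw (u := [2, 0]) (v := [0, 0, 2]) (by decide +kernel)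
  rw [Wd_cons, Wd_one, Wd_cons, Wd_cons, Wd_one, ← mul_assoc] at h
  rw [mul_inv_eq_iff_eq_mul, pow_two]
  exact h

theorem W_xxy : Wd [0, 0, 4] = x * (x * y) := by rw [Wd_cons, Wd_cons, Wd_one]; rfl

theorem xxy : (x * (x * y)) ^ 11 = 1 := by
  have h := eqw (u := rep 11 [0, 0, 4]) (v := []) (by decide +kernel)
  rwa [Wd_rep, W_xxy] at h

theorem x_ne : x ≠ 1 := by
  have h := ne_of_ev (u := [0]) (v := []) (p := 14) (by decide +kernel)
  rwa [Wd_one] at h

theorem f2_ne : f ^ 2 ≠ 1 := by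
  have h := ne_of_ev (u := rep 2 [2]) (v := []) (p := 2) (by decide +kernel)
  rwa [Wd_rep, Wd_one] at h

theorem f5_ne : f ^ 5 ≠ 1 := by
  have h := ne_of_ev (u := rep 5 [2]) (v := []) (p := 2) (by decide +kernel)
  rwa [Wd_rep, Wd_one] at h

theorem r4_ne : r ^ 4 ≠ 1 := by
  have h := ne_of_ev (u := rep 4 [6]) (v := []) (p := 5) (by decide +kernel)
  rwa [Wd_rep, Wd_one] at h

theorem r6_ne : r ^ 6 ≠ 1 := by
  have h := ne_of_ev (u := rep 6 [6]) (v := []) (p := 5) (by decide +kernel)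
  rwa [Wd_rep, Wd_one] at h

theorem xxfy : (x * (x * (f ^ 5 * y))) ^ 11 ≠ 1 := by
  have h := ne_of_ev (u := rep 11 ([0, 0] ++ (rep 5 [2] ++ [4]))) (v := []) (p := 0) (by decide +kernel)
  rw [Wd_rep, Wd_append, Wd_append, Wd_rep, Wd_one, Wd_one, Wd_cons, Wd_one, mul_assoc] at h
  exact h

end Cfsg.Agent.OddHalf.Table.SuzRep
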